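import Mathlib

set_option autoImplicit false

namespace Cfsg.Agent.Lib.Helper69

open scoped Pointwise

variable {G : Type*} [Group G]

theorem map_conj_eq_smul (g : G) (A : Subgroup G) :
    A.map (MulAut.conj g).toMonoidHom = MulAut.conj g • A := rfl

theorem mem_conj_smul_iff (g x : G) (A : Subgroup G) :
    x ∈ MulAut.conj g • A ↔ g⁻¹ * x * g ∈ A := by
  rw [Subgroup.mem_pointwise_smul_iff_inv_smul_mem, ← map_inv, MulAut.smul_def, MulAut.conj_apply,
    inv_inv]

theorem conj_smul_top (g : G) : MulAut.conj g • (⊤ : Subgroup G) = ⊤ := by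
  ext x
  rw [mem_conj_smul_iff]
  simp

theorem conj_smul_eq_top_iff (g : G) (A : Subgroup G) : MulAut.conj g • A = ⊤ ↔ A = ⊤ := by
  constructor
  · intro h
    have : (MulAut.conj g)⁻¹ • (MulAut.conj g • A) = (MulAut.conj g)⁻¹ • ⊤ := by rw [h]
    rw [inv_smul_smul, ← map_inv, conj_smul_top] at this
    exact this
  · rintro rfl
    exact conj_smul_top g

theorem isCoatom_conj_smul (g : G) (M : Subgroup G) (hM : IsCoatom M) :
    IsCoatom (MulAut.conj g • M) := by
  refine ⟨fun h => hM.1 ((conj_smul_eq_top_iff g M).mp h), ?_⟩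
  intro K hK
  have h1 : M < (MulAut.conj g)⁻¹ • K := by
    constructor
    · rw [← Subgroup.pointwise_smul_subset_iff]; exact hK.le
    · intro h2
      rw [← Subgroup.subset_pointwise_smul_iff] at h2
      exact hK.not_ge h2
  have h3 := hM.2 _ h1
  rw [← map_inv, conj_smul_eq_top_iff] at h3
  exact h3

theorem isCoatom_conj_smul_iff (g : G) (M : Subgroup G) :
    IsCoatom (MulAut.conj g • M) ↔ IsCoatom M := by
  refine ⟨fun h => ?_, isCoatom_conj_smul g M⟩
  have := isCoatom_conj_smul g⁻¹ _ h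
  rwa [map_inv, inv_smul_smul] at this

theorem exists_coatom_ge [Finite G] (H : Subgroup G) (hH : H ≠ ⊤) : ∃ M, IsCoatom M ∧ H ≤ M := by
  rcases eq_top_or_exists_le_coatom H with h | h
  · exact absurd h hH
  · exact h

theorem index_conj_smul (g : G) (M : Subgroup G) : (MulAut.conj g • M).index = M.index := by
  rw [← map_conj_eq_smul]
  exact Subgroup.index_map_of_bijective (MulAut.conj g).bijective M

/-- A subgroup whose index is prime to `r` contains a conjugate of each Sylow `r`-subgroup. -/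
theorem exists_conj_le_of_not_dvd_index [Finite G] {r : ℕ} [Fact r.Prime] (R : Sylow r G)
    (M : Subgroup G) (h : ¬ r ∣ M.index) : ∃ g : G, MulAut.conj g • (R : Subgroup G) ≤ M := by
  have hfix := IsPGroup.nonempty_fixed_point_of_prime_not_dvd_card R.isPGroup' (G ⧸ M)
    (by rwa [← Subgroup.index_eq_card])
  obtain ⟨q, hq⟩ := hfix
  induction q using QuotientGroup.induction_on with
  | H a =>
    refine ⟨a⁻¹, ?_⟩
    intro x hx
    rw [mem_conj_smul_iff, inv_inv] at hx
    have := hq ⟨_, hx⟩
    have h2 : ((a * x * a⁻¹ * a : G) : G ⧸ M) = (a : G ⧸ M) := this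
    rw [QuotientGroup.eq] at h2
    have h3 : (a * x * a⁻¹ * a)⁻¹ * a = x⁻¹ := by group
    rw [h3] at h2
    exact (M.inv_mem_iff).mp h2

end Cfsg.Agent.Lib.Helper69
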