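import Mathlib
import Cfsg.Agent.Lib.Helper69.Conj

set_option autoImplicit false

namespace Cfsg.Agent.Lib.Helper69

open scoped Pointwise commutatorElement

variable {G : Type*} [Group G]

/-- A nontrivial normal subgroup of a nilpotent group meets the centre nontrivially. -/
theorem exists_mem_center_of_normal [hnil : Group.IsNilpotent G] (N : Subgroup G) [hN : N.Normal]
    (hN0 : N ≠ ⊥) : ∃ x ∈ N, x ∈ Subgroup.center G ∧ x ≠ 1 := by
  classical
  obtain ⟨c, hc⟩ := hnil.nilpotent'
  have hex : ∃ n, N ⊓ Subgroup.upperCentralSeries G n ≠ ⊥ := ⟨c, by rw [hc, inf_top_eq]; exact hN0⟩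
  have hmin : ∀ m, m < Nat.find hex → ¬ (N ⊓ Subgroup.upperCentralSeries G m ≠ ⊥) := fun m hm => Nat.find_min hex hm
  have hspec := Nat.find_spec hex
  set n := Nat.find hex with hn
  rcases Nat.eq_zero_or_eq_succ_pred n with h0 | hs
  · rw [h0, Subgroup.upperCentralSeries_zero, inf_bot_eq] at hspec
    exact absurd rfl hspec
  · set k := n.pred with hk
    have hk' : N ⊓ Subgroup.upperCentralSeries G k = ⊥ := by
      by_contra h
      exact hmin k (by omega) h
    obtain ⟨x, hx, hx1'⟩ := (Subgroup.bot_or_exists_ne_one _).resolve_left hspec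
    have hxN : (x : G) ∈ N := hx.1
    have hxZ : (x : G) ∈ Subgroup.upperCentralSeries G (k + 1) := by
      have := hx.2
      rwa [hs] at this
    refine ⟨x, hxN, ?_, hx1'⟩
    rw [Subgroup.mem_center_iff]
    intro y
    have h1 : ⁅(x : G), y⁆ ∈ Subgroup.upperCentralSeries G k :=
      (Subgroup.mem_upperCentralSeries_succ_iff.mp hxZ) y
    have h2 : ⁅(x : G), y⁆ ∈ N := by
      rw [commutatorElement_def]
      have : (x : G) * y * (x : G)⁻¹ * y⁻¹ = x * (y * (x : G)⁻¹ * y⁻¹) := by group
      rw [this]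
      exact N.mul_mem hxN (hN.conj_mem _ (N.inv_mem hxN) y)
    have h3 : ⁅(x : G), y⁆ ∈ N ⊓ Subgroup.upperCentralSeries G k := ⟨h2, h1⟩
    rw [hk', Subgroup.mem_bot, commutatorElement_def] at h3
    calc y * x = (x * y * (x : G)⁻¹ * y⁻¹)⁻¹ * (x * y) := by group
      _ = x * y := by rw [h3, inv_one, one_mul]

end Cfsg.Agent.Lib.Helper69

namespace Cfsg.Agent.Lib.Helper69

open scoped Pointwise

variable {G : Type*} [Group G]

theorem card_comap_mk' [Finite G] (N' : Subgroup G) [N'.Normal] (Z : Subgroup (G ⧸ N')) :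
    Nat.card ↥(Z.comap (QuotientGroup.mk' N')) = Nat.card ↥N' * Nat.card ↥Z := by
  have := QuotientGroup.card_preimage_mk N' (Z : Set (G ⧸ N'))
  exact this

theorem normal_of_le_center (H : Subgroup G) (h : H ≤ Subgroup.center G) : H.Normal := by
  constructor
  intro n hn g
  have := Subgroup.mem_center_iff.mp (h hn) g
  have e : g * n * g⁻¹ = n := by rw [this]; group
  rw [e]; exact hn

/-- In a nilpotent group, a normal `p`-subgroup `N` and a smaller normal subgroup `N'`:
there is a normal subgroup in between of index `p` over `N'`. -/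
theorem exists_normal_step [Finite G] [Group.IsNilpotent G] {p : ℕ} [hp : Fact p.Prime]
    (N N' : Subgroup G) [hNn : N.Normal] [hN'n : N'.Normal] (hNp : IsPGroup p N) (hle : N' ≤ N)
    (hne : N' ≠ N) :
    ∃ N'' : Subgroup G, N''.Normal ∧ N' ≤ N'' ∧ N'' ≤ N ∧ Nat.card N'' = p * Nat.card N' := by
  set π := QuotientGroup.mk' N' with hπ
  have hsurj : Function.Surjective π := QuotientGroup.mk'_surjective N'
  have hNbar_n : (N.map π).Normal := hNn.map π hsurj
  have hNbar0 : N.map π ≠ ⊥ := by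
    intro h
    rw [(Subgroup.map_eq_bot_iff N)] at h
    rw [QuotientGroup.ker_mk'] at h
    exact hne (le_antisymm hle h)
  obtain ⟨x, hxN, hxZ, hx1⟩ := exists_mem_center_of_normal (N.map π) hNbar0
  have hNbar_p : IsPGroup p (N.map π) := hNp.map π
  obtain ⟨k, hk⟩ := (IsPGroup.iff_orderOf.mp hNbar_p) ⟨x, hxN⟩
  rw [← Subgroup.orderOf_coe] at hk
  simp only at hk
  have hk0 : k ≠ 0 := by
    rintro rfl
    rw [pow_zero, orderOf_eq_one_iff] at hk
    exact hx1 hk
  set y := x ^ (p ^ (k - 1)) with hy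
  have hppos : 0 < p := hp.out.pos
  have hoy : orderOf y = p := by
    rw [hy, orderOf_pow, hk]
    have hd : p ^ (k - 1) ∣ p ^ k := pow_dvd_pow p (Nat.sub_le _ _)
    rw [Nat.gcd_eq_right hd, Nat.pow_div (Nat.sub_le _ _) hppos]
    have : k - (k - 1) = 1 := by omega
    rw [this, pow_one]
  have hyN : y ∈ N.map π := Subgroup.pow_mem _ hxN _
  have hyZ : y ∈ Subgroup.center (G ⧸ N') := Subgroup.pow_mem _ hxZ _
  have hZn : (Subgroup.zpowers y).Normal :=
    normal_of_le_center _ (Subgroup.zpowers_le.mpr hyZ)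
  refine ⟨(Subgroup.zpowers y).comap π, hZn.comap π, ?_, ?_, ?_⟩
  · intro a ha
    rw [Subgroup.mem_comap]
    have : π a = 1 := (QuotientGroup.eq_one_iff a).mpr ha
    rw [this]; exact Subgroup.one_mem _
  · have h1 : (Subgroup.zpowers y).comap π ≤ (N.map π).comap π :=
      Subgroup.comap_mono (Subgroup.zpowers_le.mpr hyN)
    rw [Subgroup.comap_map_eq, QuotientGroup.ker_mk', sup_of_le_left hle] at h1
    exact h1
  · rw [card_comap_mk', Nat.card_zpowers, hoy, mul_comm]

/-- In a nilpotent group, a normal `p`-subgroup of order `p ^ i` contains normal subgroups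
(of the whole group) of every order `p ^ j`, `j ≤ i`. -/
theorem exists_normal_le_card [Finite G] [Group.IsNilpotent G] {p : ℕ} [hp : Fact p.Prime]
    (N : Subgroup G) [hNn : N.Normal] (i : ℕ) (hN : Nat.card N = p ^ i) (j : ℕ) (hj : j ≤ i) :
    ∃ N' : Subgroup G, N'.Normal ∧ N' ≤ N ∧ Nat.card N' = p ^ j := by
  induction j with
  | zero => exact ⟨⊥, inferInstance, bot_le, by simp⟩
  | succ j ih =>
    obtain ⟨N', hN'n, hN'le, hN'card⟩ := ih (by omega)
    have hne : N' ≠ N := by
      intro h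
      rw [h, hN] at hN'card
      have := Nat.pow_right_injective hp.out.two_le hN'card
      omega
    obtain ⟨N'', h1, -, h3, h4⟩ := exists_normal_step N N' (IsPGroup.of_card hN) hN'le hne
    exact ⟨N'', h1, h3, by rw [h4, hN'card, pow_succ']⟩

end Cfsg.Agent.Lib.Helper69
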