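import Mathlib
import Cfsg.Agent.Lib.Helper69.Conj

set_option autoImplicit false

namespace Cfsg.Agent.Lib.Helper69

open scoped Pointwise

variable {G : Type*} [Group G]

/-- Normalizers grow in finite `p`-groups (relative version inside an ambient group). -/
theorem exists_mem_normalizer_notMem {p : ℕ} [Fact p.Prime] (P D : Subgroup G) [Finite P]
    (hP : IsPGroup p P) (hDP : D < P) :
    ∃ x ∈ P, x ∉ D ∧ x ∈ Subgroup.normalizer (D : Set G) := by
  have : Group.IsNilpotent ↥P := hP.isNilpotent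
  have hnc : NormalizerCondition ↥P := Group.normalizerCondition_of_isNilpotent
  have hlt : D.subgroupOf P < ⊤ := by
    rw [lt_top_iff_ne_top, Ne, Subgroup.subgroupOf_eq_top]
    exact not_le_of_gt hDP
  have h2 := hnc _ hlt
  rw [← Subgroup.subgroupOf_normalizer_eq hDP.le] at h2
  obtain ⟨x, hx1, hx2⟩ := SetLike.exists_of_lt h2
  exact ⟨x, x.2, hx2, hx1⟩

/-- If a Sylow subgroup `S` of a subgroup `H` is normal in `H`, then its image in `G` is a
`p`-subgroup stable under `H` containing all `p`-subgroups of `H`. -/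
theorem exists_normal_sylow_image {p : ℕ} [Fact p.Prime] [Finite G] (H : Subgroup G)
    (hH : ∀ S : Sylow p ↥H, (S : Subgroup ↥H).Normal) :
    ∃ S₀ : Subgroup G, S₀ ≤ H ∧ IsPGroup p S₀ ∧ (∀ h ∈ H, MulAut.conj h • S₀ = S₀) ∧
      ∀ A : Subgroup G, A ≤ H → IsPGroup p A → A ≤ S₀ := by
  let S : Sylow p ↥H := default
  have hS : (S : Subgroup ↥H).Normal := hH S
  refine ⟨(S : Subgroup ↥H).map H.subtype, Subgroup.map_subtype_le _, S.isPGroup'.map _, ?_, ?_⟩
  · have hle : ∀ h ∈ H, MulAut.conj h • (S : Subgroup ↥H).map H.subtype ≤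
        (S : Subgroup ↥H).map H.subtype := by
      intro h hh x hx
      rw [mem_conj_smul_iff] at hx
      obtain ⟨s, hs, hsx⟩ := hx
      have h3 := hS.conj_mem s hs ⟨h, hh⟩
      refine ⟨⟨h, hh⟩ * s * ⟨h, hh⟩⁻¹, h3, ?_⟩
      simp only [Subgroup.subtype_apply, Subgroup.coe_mul, Subgroup.coe_inv] at hsx ⊢
      rw [hsx]; group
    intro h hh
    apply le_antisymm (hle h hh)
    rw [Subgroup.subset_pointwise_smul_iff, ← map_inv]
    exact hle h⁻¹ (H.inv_mem hh)
  · intro A hAH hA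
    have hA' : IsPGroup p (A.subgroupOf H) := hA.comap_subtype
    obtain ⟨S', hS'⟩ := hA'.exists_le_sylow
    obtain ⟨h, hh⟩ := MulAction.exists_smul_eq (↥H) S S'
    rw [Sylow.smul_eq_of_normal] at hh
    intro a ha
    have : (⟨a, hAH ha⟩ : ↥H) ∈ (S' : Subgroup ↥H) := hS' (by
      rw [Subgroup.mem_subgroupOf]; exact ha)
    rw [← hh] at this
    exact ⟨⟨a, hAH ha⟩, this, rfl⟩

end Cfsg.Agent.Lib.Helper69
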