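import Cfsg.Agent.Lib.Helper55.FitUniq2
import Cfsg.Agent.Lib.Helper54.Conj

/-!
# Bender–Glauberman, Theorem 10.1

For a maximal subgroup `M` of a minimal simple group of odd order, `p ∈ σ(M)` and a nontrivial
`p`-subgroup `X`, the centralizer `C_G(X)` permutes transitively the conjugates of `M` containing `X`.
The Uniqueness Theorem enters as the hypothesis `UniqThm G`.
-/

set_option autoImplicit false
set_option linter.unusedSectionVars false
set_option linter.unusedVariables false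

namespace Cfsg.Agent.Lib.Helper69.BG10

open Cfsg
open Cfsg.Agent.Lib.Helper55

variable {G : Type*} [Group G] [Finite G] {p : ℕ} [Fact p.Prime]

/-- the Uniqueness Theorem, as a hypothesis -/
def UniqThm (G : Type*) [Group G] : Prop :=
  ∀ K : Subgroup G, K ≠ ⊤ → ¬ RankLE 1 K →
    (¬ RankLE 2 K ∨ ¬ RankLE 2 (Subgroup.centralizer (K : Set G))) → InUniqueMaximal K

/-- `S` is a Sylow `p`-subgroup of `G` inside `M'` whose normalizer lies in `M'` -/
def Good (p : ℕ) (S M' : Subgroup G) : Prop :=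
  IsSylowIn p ⊤ S ∧ S ≤ M' ∧ Subgroup.normalizer (S : Set G) ≤ M'

theorem good_cj {S M' : Subgroup G} (h : Good p S M') (g : G) : Good p (cj g S) (cj g M') := by
  refine ⟨?_, cj_mono h.2.1, ?_⟩
  · have := isSylowIn_cj h.1 g
    rwa [cj_top] at this
  · rw [← cj_normalizer]; exact cj_mono h.2.2

theorem exists_good_of_sigma {M : Subgroup G} (hp : p ∈ sigma M) : ∃ S, Good p S M := by
  obtain ⟨-, -, P, hP⟩ := hp
  have h1 : IsSylowIn p M ((P : Subgroup M).map M.subtype) := isSylowIn_of_sylow P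
  refine ⟨(P : Subgroup M).map M.subtype, ⟨le_top, h1.2.1, ?_⟩, Subgroup.map_subtype_le _, hP⟩
  intro T' _ hT'p hle
  exact h1.eq_of_normalizer_le hT'p hle (inf_le_right.trans hP)

theorem Good.sylowIn {S M' : Subgroup G} (h : Good p S M') : IsSylowIn p M' S :=
  ⟨h.2.1, h.1.2.1, fun T' _ hT'p hle => h.1.2.2 T' le_top hT'p hle⟩

theorem exists_good_ge {S₀ M' Y : Subgroup G} (h : Good p S₀ M') (hY : IsPGroup p Y)
    (hYM : Y ≤ M') : ∃ S, Good p S M' ∧ Y ≤ S := by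
  obtain ⟨k, hk, hkY⟩ := h.sylowIn.exists_conj_le hYM hY
  refine ⟨cj k⁻¹ S₀, ?_, cj_le_iff.mp hkY⟩
  have := good_cj h k⁻¹
  rwa [cj_eq_self_of_mem (M'.inv_mem hk)] at this

theorem good_unique {S M₁ : Subgroup G} (h : Good p S M₁) (x : G) (hS : S ≤ cj x M₁) :
    cj x M₁ = M₁ := by
  have h2 : Good p (cj x S) (cj x M₁) := good_cj h x
  have hs1 : IsSylowIn p (cj x M₁) S :=
    ⟨hS, h.1.2.1, fun T' _ hT'p hle => h.1.2.2 T' le_top hT'p hle⟩
  obtain ⟨m, hm, hmS⟩ := hs1.exists_conj h2.sylowIn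
  have h3 : cj (m⁻¹ * x) S = S := by rw [cj_mul, ← hmS, cj_inv_cj]
  have h4 : m⁻¹ * x ∈ M₁ := h.2.2 (cj_eq_self_iff.mp h3)
  have h5 : cj (m⁻¹ * x) M₁ = M₁ := cj_eq_self_of_mem h4
  have h6 : cj x M₁ = cj m M₁ := by
    have e : cj x M₁ = cj (m * (m⁻¹ * x)) M₁ := by congr 1; group
    rw [e, cj_mul, h5]
  have h7 : cj m⁻¹ (cj x M₁) = cj x M₁ := cj_eq_self_of_mem ((cj x M₁).inv_mem hm)
  rw [h6, cj_inv_cj] at h7
  rw [h6]; exact h7.symm

/-- Frattini inside an ambient group, with the normalizer taken inside `H` -/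
theorem le_opc_sup_inf_normalizer {H R : Subgroup G} (hR : IsSylowIn p H R) :
    H ≤ opc p H ⊔ (H ⊓ Subgroup.normalizer ((R ⊓ oppc p H : Subgroup G) : Set G)) := by
  have h1 := pPrimeCore_sup_normalizer_eq_top (hR.toSylow)
  have h2 := congrArg (Subgroup.map H.subtype) h1
  rw [Subgroup.map_sup, ← MonoidHom.range_eq_map, Subgroup.range_subtype] at h2
  have h3 : (Subgroup.normalizer
      ((((hR.toSylow : Sylow p H) : Subgroup H) ⊓ pPrimePCore p ↥H : Subgroup H) : Set H)).map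
        H.subtype ≤ H ⊓ Subgroup.normalizer ((R ⊓ oppc p H : Subgroup G) : Set G) := by
    refine le_inf (Subgroup.map_subtype_le _) ?_
    refine (Subgroup.le_normalizer_map _).trans (le_of_eq ?_)
    rw [Subgroup.map_inf _ _ _ H.subtype_injective, hR.map_toSylow]
    rfl
  intro x hx
  rw [← h2] at hx
  exact (sup_le_sup (le_refl (opc p H)) h3) hx

theorem card_lt_of_lt {X Y : Subgroup G} (h : X < Y) : Nat.card X < Nat.card Y := by
  by_contra hcon
  exact h.ne (Subgroup.eq_of_le_of_card_ge h.le (not_lt.mp hcon))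

theorem not_rankLE_of_not_pRankLE {R : Subgroup G} (hr : ¬ PRankLE p 2 ↥R) :
    ¬ RankLE 1 ↥R ∧ ¬ RankLE 2 ↥R := by
  have hp : p.Prime := Fact.out
  refine ⟨fun h => hr ?_, fun h => hr (h p hp)⟩
  intro A hAc hAe
  have := h p hp A hAc hAe
  calc Nat.card A ≤ p ^ 1 := this
    _ ≤ p ^ 2 := Nat.pow_le_pow_right hp.pos (by norm_num)

/-- the key step: `N_G(X) ⊆ C_G(X) M'` when `M'` contains a Sylow `p`-subgroup `R` of `N_G(X)`, given
transitivity for the larger group `R` -/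
theorem normalizer_decomp (hG : IsMinSimpleOddOrder G) (hU : UniqThm G) {M' X R : Subgroup G}
    (hM' : IsCoatom M') (hXp : IsPGroup p X) (hX1 : X ≠ ⊥)
    (hR : IsSylowIn p (Subgroup.normalizer (X : Set G)) R) (hXR : X ≤ R) (hRM : R ≤ M')
    (hT : ∀ n' ∈ Subgroup.normalizer (R : Set G),
      ∃ c ∈ Subgroup.centralizer (X : Set G), cj n' M' = cj c M')
    {n₀ : G} (hn₀ : n₀ ∈ Subgroup.normalizer (X : Set G)) :
    ∃ c₄ ∈ Subgroup.centralizer (X : Set G), ∃ m ∈ M', n₀ = c₄ * m := by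
  have hp : p.Prime := Fact.out
  have hN : Subgroup.normalizer (X : Set G) ≠ ⊤ :=
    ms_normalizer_ne_top hG hX1 (ms_pgroup_ne_top hG hXp)
  have hR1 : R ≠ ⊥ := by
    rintro rfl
    exact hX1 (le_bot_iff.mp hXR)
  have hM'1 : M' ≠ ⊥ := by
    rintro rfl
    exact hR1 (le_bot_iff.mp hRM)
  have hNM' : Subgroup.normalizer (M' : Set G) = M' :=
    ms_normalizer_eq hG hM' hM'1 le_rfl Subgroup.le_normalizer
  by_cases hr : PRankLE p 2 ↥R
  · have hNs : Group.IsSolvable ↥(Subgroup.normalizer (X : Set G)) := ms_solvable hG hN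
    have hNodd := ms_odd hG (Subgroup.normalizer (X : Set G))
    have h1 : R ≤ oppc p (Subgroup.normalizer (X : Set G)) :=
      le_oppc_of_pRankLE hNs hNodd hR hR1 hr
    have h2 := le_opc_sup_inf_normalizer hR
    rw [inf_eq_left.mpr h1] at h2
    have hB : Subgroup.normalizer (X : Set G) ⊓ Subgroup.normalizer (R : Set G) ≤
        Subgroup.normalizer ((opc p (Subgroup.normalizer (X : Set G)) : Subgroup G) : Set G) :=
      inf_le_left.trans (le_normalizer_opc p _)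
    obtain ⟨k, hk, n', hn', hkn⟩ :=
      Cfsg.Agent.Lib.Helper54.exists_mul_of_mem_sup_of_le_normalizer hB (h2 hn₀)
    have hkC : k ∈ Subgroup.centralizer (X : Set G) := by
      have hcop : (Nat.card (opc p (Subgroup.normalizer (X : Set G)))).Coprime (Nat.card X) := by
        obtain ⟨e, he⟩ := IsPGroup.iff_card.mp hXp
        rw [he]
        exact Nat.Coprime.pow_right e (card_opc_coprime _)
      have hdisj : opc p (Subgroup.normalizer (X : Set G)) ⊓ X = ⊥ :=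
        (Subgroup.disjoint_of_coprime_natCard hcop).eq_bot
      exact Cfsg.Agent.Lib.Helper55.le_centralizer_of_normalizes (opc_le p _)
        (Subgroup.le_normalizer.trans (le_normalizer_opc p _)) hdisj hk
    obtain ⟨c₅, hc₅, e₅⟩ := hT n' hn'.2
    have h3 : cj (c₅⁻¹ * n') M' = M' := by rw [cj_mul, e₅, cj_inv_cj]
    have h4 : c₅⁻¹ * n' ∈ M' := by
      have := cj_eq_self_iff.mp h3
      rwa [hNM'] at this
    refine ⟨k * c₅, Subgroup.mul_mem _ hkC hc₅, c₅⁻¹ * n', h4, ?_⟩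
    rw [hkn]; group
  · obtain ⟨h1, h2⟩ := not_rankLE_of_not_pRankLE hr
    obtain ⟨L₀, -, huniq⟩ := hU R (ms_pgroup_ne_top hG hR.2.1) h1 (Or.inl h2)
    obtain ⟨L, hL, hNL⟩ := ms_exists_coatom_ge hN
    have e1 : L = L₀ := huniq L ⟨hL, hR.1.trans hNL⟩
    have e2 : M' = L₀ := huniq M' ⟨hM', hRM⟩
    refine ⟨1, Subgroup.one_mem _, n₀, ?_, (one_mul _).symm⟩
    rw [e2, ← e1]
    exact hNL hn₀

/-- transitivity of `C_G(X)` on the conjugates of `M` containing `X` -/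
def Trans (M X : Subgroup G) : Prop :=
  ∀ g₁ g₂ : G, X ≤ cj g₁ M → X ≤ cj g₂ M →
    ∃ c ∈ Subgroup.centralizer (X : Set G), cj g₂ M = cj c (cj g₁ M)

theorem step_one {M X : Subgroup G} (hXp : IsPGroup p X)
    (IH : ∀ Y : Subgroup G, X < Y → IsPGroup p Y → Trans M Y) {g : G} {S : Subgroup G}
    (hS : Good p S (cj g M)) (hXS : X < S) :
    ∃ R, IsSylowIn p (Subgroup.normalizer (X : Set G)) R ∧ X < R ∧
      ∃ h : G, R ≤ cj h M ∧ ∃ c ∈ Subgroup.centralizer (X : Set G), cj h M = cj c (cj g M) := by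
  obtain ⟨s, hsS, hsN, hsX⟩ := exists_mem_normalizer_not_mem hS.1.2.1 hXS
  have hXQ : X < S ⊓ Subgroup.normalizer (X : Set G) := by
    refine lt_of_le_of_ne (le_inf hXS.le Subgroup.le_normalizer) ?_
    intro e
    apply hsX
    rw [e]
    exact ⟨hsS, hsN⟩
  have hQp : IsPGroup p ↥(S ⊓ Subgroup.normalizer (X : Set G)) := hS.1.2.1.to_le inf_le_left
  obtain ⟨R, hR, hQR⟩ := exists_isSylowIn_ge
    (inf_le_right : S ⊓ Subgroup.normalizer (X : Set G) ≤ Subgroup.normalizer (X : Set G)) hQp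
  obtain ⟨S', hS', hRS'⟩ := exists_isSylowIn_ge (le_top : R ≤ ⊤) hR.2.1
  obtain ⟨x, -, hx⟩ := hS.1.exists_conj hS'
  have hg := good_cj hS x
  rw [hx, ← cj_mul] at hg
  refine ⟨R, hR, lt_of_lt_of_le hXQ hQR, x * g, hRS'.trans hg.2.1, ?_⟩
  obtain ⟨c, hc, e⟩ := IH _ hXQ hQp g (x * g) (inf_le_left.trans hS.2.1)
    (hQR.trans (hRS'.trans hg.2.1))
  exact ⟨c, Subgroup.centralizer_le hXQ.le hc, e⟩

theorem trans_aux (hG : IsMinSimpleOddOrder G) (hU : UniqThm G) {M : Subgroup G}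
    (hM : IsCoatom M) (hp : p ∈ sigma M) :
    ∀ (n : ℕ) (X : Subgroup G), Nat.card G - Nat.card X = n → IsPGroup p X → X ≠ ⊥ →
      Trans M X := by
  intro n
  induction n using Nat.strong_induction_on with
  | _ n ih =>
    intro X hn hXp hX1 g₁ g₂ h₁ h₂
    have IH : ∀ Y : Subgroup G, X < Y → IsPGroup p Y → Trans M Y := by
      intro Y hXY hYp
      refine ih (Nat.card G - Nat.card Y) ?_ Y rfl hYp (ne_bot_of_gt hXY)
      have h1 := card_lt_of_lt hXY
      have h2 := Subgroup.card_le_card_group Y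
      omega
    obtain ⟨S₀, hS₀⟩ := exists_good_of_sigma hp
    obtain ⟨S₁, hS₁, hXS₁⟩ := exists_good_ge (good_cj hS₀ g₁) hXp h₁
    obtain ⟨S₂, hS₂, hXS₂⟩ := exists_good_ge (good_cj hS₀ g₂) hXp h₂
    by_cases e₁ : X = S₁
    · subst e₁
      have := good_unique hS₁ (g₂ * g₁⁻¹) (by rw [cj_mul, cj_inv_cj]; exact h₂)
      rw [cj_mul, cj_inv_cj] at this
      exact ⟨1, Subgroup.one_mem _, by rw [cj_one]; exact this⟩
    by_cases e₂ : X = S₂
    · subst e₂
      have := good_unique hS₂ (g₁ * g₂⁻¹) (by rw [cj_mul, cj_inv_cj]; exact h₁)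
      rw [cj_mul, cj_inv_cj] at this
      exact ⟨1, Subgroup.one_mem _, by rw [cj_one]; exact this.symm⟩
    obtain ⟨R₁, hR₁, hXR₁, k₁, hRk₁, c₁, hc₁, E₁⟩ :=
      step_one hXp IH hS₁ (lt_of_le_of_ne hXS₁ e₁)
    obtain ⟨R₂, hR₂, hXR₂, k₂, hRk₂, c₂, hc₂, E₂⟩ :=
      step_one hXp IH hS₂ (lt_of_le_of_ne hXS₂ e₂)
    obtain ⟨n₀, hn₀, hn₀R⟩ := hR₁.exists_conj hR₂
    have hM₁ : IsCoatom (cj k₁ M) := isCoatom_cj k₁ hM
    obtain ⟨c₃, hc₃, E₃⟩ := IH R₂ hXR₂ hR₂.2.1 (n₀ * k₁) k₂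
      (by rw [cj_mul, ← hn₀R]; exact cj_mono hRk₁) hRk₂
    have hT : ∀ n' ∈ Subgroup.normalizer (R₁ : Set G),
        ∃ c ∈ Subgroup.centralizer (X : Set G), cj n' (cj k₁ M) = cj c (cj k₁ M) := by
      intro n' hn'
      have h3 : R₁ ≤ cj (n' * k₁) M := by
        rw [cj_mul]
        calc R₁ = cj n' R₁ := (cj_eq_self_iff.mpr hn').symm
          _ ≤ _ := cj_mono hRk₁
      obtain ⟨c, hc, e⟩ := IH R₁ hXR₁ hR₁.2.1 k₁ (n' * k₁) hRk₁ h3
      exact ⟨c, Subgroup.centralizer_le hXR₁.le hc, by rw [← cj_mul]; exact e⟩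
    obtain ⟨c₄, hc₄, m, hm, E₄⟩ :=
      normalizer_decomp hG hU hM₁ hXp hX1 hR₁ hXR₁.le hRk₁ hT hn₀
    have E₅ : cj n₀ (cj k₁ M) = cj c₄ (cj k₁ M) := by
      rw [E₄, cj_mul, cj_eq_self_of_mem hm]
    refine ⟨c₂⁻¹ * c₃ * c₄ * c₁, ?_, ?_⟩
    · exact Subgroup.mul_mem _ (Subgroup.mul_mem _ (Subgroup.mul_mem _ (Subgroup.inv_mem _ hc₂)
        (Subgroup.centralizer_le hXR₂.le hc₃)) hc₄) hc₁
    · have e6 : cj g₂ M = cj c₂⁻¹ (cj k₂ M) := by rw [E₂, cj_inv_cj]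
      rw [e6, E₃, cj_mul n₀, E₅, E₁, ← cj_mul, ← cj_mul, ← cj_mul]

/-- Bender–Glauberman Theorem 10.1(a), transitivity form -/
theorem trans_main (hG : IsMinSimpleOddOrder G) (hU : UniqThm G) {M : Subgroup G}
    (hM : IsCoatom M) (hp : p ∈ sigma M) {X : Subgroup G} (hXp : IsPGroup p X) (hX1 : X ≠ ⊥) :
    Trans M X :=
  trans_aux hG hU hM hp _ X rfl hXp hX1

/-- Bender–Glauberman Theorem 10.1 -/
theorem sigma_conj (hG : IsMinSimpleOddOrder G) (hU : UniqThm G) {M : Subgroup G}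
    (hM : IsCoatom M) (hp : p ∈ sigma M) {X : Subgroup G} (hXp : IsPGroup p X) (hX1 : X ≠ ⊥)
    (hXM : X ≤ M) :
    (∀ g : G, cj g X ≤ M → ∃ m ∈ M, ∃ c ∈ Subgroup.centralizer (X : Set G), g = m * c) ∧
      Subgroup.normalizer (X : Set G) =
        (M ⊓ Subgroup.normalizer (X : Set G)) ⊔ Subgroup.centralizer (X : Set G) := by
  have hM1 : M ≠ ⊥ := by
    rintro rfl
    exact hX1 (le_bot_iff.mp hXM)
  have hNM : Subgroup.normalizer (M : Set G) = M :=
    ms_normalizer_eq hG hM hM1 le_rfl Subgroup.le_normalizer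
  have key : ∀ g : G, cj g X ≤ M →
      ∃ m ∈ M, ∃ c ∈ Subgroup.centralizer (X : Set G), g = m * c := by
    intro g hg
    have h2 : X ≤ cj g⁻¹ M := cj_le_iff.mp hg
    have h1 : X ≤ cj 1 M := by rw [cj_one]; exact hXM
    obtain ⟨c, hc, e⟩ := trans_main hG hU hM hp hXp hX1 1 g⁻¹ h1 h2
    rw [cj_one] at e
    have h3 : cj (g * c) M = M := by rw [cj_mul, ← e, cj_cj_inv]
    have h4 : g * c ∈ M := by
      have := cj_eq_self_iff.mp h3
      rwa [hNM] at this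
    exact ⟨g * c, h4, c⁻¹, Subgroup.inv_mem _ hc, by group⟩
  refine ⟨key, le_antisymm ?_ (sup_le inf_le_right (Subgroup.centralizer_le_normalizer _))⟩
  intro n hn
  have h5 : cj n X ≤ M := by rw [cj_eq_self_iff.mpr hn]; exact hXM
  obtain ⟨m, hm, c, hc, e⟩ := key n h5
  rw [e]
  refine Subgroup.mul_mem _ (Subgroup.mem_sup_left ⟨hm, ?_⟩) (Subgroup.mem_sup_right hc)
  have : m = n * c⁻¹ := by rw [e]; group
  rw [this]
  exact Subgroup.mul_mem _ hn (Subgroup.centralizer_le_normalizer _ (Subgroup.inv_mem _ hc))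

end Cfsg.Agent.Lib.Helper69.BG10
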