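import Mathlib
import Cfsg.Prelude.Def_Blocks
import Cfsg.Agent.Lib.Helper70.IPDefs
import Cfsg.Agent.Lib.Helper65.IPMono
import Cfsg.Agent.Lib.Helper83.Quotient
import Cfsg.Agent.Lib.Helper83.Linear
import Cfsg.Agent.Lib.Helper80.IPAExt
import Cfsg.Agent.Lib.Helper66.IPAMul
import Cfsg.Agent.Lib.Helper45.IPARam

/-!
# K-IP (S4463) Case A glue, the `p`-group case (helper69)
-/

set_option autoImplicit false

namespace Cfsg.Agent.Lib.Helper69.IPA

open Cfsg Cfsg.Agent.Lib.Helper70.IP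

universe u

/-- Case A (i): `G ⧸ K` a `p`-group: the preimage of the centre is the step subgroup. -/
theorem pgroup_case {G : Type u} [Group G] [Finite G] (b : ℕ) (hb : DegLE G b)
    (K : Subgroup G) [hK : K.Normal] (hmax : MaxNonab K) {p : ℕ} [Fact p.Prime]
    (hp : IsPGroup p (G ⧸ K)) :
    ∃ H : Subgroup G, H ≠ ⊤ ∧ H.index ≤ b ^ 2 ∧
      ∀ ψ : IrrCharacter H, charDegree (ψ : H → ℂ) < b := by
  classical
  have hmono : MonoQ (G ⧸ K) := Cfsg.Agent.Lib.Helper65.IP.monoQ_of_maxNonab K hmax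
  have hnab : ∃ a c : G ⧸ K, a * c ≠ c * a := by
    by_contra h
    push Not at h
    apply hmax.2.1
    exact (Subgroup.Normal.quotient_commutative_iff_commutator_le (N := K)).1 ⟨⟨h⟩⟩
  obtain ⟨θ', hθ'irr, hθ'deg, hθ'van, hθ'norm, hθ'idx⟩ :=
    Cfsg.Agent.Lib.Helper45.IPA.exists_ramified hp hnab hmono
  -- inflation
  set θ : G → ℂ := fun g => θ' (QuotientGroup.mk g : G ⧸ K) with hθdef
  have hθirr : IsIrrCharacter G θ := Cfsg.Agent.Lib.Helper83.isIrrCharacter_inflate K hθ'irr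
  have hdegθ : charDegree θ = charDegree θ' := by
    simp only [charDegree, hθdef, QuotientGroup.mk_one]
  set Z : Subgroup G := (Subgroup.center (G ⧸ K)).comap (QuotientGroup.mk' K) with hZdef
  have hZidx : Z.index = (Subgroup.center (G ⧸ K)).index :=
    Subgroup.index_comap_of_surjective _ (QuotientGroup.mk'_surjective K)
  refine ⟨Z, ?_, ?_, ?_⟩
  · intro htop
    have h1 : Z.index = 1 := by rw [htop]; exact Subgroup.index_top
    rw [hZidx, ← hθ'idx] at h1
    nlinarith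
  · rw [hZidx, ← hθ'idx, ← hdegθ]
    have hle : charDegree θ ≤ b := hb ⟨θ, hθirr⟩
    exact Nat.pow_le_pow_left hle 2
  · intro ψ
    by_contra hlt
    push Not at hlt
    obtain ⟨χ, hχirr, hχdeg, hχres⟩ :=
      Cfsg.Agent.Lib.Helper80.IPA.ext_of_degree_eq b hb Z ψ.2 hlt
    have hχZ : IsIrrCharacter Z (fun z : Z => χ z) := by
      have hfe : (fun z : Z => χ z) = (ψ : Z → ℂ) := funext hχres
      rw [hfe]; exact ψ.2
    have hvan : ∀ g : G, g ∉ Z → θ g = 0 := by
      intro g hg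
      exact hθ'van _ hg
    have hnorm : ∀ z : G, z ∈ Z → ‖θ z‖ = (charDegree θ : ℝ) := by
      intro z hz
      rw [hdegθ]
      exact hθ'norm _ hz
    have hidx : (charDegree θ) ^ 2 = Z.index := by rw [hdegθ, hZidx]; exact hθ'idx
    obtain ⟨hirr, hdeg⟩ :=
      Cfsg.Agent.Lib.Helper66.IPA.irr_mul_of_vanish Z hχirr hθirr hχZ hvan hnorm hidx
    have hle : charDegree (χ * θ) ≤ b := hb ⟨χ * θ, hirr⟩
    rw [hdeg, hχdeg, hdegθ] at hle
    have hb0 : 0 < b := by
      rw [← hχdeg]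
      apply Nat.pos_of_ne_zero
      intro h0
      have hc := Cfsg.Agent.Lib.Helper83.charDegree_cast
        (Cfsg.Agent.Lib.Helper83.IrrCharacter_isCharacter (⟨χ, hχirr⟩ : IrrCharacter G))
      have hne := Cfsg.Agent.Lib.Helper83.irr_degree_ne_zero (⟨χ, hχirr⟩ : IrrCharacter G)
      apply hne
      rw [← hc]
      simp only
      rw [h0, Nat.cast_zero]
    nlinarith

end Cfsg.Agent.Lib.Helper69.IPA
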