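import Mathlib

set_option autoImplicit false

namespace Cfsg.Agent.Lib.Helper69

open Polynomial

/-- An endomorphism `σ` of order dividing `p` (prime) of a finite `𝔽_q`-space, `σ ≠ 1`, with no
proper nonzero invariant subspace: the space has `q ^ (order of q mod p)` elements. -/
theorem card_of_irreducible_action {q p : ℕ} [hq : Fact q.Prime] [hp : Fact p.Prime] (hpq : q ≠ p)
    {V : Type*} [AddCommGroup V] [Module (ZMod q) V] [Finite V] [Nontrivial V]
    (σ : V →ₗ[ZMod q] V) (hσp : σ ^ p = 1) (hσ1 : σ ≠ 1)
    (hirr : ∀ W : Submodule (ZMod q) V, (∀ w ∈ W, σ w ∈ W) → W = ⊥ ∨ W = ⊤) :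
    Nat.card V = q ^ orderOf (q : ZMod p) := by
  classical
  have : Module.Finite (ZMod q) V := Module.Finite.of_finite
  have hint : IsIntegral (ZMod q) σ := Algebra.IsIntegral.isIntegral σ
  set μ := minpoly (ZMod q) σ with hμ
  have hμm : μ.Monic := minpoly.monic hint
  have hμ0 : aeval σ μ = 0 := minpoly.aeval _ _
  have hμne : μ ≠ 0 := hμm.ne_zero
  have hdpos : 0 < μ.natDegree := minpoly.natDegree_pos hint
  have hμnu : ¬ IsUnit μ := by
    intro h
    have := natDegree_eq_zero_of_isUnit h
    omega
  -- commutation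
  have hcomm : ∀ f : (ZMod q)[X], ∀ w : V, (aeval σ f) (σ w) = σ ((aeval σ f) w) := by
    intro f w
    have h1 : aeval σ (f * X) = aeval σ (X * f) := by rw [mul_comm]
    rw [map_mul, map_mul, aeval_X] at h1
    have := congrArg (fun T : Module.End (ZMod q) V => T w) h1
    simpa using this
  -- Step 1
  have hdvd1 : μ ∣ X ^ p - 1 := by
    apply minpoly.dvd
    rw [map_sub, map_pow, aeval_X, map_one, hσp, sub_self]
  -- Step 2: irreducible
  have hμirr : Irreducible μ := by
    obtain ⟨f, hfirr, g, hfg⟩ := WfDvdMonoid.exists_irreducible_factor hμnu hμne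
    have hg0 : g ≠ 0 := by
      rintro rfl; rw [mul_zero] at hfg; exact hμne hfg
    have hf0 : f ≠ 0 := hfirr.ne_zero
    have hfdeg : 0 < f.natDegree := by
      rcases Nat.eq_zero_or_pos f.natDegree with h | h
      · exfalso
        have : IsUnit f := by
          rw [eq_C_of_natDegree_eq_zero h]
          apply isUnit_C.mpr
          rw [isUnit_iff_ne_zero]
          intro hc
          apply hf0
          rw [eq_C_of_natDegree_eq_zero h, hc, C_0]
        exact hfirr.not_isUnit this
      · exact h
    have hgdeg : g.natDegree < μ.natDegree := by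
      rw [hfg, natDegree_mul hf0 hg0]; omega
    have hgσ : aeval σ g ≠ 0 := by
      intro h
      have h3 : μ ∣ g := minpoly.dvd (ZMod q) σ h
      have := natDegree_le_of_dvd h3 hg0
      omega
    obtain ⟨v, hv⟩ : ∃ v : V, (aeval σ g) v ≠ 0 := by
      by_contra hall
      push Not at hall
      apply hgσ
      ext v; simpa using hall v
    set W := LinearMap.ker (aeval σ f) with hW
    have hWinv : ∀ w ∈ W, σ w ∈ W := by
      intro w hw
      rw [hW, LinearMap.mem_ker] at hw ⊢
      rw [hcomm, hw, map_zero]
    have hWne : W ≠ ⊥ := by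
      intro h
      have hmem : (aeval σ g) v ∈ W := by
        rw [hW, LinearMap.mem_ker]
        have : (aeval σ f) ((aeval σ g) v) = (aeval σ (f * g)) v := by
          rw [map_mul]; rfl
        rw [this, ← hfg, hμ0]; rfl
      rw [h, Submodule.mem_bot] at hmem
      exact hv hmem
    rcases hirr W hWinv with h | h
    · exact absurd h hWne
    · have hf0' : aeval σ f = 0 := by
        ext w
        have : w ∈ W := by rw [h]; exact Submodule.mem_top
        rw [hW, LinearMap.mem_ker] at this
        simpa using this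
      have hμf : μ ∣ f := minpoly.dvd (ZMod q) σ hf0'
      have hfμ : f ∣ μ := ⟨g, hfg⟩
      exact (associated_of_dvd_dvd hfμ hμf).irreducible hfirr
  -- Step 3
  have hcyc : μ ∣ cyclotomic p (ZMod q) := by
    rw [← cyclotomic_prime_mul_X_sub_one (ZMod q) p] at hdvd1
    rcases hμirr.prime.dvd_or_dvd hdvd1 with h | h
    · exact h
    · exfalso
      obtain ⟨c, hc⟩ := h
      have hc0 : c ≠ 0 := by
        rintro rfl
        rw [mul_zero] at hc
        exact X_sub_C_ne_zero (1 : ZMod q) (by simpa using hc)
      have hdeg : (X - 1 : (ZMod q)[X]).natDegree = 1 := by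
        have := natDegree_X_sub_C (1 : ZMod q)
        simpa using this
      rw [hc, natDegree_mul hμne hc0] at hdeg
      have hcdeg : c.natDegree = 0 := by omega
      apply hσ1
      have h2 : aeval σ (X - 1 : (ZMod q)[X]) = 0 := by
        rw [hc, map_mul, hμ0, zero_mul]
      rw [map_sub, aeval_X, map_one, sub_eq_zero] at h2
      exact h2
  -- Step 4
  have hcop : q.Coprime p := (Nat.coprime_primes hq.out hp.out).mpr hpq
  have hdeg : μ.natDegree = orderOf (q : ZMod p) := by
    have h1 := natDegree_of_dvd_cyclotomic_of_irreducible (K := ZMod q) (p := q) (f := 1) (n := p)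
      (by rw [ZMod.card, pow_one]) hcop hcyc hμirr
    rw [h1, ← orderOf_units, ZMod.coe_unitOfCoprime]
    simp
  -- Step 5
  have hle1 : μ.natDegree ≤ Module.finrank (ZMod q) V := by
    have h1 := LinearMap.minpoly_dvd_charpoly σ
    have h2 := natDegree_le_of_dvd h1 (LinearMap.charpoly_monic σ).ne_zero
    rwa [LinearMap.charpoly_natDegree] at h2
  have hle2 : Module.finrank (ZMod q) V ≤ μ.natDegree := by
    obtain ⟨v, hv⟩ := exists_ne (0 : V)
    let φ : (ZMod q)[X] →ₗ[ZMod q] V :=
      (LinearMap.applyₗ v).comp (aeval σ).toLinearMap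
    have hφ : ∀ f, φ f = (aeval σ f) v := fun f => rfl
    set W' := (degreeLT (ZMod q) μ.natDegree).map φ with hW'
    have hW'inv : ∀ w ∈ W', σ w ∈ W' := by
      rintro w ⟨f, hf, rfl⟩
      rw [hφ]
      refine ⟨(X * f) %ₘ μ, ?_, ?_⟩
      · rw [SetLike.mem_coe, mem_degreeLT]
        calc ((X * f) %ₘ μ).degree < μ.degree := degree_modByMonic_lt _ hμm
          _ = (μ.natDegree : WithBot ℕ) := degree_eq_natDegree hμne
      · rw [hφ]
        have h1 : X * f = (X * f) %ₘ μ + μ * ((X * f) /ₘ μ) := (modByMonic_add_div _ _).symm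
        have h2 : (aeval σ (X * f)) v = (aeval σ ((X * f) %ₘ μ)) v := by
          conv_lhs => rw [h1]
          rw [map_add, map_mul, hμ0, zero_mul, add_zero]
        rw [← h2, map_mul, aeval_X]
        rfl
    have hW'ne : W' ≠ ⊥ := by
      intro h
      have hmem : v ∈ W' := by
        refine ⟨1, ?_, ?_⟩
        · rw [SetLike.mem_coe, mem_degreeLT, degree_one]
          exact_mod_cast hdpos
        · rw [hφ, map_one]; rfl
      rw [h, Submodule.mem_bot] at hmem
      exact hv hmem
    rcases hirr W' hW'inv with h | h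
    · exact absurd h hW'ne
    · have h1 : Module.finrank (ZMod q) V = Module.finrank (ZMod q) ↥W' := by
        rw [h, finrank_top]
      have h2 : Module.finrank (ZMod q) ↥W' ≤ Module.finrank (ZMod q) ↥(degreeLT (ZMod q) μ.natDegree) :=
        Submodule.finrank_map_le φ _
      have h3 : Module.finrank (ZMod q) ↥(degreeLT (ZMod q) μ.natDegree) = μ.natDegree := by
        rw [LinearEquiv.finrank_eq (degreeLTEquiv (ZMod q) μ.natDegree), Module.finrank_fin_fun]
      omega
  rw [Module.natCard_eq_pow_finrank (K := ZMod q), Nat.card_eq_fintype_card, ZMod.card,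
    le_antisymm hle2 hle1, hdeg]

end Cfsg.Agent.Lib.Helper69
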