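import Mathlib
import Cfsg.Agent.Lib.Helper69.IrredAction

set_option autoImplicit false

namespace Cfsg.Agent.Lib.Helper69

/-- Auxiliary version with the module structure given as an instance argument. -/
theorem card_of_irreducible_hom_aux {q p : ℕ} [hq' : Fact q.Prime] [hp : Fact p.Prime] (hpq : q ≠ p)
    {A : Type*} [CommGroup A] [Finite A] [Module (ZMod q) (Additive A)] (τ : A →* A)
    (hτp : ∀ a, τ^[p] a = a) (hτ1 : ∃ a, τ a ≠ a)
    (hirr : ∀ B : Subgroup A, (∀ b ∈ B, τ b ∈ B) → B = ⊥ ∨ B = ⊤) :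
    Nat.card A = q ^ orderOf (q : ZMod p) := by
  let σ : Additive A →ₗ[ZMod q] Additive A := AddMonoidHom.toZModLinearMap q (MonoidHom.toAdditive τ)
  have hσ : ∀ v : Additive A, σ v = Additive.ofMul (τ (Additive.toMul v)) := fun v => rfl
  have hσk : ∀ k : ℕ, ∀ v : Additive A, (σ ^ k) v = Additive.ofMul (τ^[k] (Additive.toMul v)) := by
    intro k
    induction k with
    | zero => intro v; rfl
    | succ k ih =>
      intro v
      rw [pow_succ', Module.End.mul_apply, ih, hσ, Function.iterate_succ_apply']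
      rfl
  have hσp : σ ^ p = 1 := by
    ext v
    rw [hσk, hτp]
    rfl
  obtain ⟨a₀, ha₀⟩ := hτ1
  have hσ1 : σ ≠ 1 := by
    intro h
    apply ha₀
    have := congrArg (fun T : Module.End (ZMod q) (Additive A) => T (Additive.ofMul a₀)) h
    simp only [hσ] at this
    exact this
  haveI : Nontrivial (Additive A) := ⟨⟨Additive.ofMul (τ a₀), Additive.ofMul a₀, fun h => ha₀ h⟩⟩
  haveI : Finite (Additive A) := inferInstanceAs (Finite A)
  have hirr' : ∀ W : Submodule (ZMod q) (Additive A), (∀ w ∈ W, σ w ∈ W) → W = ⊥ ∨ W = ⊤ := by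
    intro W hW
    set B : Subgroup A := AddSubgroup.toSubgroup' W.toAddSubgroup with hB
    have hmem : ∀ a : A, a ∈ B ↔ Additive.ofMul a ∈ W := fun a => Iff.rfl
    have hBinv : ∀ b ∈ B, τ b ∈ B := by
      intro b hb
      rw [hmem] at hb ⊢
      exact hW _ hb
    rcases hirr B hBinv with h | h
    · left
      rw [eq_bot_iff]
      intro w hw
      have : Additive.toMul w ∈ B := (hmem _).mpr hw
      rw [h, Subgroup.mem_bot] at this
      rw [Submodule.mem_bot]
      exact this
    · right
      rw [eq_top_iff]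
      intro w _
      have : Additive.toMul w ∈ B := by rw [h]; exact Subgroup.mem_top _
      exact (hmem _).mp this
  have := card_of_irreducible_action hpq σ hσp hσ1 hirr'
  exact this

/-- The `ZMod q`-module structure on a commutative group of exponent dividing `q`. -/
@[reducible] noncomputable def zmodModuleOfExp {A : Type*} [CommGroup A] (q : ℕ)
    (hq : ∀ a : A, a ^ q = 1) : Module (ZMod q) (Additive A) :=
  AddCommGroup.zmodModule (n := q) (fun x => by
    have : q • x = Additive.ofMul ((Additive.toMul x) ^ q) := rfl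
    rw [this, hq]; rfl)

/-- Group version: an endomorphism `τ` with `τ^p = id`, `τ ≠ id`, of a finite commutative group of
exponent dividing `q` without proper nontrivial `τ`-invariant subgroups. -/
theorem card_of_irreducible_hom {q p : ℕ} [hq' : Fact q.Prime] [hp : Fact p.Prime] (hpq : q ≠ p)
    {A : Type*} [CommGroup A] [Finite A] (hq : ∀ a : A, a ^ q = 1) (τ : A →* A)
    (hτp : ∀ a, τ^[p] a = a) (hτ1 : ∃ a, τ a ≠ a)
    (hirr : ∀ B : Subgroup A, (∀ b ∈ B, τ b ∈ B) → B = ⊥ ∨ B = ⊤) :
    Nat.card A = q ^ orderOf (q : ZMod p) :=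
  @card_of_irreducible_hom_aux q p hq' hp hpq A _ _ (zmodModuleOfExp q hq) τ hτp hτ1 hirr

end Cfsg.Agent.Lib.Helper69

namespace Cfsg.Agent.Lib.Helper69

/-- Version for a `Group` with a commutativity hypothesis. -/
theorem card_of_irreducible_hom' {q p : ℕ} [hq' : Fact q.Prime] [hp : Fact p.Prime] (hpq : q ≠ p)
    {A : Type*} [inst : Group A] [Finite A] (hcomm : ∀ a b : A, a * b = b * a)
    (hq : ∀ a : A, a ^ q = 1) (τ : A →* A)
    (hτp : ∀ a, τ^[p] a = a) (hτ1 : ∃ a, τ a ≠ a)
    (hirr : ∀ B : Subgroup A, (∀ b ∈ B, τ b ∈ B) → B = ⊥ ∨ B = ⊤) :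
    Nat.card A = q ^ orderOf (q : ZMod p) :=
  @card_of_irreducible_hom q p hq' hp hpq A { inst with mul_comm := hcomm } _ hq τ hτp hτ1 hirr

end Cfsg.Agent.Lib.Helper69
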