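import Mathlib
import Cfsg.Agent.Lib.Helper69.IrredHom

set_option autoImplicit false

namespace Cfsg.Agent.Lib.Helper69

/-- A subgroup of prime index is maximal. -/
theorem eq_top_of_prime_index {G : Type*} [Group G] {p : ℕ} (hp : p.Prime)
    {A K : Subgroup G} (hidx : A.index = p) (hAK : A ≤ K) {x : G} (hxK : x ∈ K) (hxA : x ∉ A) :
    K = ⊤ := by
  have h1 : K.index ∣ p := hidx ▸ Subgroup.index_dvd_of_le hAK
  rcases (Nat.dvd_prime hp).mp h1 with h | h
  · exact Subgroup.index_eq_one.mp h
  · exfalso
    have h2 : A.relIndex K * K.index = A.index := Subgroup.relIndex_mul_index hAK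
    rw [h, hidx] at h2
    have h3 : A.relIndex K = 1 := by
      have := hp.pos
      nlinarith
    have h4 : K ≤ A := Subgroup.relIndex_eq_one.mp h3
    exact hxA (h4 hxK)

theorem pow_mem_of_index_eq {G : Type*} [Group G] {A : Subgroup G} [A.Normal] {p : ℕ}
    (hidx : A.index = p) (x : G) : x ^ p ∈ A := by
  rw [← QuotientGroup.eq_one_iff, QuotientGroup.mk_pow]
  have : Nat.card (G ⧸ A) = p := hidx
  rw [← this]
  exact pow_card_eq_one'

/-- If `A` is abelian of prime index and some `x ∉ A` centralizes `A`, the group is abelian. -/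
theorem comm_of_prime_index_of_centralizes {G : Type*} [Group G] {p : ℕ} (hp : p.Prime)
    {A : Subgroup G} (hidx : A.index = p) (hcomm : ∀ a ∈ A, ∀ b ∈ A, a * b = b * a)
    {x : G} (hxA : x ∉ A) (hx : ∀ a ∈ A, x * a = a * x) : ∀ g h : G, g * h = h * g := by
  -- the centralizer of `A` is everything
  have h1 : Subgroup.centralizer (A : Set G) = ⊤ := by
    apply eq_top_of_prime_index hp hidx _ _ hxA
    · intro a ha
      rw [Subgroup.mem_centralizer_iff]
      intro b hb
      exact hcomm b hb a ha
    · rw [Subgroup.mem_centralizer_iff]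
      intro b hb
      exact (hx b hb).symm
  -- the centralizer of `x` is everything
  have h2 : Subgroup.centralizer ({x} : Set G) = ⊤ := by
    apply eq_top_of_prime_index hp hidx _ _ hxA
    · intro a ha
      rw [Subgroup.mem_centralizer_singleton_iff]
      exact (hx a ha).symm
    · rw [Subgroup.mem_centralizer_singleton_iff]
  -- the center is everything
  have h3 : Subgroup.center G = ⊤ := by
    apply eq_top_of_prime_index hp hidx _ _ hxA
    · intro a ha
      rw [Subgroup.mem_center_iff]
      intro g
      have : g ∈ Subgroup.centralizer (A : Set G) := by rw [h1]; exact Subgroup.mem_top g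
      rw [Subgroup.mem_centralizer_iff] at this
      exact (this a ha).symm
    · rw [Subgroup.mem_center_iff]
      intro g
      have : g ∈ Subgroup.centralizer ({x} : Set G) := by rw [h2]; exact Subgroup.mem_top g
      rw [Subgroup.mem_centralizer_singleton_iff] at this
      exact this
  intro g h
  have : g ∈ Subgroup.center G := by rw [h3]; exact Subgroup.mem_top g
  rw [Subgroup.mem_center_iff] at this
  exact (this h).symm

/-- With `A` abelian of prime index, a subgroup `K ≤ A` normalized by some `x ∉ A` is normal. -/
theorem normal_of_le_of_mem_normalizer {G : Type*} [Group G] {p : ℕ} (hp : p.Prime)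
    {A : Subgroup G} (hidx : A.index = p) (hcomm : ∀ a ∈ A, ∀ b ∈ A, a * b = b * a)
    {K : Subgroup G} (hKA : K ≤ A) {x : G} (hxA : x ∉ A)
    (hx : x ∈ Subgroup.normalizer (K : Set G)) : K.Normal := by
  have hN : Subgroup.normalizer (K : Set G) = ⊤ := by
    apply eq_top_of_prime_index hp hidx _ hx hxA
    intro a ha
    rw [Subgroup.mem_normalizer_iff]
    intro g
    constructor
    · intro hg
      have hgA := hKA hg
      have : a * g * a⁻¹ = g := by
        rw [hcomm a ha g hgA, mul_assoc, mul_inv_cancel, mul_one]
      rw [this]; exact hg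
    · intro hg
      have hgA' := hKA hg
      have hgA : g ∈ A := by
        have := A.mul_mem (A.mul_mem (A.inv_mem ha) hgA') ha
        convert this using 1
        group
      have : a * g * a⁻¹ = g := by
        rw [hcomm a ha g hgA, mul_assoc, mul_inv_cancel, mul_one]
      rw [this] at hg; exact hg
  exact Subgroup.normalizer_eq_top_iff.mp hN

/-- With `A` abelian normal of prime index, a nontrivial normal subgroup meeting `A` trivially
forces the group to be abelian. -/
theorem comm_of_normal_disjoint {G : Type*} [Group G] {p : ℕ} (hp : p.Prime)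
    {A : Subgroup G} [hAn : A.Normal] (hidx : A.index = p)
    (hcomm : ∀ a ∈ A, ∀ b ∈ A, a * b = b * a)
    {N : Subgroup G} [hNn : N.Normal] (hN : N ≠ ⊥) (hdis : Disjoint N A) :
    ∀ g h : G, g * h = h * g := by
  obtain ⟨⟨x, hxN⟩, hx1⟩ := (Subgroup.ne_bot_iff_exists_ne_one).mp hN
  have hx1' : x ≠ 1 := fun h => hx1 (Subtype.ext h)
  have hxA : x ∉ A := by
    intro hxA
    apply hx1'
    have : x ∈ N ⊓ A := ⟨hxN, hxA⟩
    rw [disjoint_iff.mp hdis, Subgroup.mem_bot] at this
    exact this
  apply comm_of_prime_index_of_centralizes hp hidx hcomm hxA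
  intro a ha
  exact Subgroup.commute_of_normal_of_disjoint N A hNn hAn hdis x a hxN ha

/-- A group of order dividing `p` has normal Sylow `p`-subgroups. -/
theorem sylow_normal_of_card_dvd_prime {H : Type*} [Group H] {p : ℕ} [hp : Fact p.Prime]
    (h : Nat.card H ∣ p) (P : Sylow p H) : (P : Subgroup H).Normal := by
  have hH : IsPGroup p H := IsPGroup.of_card_dvd_pow (n := 1) (by rwa [pow_one])
  have : (⊤ : Subgroup H) = P := P.is_maximal' (hH.to_subgroup ⊤) le_top
  rw [← this]
  infer_instance

/-- A `q`-group has normal (indeed trivial) Sylow `p`-subgroups for `p ≠ q`. -/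
theorem sylow_normal_of_isPGroup_ne {H : Type*} [Group H] {p q : ℕ} [hp : Fact p.Prime]
    [hq : Fact q.Prime] (hpq : q ≠ p) (h : IsPGroup q H) (P : Sylow p H) :
    (P : Subgroup H).Normal := by
  have hdis : Disjoint (P : Subgroup H) (P : Subgroup H) :=
    IsPGroup.disjoint_of_ne p q hpq.symm _ _ P.2 (h.to_subgroup _)
  rw [disjoint_self] at hdis
  rw [hdis]
  infer_instance

/-- The crux: a minimal normal elementary abelian `q`-subgroup of prime index `p ≠ q` in a
nonabelian group has order `q ^ (order of q mod p)`. -/
theorem card_of_minimal_normal_prime_index {G : Type*} [Group G] [Finite G] {p q : ℕ}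
    [hp : Fact p.Prime] (hq : q.Prime) (hpq : q ≠ p) (hna : ¬ ∀ g h : G, g * h = h * g)
    (A : Subgroup G) [hAn : A.Normal]
    (hcomm : ∀ a ∈ A, ∀ b ∈ A, a * b = b * a) (hexp : ∀ a ∈ A, a ^ q = 1) (hidx : A.index = p)
    (hmin : ∀ B : Subgroup G, B.Normal → B ≤ A → B = ⊥ ∨ B = A) :
    Nat.card ↥A = q ^ orderOf (q : ZMod p) := by
  haveI : Fact q.Prime := ⟨hq⟩
  have hAtop : A ≠ ⊤ := by
    intro h
    rw [h, Subgroup.index_top] at hidx
    exact hp.out.one_lt.ne hidx
  obtain ⟨x, hx⟩ : ∃ x, x ∉ A := by
    by_contra h
    push Not at h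
    exact hAtop (eq_top_iff.mpr fun g _ => h g)
  have hxp : x ^ p ∈ A := pow_mem_of_index_eq hidx x
  let τ : ↥A →* ↥A := (MulAut.conjNormal x : MulAut ↥A).toMonoidHom
  have hτ : ∀ a : ↥A, ((τ a : ↥A) : G) = x * a * x⁻¹ := fun a => MulAut.conjNormal_apply x a
  have hτk : ∀ k : ℕ, ∀ a : ↥A, ((τ^[k] a : ↥A) : G) = x ^ k * a * (x ^ k)⁻¹ := by
    intro k
    induction k with
    | zero => intro a; simp
    | succ k ih =>
      intro a
      rw [Function.iterate_succ_apply', hτ, ih, pow_succ']
      group
  have hτinj : Function.Injective τ := (MulAut.conjNormal x : MulAut ↥A).injective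
  have hτp : ∀ a, τ^[p] a = a := by
    intro a
    apply Subtype.ext
    rw [hτk, hcomm _ hxp _ a.2, mul_assoc, mul_inv_cancel, mul_one]
  apply card_of_irreducible_hom' hpq (fun a b => Subtype.ext (hcomm a a.2 b b.2))
    (fun a => Subtype.ext (hexp a a.2)) τ hτp
  · -- τ ≠ id
    by_contra hall
    push Not at hall
    apply hna
    apply comm_of_prime_index_of_centralizes hp.out hidx hcomm hx
    intro a ha
    have := congrArg Subtype.val (hall ⟨a, ha⟩)
    rw [hτ] at this
    simp only at this
    calc x * a = x * a * x⁻¹ * x := by group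
      _ = a * x := by rw [this]
  · -- irreducibility
    intro B hB
    have hBA : B.map A.subtype ≤ A := by
      rintro _ ⟨b, _, rfl⟩
      exact b.2
    have hmemB : ∀ g : G, g ∈ B.map A.subtype ↔ ∃ h : g ∈ A, (⟨g, h⟩ : ↥A) ∈ B := by
      intro g
      constructor
      · rintro ⟨b, hb, rfl⟩
        exact ⟨b.2, hb⟩
      · rintro ⟨h, hb⟩
        exact ⟨⟨g, h⟩, hb, rfl⟩
    have hBk : ∀ k : ℕ, ∀ b ∈ B, τ^[k] b ∈ B := by
      intro k
      induction k with
      | zero => intro b hb; exact hb
      | succ k ih =>
        intro b hb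
        rw [Function.iterate_succ_apply']
        exact hB _ (ih b hb)
    have hnorm : (B.map A.subtype).Normal := by
      have hN : Subgroup.normalizer ((B.map A.subtype : Subgroup G) : Set G) = ⊤ := by
        apply eq_top_of_prime_index hp.out hidx _ _ hx
        · intro a ha
          rw [Subgroup.mem_normalizer_iff]
          intro g
          constructor
          · intro hg
            have hgA := hBA hg
            have : a * g * a⁻¹ = g := by
              rw [hcomm a ha g hgA, mul_assoc, mul_inv_cancel, mul_one]
            rw [this]; exact hg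
          · intro hg
            have hgA' := hBA hg
            have hgA : g ∈ A := by
              have := A.mul_mem (A.mul_mem (A.inv_mem ha) hgA') ha
              convert this using 1
              group
            have : a * g * a⁻¹ = g := by
              rw [hcomm a ha g hgA, mul_assoc, mul_inv_cancel, mul_one]
            rw [this] at hg; exact hg
        · rw [Subgroup.mem_normalizer_iff]
          intro g
          constructor
          · intro hg
            obtain ⟨hgA, hgB⟩ := (hmemB g).mp hg
            rw [hmemB]
            refine ⟨hAn.conj_mem g hgA x, ?_⟩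
            have := hB _ hgB
            convert this using 1
            exact Subtype.ext (hτ ⟨g, hgA⟩).symm
          · intro hg
            obtain ⟨hgA', hgB'⟩ := (hmemB _).mp hg
            -- preimage: τ^[p-1] of that element
            set m : ↥A := ⟨x * g * x⁻¹, hgA'⟩ with hm
            have hgA : g ∈ A := by
              have := hAn.conj_mem _ hgA' x⁻¹
              convert this using 1
              group
            have h1 : τ (τ^[p - 1] m) = m := by
              rw [← Function.iterate_succ_apply' τ (p - 1) m]
              have : (p - 1).succ = p := by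
                have := hp.out.pos
                omega
              rw [this, hτp]
            have h2 : τ ⟨g, hgA⟩ = m := Subtype.ext (hτ _)
            have h3 : (⟨g, hgA⟩ : ↥A) = τ^[p - 1] m := hτinj (h2.trans h1.symm)
            rw [hmemB]
            refine ⟨hgA, ?_⟩
            rw [h3]
            exact hBk _ _ hgB'
      exact Subgroup.normalizer_eq_top_iff.mp hN
    rcases hmin _ hnorm hBA with h | h
    · left
      rw [eq_bot_iff]
      intro b hb
      have : (b : G) ∈ B.map A.subtype := ⟨b, hb, rfl⟩
      rw [h, Subgroup.mem_bot] at this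
      rw [Subgroup.mem_bot]
      exact Subtype.ext this
    · right
      rw [eq_top_iff]
      intro b _
      have : (b : G) ∈ B.map A.subtype := by rw [h]; exact b.2
      obtain ⟨_, hb⟩ := (hmemB _).mp this
      exact hb

end Cfsg.Agent.Lib.Helper69
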