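import Mathlib
import Cfsg.Agent.Lib.Helper69.MinNormal
import Cfsg.Agent.Lib.Helper69.Conj

set_option autoImplicit false

namespace Cfsg.Agent.Lib.Helper69

open scoped Pointwise

variable {G : Type*} [Group G]

/-- A nontrivial non-simple group has a proper nontrivial normal subgroup. -/
theorem exists_normal_ne_bot_ne_top [Nontrivial G] (h : ¬ IsSimpleGroup G) :
    ∃ N : Subgroup G, N.Normal ∧ N ≠ ⊥ ∧ N ≠ ⊤ := by
  by_contra hcon
  push Not at hcon
  apply h
  exact ⟨fun H hH => by
    by_cases h1 : H = ⊥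
    · exact Or.inl h1
    · exact Or.inr (hcon H hH h1)⟩

theorem card_lt_of_lt' [Finite G] {H K : Subgroup G} (h : H < K) : Nat.card H < Nat.card K := by
  by_contra hcon
  push Not at hcon
  exact h.ne (Subgroup.eq_of_le_of_card_ge h.le hcon)

/-- Every nontrivial normal subgroup of a finite group contains a minimal normal subgroup. -/
theorem exists_minimal_normal_le [Finite G] (N : Subgroup G) (hNn : N.Normal) (hN : N ≠ ⊥) :
    ∃ M : Subgroup G, M.Normal ∧ M ≠ ⊥ ∧ M ≤ N ∧
      ∀ B : Subgroup G, B.Normal → B ≤ M → B = ⊥ ∨ B = M := by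
  induction h : Nat.card N using Nat.strong_induction_on generalizing N with
  | _ n ih =>
    by_cases hmin : ∀ B : Subgroup G, B.Normal → B ≤ N → B = ⊥ ∨ B = N
    · exact ⟨N, hNn, hN, le_rfl, hmin⟩
    · push Not at hmin
      obtain ⟨B, hBn, hBN, hB1, hB2⟩ := hmin
      have hlt : Nat.card B < Nat.card N := card_lt_of_lt' (lt_of_le_of_ne hBN hB2)
      obtain ⟨M, h1, h2, h3, h4⟩ := ih _ (h ▸ hlt) B hBn hB1 rfl
      exact ⟨M, h1, h2, h3.trans hBN, h4⟩

/-- If one Sylow `p`-subgroup is normal, all are. -/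
theorem sylow_normal_of_sylow_normal {p : ℕ} [Fact p.Prime] [Finite G] (P Q : Sylow p G)
    (h : (P : Subgroup G).Normal) : (Q : Subgroup G).Normal := by
  obtain ⟨g, rfl⟩ := MulAction.exists_smul_eq G P Q
  rw [Sylow.smul_eq_of_normal]
  exact h

/-- A normal Sylow subgroup of a normal subgroup is normal. -/
theorem sylow_map_normal_of_normal {p : ℕ} [Fact p.Prime] [Finite G] {N : Subgroup G}
    [hN : N.Normal] (Q : Sylow p ↥N) (h : (Q : Subgroup ↥N).Normal) :
    ((Q : Subgroup ↥N).map N.subtype).Normal := by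
  haveI := Q.characteristic_of_normal h
  exact ConjAct.normal_of_characteristic_of_normal

/-- A Sylow subgroup of `G` inside a normal subgroup `K`, normal in `K`, is normal in `G`. -/
theorem sylow_normal_of_le_normal {p : ℕ} [Fact p.Prime] [Finite G] (P : Sylow p G)
    {K : Subgroup G} [hK : K.Normal] (hPK : (P : Subgroup G) ≤ K)
    (h : ((P.subtype hPK : Sylow p ↥K) : Subgroup ↥K).Normal) : (P : Subgroup G).Normal := by
  have := sylow_map_normal_of_normal (P.subtype hPK) h
  rwa [Sylow.coe_subtype, Subgroup.subgroupOf_map_subtype, inf_of_le_left hPK] at this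

/-- If `G ⧸ N` has normal Sylow `p`-subgroups then `P ⊔ N` is normal for any Sylow `P`. -/
theorem sup_normal_of_quotient_closed {p : ℕ} [Fact p.Prime] [Finite G] (P : Sylow p G)
    (N : Subgroup G) [hN : N.Normal]
    (h : ∀ Q : Sylow p (G ⧸ N), (Q : Subgroup (G ⧸ N)).Normal) :
    ((P : Subgroup G) ⊔ N).Normal := by
  have h1 := h (P.mapSurjective (QuotientGroup.mk'_surjective N))
  rw [Sylow.coe_mapSurjective] at h1
  have h2 := h1.comap (QuotientGroup.mk' N)
  rwa [QuotientGroup.comap_map_mk', sup_comm] at h2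

/-- A normal `p`-subgroup lies in every Sylow `p`-subgroup. -/
theorem le_sylow_of_normal_isPGroup {p : ℕ} [Fact p.Prime] [Finite G] {N : Subgroup G}
    [hN : N.Normal] (hNp : IsPGroup p ↥N) (P : Sylow p G) : N ≤ P := by
  obtain ⟨P', hP'⟩ := hNp.exists_le_sylow
  obtain ⟨g, rfl⟩ := MulAction.exists_smul_eq G P' P
  intro n hn
  have e : ((g • P' : Sylow p G) : Subgroup G) = MulAut.conj g • (P' : Subgroup G) := rfl
  rw [e, mem_conj_smul_iff]
  apply hP'
  have := hN.conj_mem n hn g⁻¹
  rwa [inv_inv] at this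

/-- A Sylow `r`-subgroup lies in every normal subgroup of index prime to `r`. -/
theorem sylow_le_normal_of_not_dvd_index {r : ℕ} [Fact r.Prime] [Finite G] (R : Sylow r G)
    (M : Subgroup G) [hM : M.Normal] (h : ¬ r ∣ M.index) : (R : Subgroup G) ≤ M := by
  obtain ⟨g, hg⟩ := exists_conj_le_of_not_dvd_index R M h
  intro x hx
  have h1 : g * x * g⁻¹ ∈ MulAut.conj g • (R : Subgroup G) := by
    rw [mem_conj_smul_iff]
    convert hx using 1
    group
  have h2 := hM.conj_mem _ (hg h1) g⁻¹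
  convert h2 using 1
  group

/-- In a finite `p`-group, subgroups of index `p` are normal. -/
theorem normal_of_index_prime_of_isPGroup {p : ℕ} [hp : Fact p.Prime] {P : Type*} [Group P]
    [Finite P] (hP : IsPGroup p P) (H : Subgroup P) (hidx : H.index = p) : H.Normal := by
  haveI : Group.IsNilpotent P := hP.isNilpotent
  have hnc := Group.normalizerCondition_of_isNilpotent (G := P)
  have hlt : H < ⊤ := by
    rw [lt_top_iff_ne_top]
    intro h
    rw [h, Subgroup.index_top] at hidx
    exact hp.out.one_lt.ne hidx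
  obtain ⟨x, hx, hxH⟩ := SetLike.exists_of_lt (hnc H hlt)
  have := eq_top_of_prime_index hp.out hidx Subgroup.le_normalizer hx hxH
  exact Subgroup.normalizer_eq_top_iff.mp this

/-- `G` is minimal non-`p`-closed. -/
structure MinNonPClosed (p : ℕ) (G : Type*) [Group G] : Prop where
  nc : ¬ ∀ P : Sylow p G, (P : Subgroup G).Normal
  sub : ∀ H : Subgroup G, H ≠ ⊤ → ∀ P : Sylow p ↥H, (P : Subgroup ↥H).Normal
  quo : ∀ (N : Subgroup G) [N.Normal], N ≠ ⊥ →
    ∀ P : Sylow p (G ⧸ N), (P : Subgroup (G ⧸ N)).Normal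

namespace MinNonPClosed

theorem not_normal {p : ℕ} [Fact p.Prime] [Finite G] (h : MinNonPClosed p G) (P : Sylow p G) :
    ¬ (P : Subgroup G).Normal := by
  intro hP
  exact h.nc fun Q => sylow_normal_of_sylow_normal P Q hP

theorem sup_eq_top {p : ℕ} [Fact p.Prime] [Finite G] (h : MinNonPClosed p G) (P : Sylow p G)
    (N : Subgroup G) [N.Normal] (hN : N ≠ ⊥) : (P : Subgroup G) ⊔ N = ⊤ := by
  by_contra hne
  haveI hn : ((P : Subgroup G) ⊔ N).Normal := sup_normal_of_quotient_closed P N (h.quo N hN)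
  have h1 := h.sub _ hne (P.subtype le_sup_left)
  exact h.not_normal P (sylow_normal_of_le_normal P le_sup_left h1)

/-- `G` has no nontrivial normal `p`-subgroup. -/
theorem eq_bot_of_normal_isPGroup {p : ℕ} [Fact p.Prime] [Finite G] (h : MinNonPClosed p G)
    (R : Subgroup G) [hR : R.Normal] (hRp : IsPGroup p ↥R) : R = ⊥ := by
  by_contra hne
  obtain P : Sylow p G := default
  have h1 := h.sup_eq_top P R hne
  have hRP : R ≤ P := le_sylow_of_normal_isPGroup hRp P
  rw [sup_of_le_left hRP] at h1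
  apply h.not_normal P
  rw [h1]
  infer_instance

theorem not_dvd_card_of_normal {p : ℕ} [Fact p.Prime] [Finite G] (h : MinNonPClosed p G)
    (N : Subgroup G) [hNn : N.Normal] (hNt : N ≠ ⊤) : ¬ p ∣ Nat.card N := by
  intro hdvd
  obtain Q : Sylow p ↥N := default
  have hQn := h.sub N hNt Q
  have hQn' := sylow_map_normal_of_normal Q hQn
  have hQp : IsPGroup p ↥((Q : Subgroup ↥N).map N.subtype) := Q.2.map N.subtype
  have h1 := h.eq_bot_of_normal_isPGroup _ hQp
  have : (Q : Subgroup ↥N) = ⊥ := by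
    rwa [Subgroup.map_eq_bot_iff_of_injective _ N.subtype_injective] at h1
  exact Q.ne_bot_of_dvd_card hdvd this

/-- A Sylow `p`-subgroup complements every proper nontrivial normal subgroup. -/
theorem isComplement' {p : ℕ} [Fact p.Prime] [Finite G] (h : MinNonPClosed p G) (P : Sylow p G)
    (N : Subgroup G) [N.Normal] (hN : N ≠ ⊥) (hNt : N ≠ ⊤) :
    Subgroup.IsComplement' (P : Subgroup G) N := by
  apply Subgroup.isComplement'_of_disjoint_and_mul_eq_univ
  · rw [disjoint_iff]
    apply disjoint_iff.mp; apply Subgroup.disjoint_of_coprime_natCard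
    obtain ⟨n, hn⟩ := IsPGroup.iff_card.mp P.2
    rw [hn]
    exact Nat.Coprime.pow_left n
      ((Nat.Prime.coprime_iff_not_dvd Fact.out).mpr (h.not_dvd_card_of_normal N hNt))
  · rw [← Subgroup.mul_normal, h.sup_eq_top P N hN, Subgroup.coe_top]

theorem index_eq_card_sylow {p : ℕ} [Fact p.Prime] [Finite G] (h : MinNonPClosed p G)
    (P : Sylow p G) (N : Subgroup G) [N.Normal] (hN : N ≠ ⊥) (hNt : N ≠ ⊤) :
    N.index = Nat.card P := (h.isComplement' P N hN hNt).index_eq_card

/-- If there is a proper nontrivial normal subgroup, Sylow `p`-subgroups have order `p`. -/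
theorem card_sylow_eq {p : ℕ} [hp : Fact p.Prime] [Finite G] (h : MinNonPClosed p G)
    (P : Sylow p G) (N : Subgroup G) [hNn : N.Normal] (hN : N ≠ ⊥) (hNt : N ≠ ⊤) :
    Nat.card P = p := by
  have hidx : N.index = Nat.card P := h.index_eq_card_sylow P N hN hNt
  obtain ⟨n, hn⟩ := IsPGroup.iff_card.mp P.2
  have hn0 : n ≠ 0 := by
    rintro rfl
    rw [pow_zero] at hn
    rw [hn, Subgroup.index_eq_one] at hidx
    exact hNt hidx
  have hcardQ : Nat.card (G ⧸ N) = p ^ n := by rw [← Subgroup.index_eq_card, hidx, hn]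
  obtain ⟨K', hK'⟩ := Sylow.exists_subgroup_card_pow_prime (G := G ⧸ N) p (n := n - 1)
    (by rw [hcardQ]; exact pow_dvd_pow p (Nat.sub_le n 1))
  have hpn : p ^ n = p ^ (n - 1) * p := by
    rw [← pow_succ]; congr 1; omega
  have hK'idx : K'.index = p := by
    have := Subgroup.card_mul_index K'
    rw [hK', hcardQ, hpn] at this
    exact Nat.eq_of_mul_eq_mul_left (pow_pos hp.out.pos _) this
  have hQp : IsPGroup p (G ⧸ N) := IsPGroup.of_card hcardQ
  haveI hK'n : K'.Normal := normal_of_index_prime_of_isPGroup hQp K' hK'idx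
  set K := K'.comap (QuotientGroup.mk' N) with hK
  haveI hKn : K.Normal := hK'n.comap _
  have hKidx : K.index = p := by
    rw [hK, Subgroup.index_comap_of_surjective _ (QuotientGroup.mk'_surjective N)]
    exact hK'idx
  have hKt : K ≠ ⊤ := by
    intro h'
    rw [h', Subgroup.index_top] at hKidx
    exact hp.out.one_lt.ne hKidx
  have hpK : ¬ p ∣ Nat.card K := h.not_dvd_card_of_normal K hKt
  have e1 := Subgroup.card_mul_index K
  have e2 := Subgroup.card_mul_index N
  rw [hKidx] at e1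
  rw [hidx, hn] at e2
  by_contra hne
  have hn2 : 2 ≤ n := by
    rcases Nat.lt_or_ge n 2 with h2 | h2
    · exfalso
      apply hne
      have : n = 1 := by omega
      rw [hn, this, pow_one]
    · exact h2
  apply hpK
  have h3 : Nat.card K * p = Nat.card N * p ^ (n - 1) * p := by
    rw [e1, ← e2, mul_assoc, ← hpn]
  have h4 := Nat.eq_of_mul_eq_mul_right hp.out.pos h3
  rw [h4]
  exact Dvd.dvd.mul_left (dvd_pow_self p (by omega)) _

/-- A `P`-invariant Sylow `q`-subgroup. -/
theorem exists_sylow_normalized {p : ℕ} [hp : Fact p.Prime] [Finite G] (h : MinNonPClosed p G)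
    (P : Sylow p G) (N : Subgroup G) [hNn : N.Normal] (hN : N ≠ ⊥) (hNt : N ≠ ⊤)
    {q : ℕ} [hq : Fact q.Prime] (hqp : q ≠ p) :
    ∃ Q : Sylow q G, (Q : Subgroup G) ≤ N ∧
      (P : Subgroup G) ≤ Subgroup.normalizer ((Q : Subgroup G) : Set G) := by
  have hcard : Nat.card P = p := h.card_sylow_eq P N hN hNt
  have hidx : N.index = p := (h.index_eq_card_sylow P N hN hNt).trans hcard
  have hpN : ¬ p ∣ Nat.card N := h.not_dvd_card_of_normal N hNt
  have hall : ∀ Q : Sylow q G, (Q : Subgroup G) ≤ N := fun Q =>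
    sylow_le_normal_of_not_dvd_index Q N (by
      rw [hidx]
      intro hd
      exact hqp ((Nat.prime_dvd_prime_iff_eq hq.out hp.out).mp hd))
  have key : ¬ p ∣ Nat.card (Sylow q G) := by
    obtain Q : Sylow q G := default
    have hQN := hall Q
    rw [Q.card_eq_index_normalizer]
    set M := Subgroup.normalizer ((Q : Subgroup G) : Set G) with hM
    have hfr : M ⊔ N = ⊤ := Sylow.normalizer_sup_eq_top' Q hQN
    intro hdvd
    change p ∣ M.index at hdvd
    have hsurj : Function.Surjective ((QuotientGroup.mk' N).comp M.subtype) := by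
      intro y
      obtain ⟨g, rfl⟩ := QuotientGroup.mk'_surjective N y
      have hg : g ∈ ((M ⊔ N : Subgroup G) : Set G) := by rw [hfr]; trivial
      rw [Subgroup.mul_normal] at hg
      obtain ⟨m, hm, n, hn, rfl⟩ := Set.mem_mul.mp hg
      refine ⟨⟨m, hm⟩, ?_⟩
      simp only [MonoidHom.comp_apply, Subgroup.coe_subtype, QuotientGroup.mk'_apply]
      rw [QuotientGroup.eq]
      simpa using hn
    have h1 : p ∣ Nat.card M := by
      have := Subgroup.card_dvd_of_surjective _ hsurj
      rwa [← Subgroup.index_eq_card, hidx] at this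
    have e1 := Subgroup.card_mul_index M
    have e2 := Subgroup.card_mul_index N
    rw [hidx] at e2
    apply hpN
    have h2 : p * p ∣ Nat.card N * p := by
      rw [e2, ← e1]; exact mul_dvd_mul h1 hdvd
    exact Nat.dvd_of_mul_dvd_mul_right hp.out.pos h2
  obtain ⟨Q, hQ⟩ := P.2.nonempty_fixed_point_of_prime_not_dvd_card (Sylow q G) key
  refine ⟨Q, hall Q, fun g hg => ?_⟩
  exact Sylow.smul_eq_iff_mem_normalizer.mp (hQ ⟨g, hg⟩)

/-- Either `N` is the invariant Sylow `q`-subgroup or `P` centralizes it. -/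
theorem sylow_dichotomy {p : ℕ} [hp : Fact p.Prime] [Finite G] (h : MinNonPClosed p G)
    (P : Sylow p G) (N : Subgroup G) [hNn : N.Normal] (hN : N ≠ ⊥) (hNt : N ≠ ⊤)
    {q : ℕ} [hq : Fact q.Prime] (Q : Sylow q G) (hQN : (Q : Subgroup G) ≤ N)
    (hPQ : (P : Subgroup G) ≤ Subgroup.normalizer ((Q : Subgroup G) : Set G)) :
    N ≤ Q ∨ ∀ a ∈ P, ∀ b ∈ Q, a * b = b * a := by
  have hdisj : (P : Subgroup G) ⊓ N = ⊥ := disjoint_iff.mp (h.isComplement' P N hN hNt).disjoint
  by_cases htop : (P : Subgroup G) ⊔ Q = ⊤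
  · left
    intro g hg
    have hg' : g ∈ (((P : Subgroup G) ⊔ Q : Subgroup G) : Set G) := by rw [htop]; trivial
    rw [Subgroup.coe_mul_of_left_le_normalizer_right _ _ hPQ] at hg'
    obtain ⟨a, ha, b, hb, rfl⟩ := Set.mem_mul.mp hg'
    have haN : a ∈ N := by
      have := N.mul_mem hg (N.inv_mem (hQN hb))
      simpa using this
    have : a ∈ (P : Subgroup G) ⊓ N := ⟨ha, haN⟩
    rw [hdisj, Subgroup.mem_bot] at this
    rw [this, one_mul]
    exact hb
  · right
    have hPn := h.sub _ htop (P.subtype le_sup_left)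
    intro a ha b hb
    have hbH : b ∈ (P : Subgroup G) ⊔ Q := (le_sup_right : (Q : Subgroup G) ≤ _) hb
    have haH : a ∈ (P : Subgroup G) ⊔ Q := (le_sup_left : (P : Subgroup G) ≤ _) ha
    have h1 : b * a * b⁻¹ ∈ (P : Subgroup G) := by
      have := hPn.conj_mem ⟨a, haH⟩
        (by rw [Sylow.coe_subtype, Subgroup.mem_subgroupOf]; exact ha) ⟨b, hbH⟩
      rw [Sylow.coe_subtype, Subgroup.mem_subgroupOf] at this
      exact this
    have h2 : a * b * a⁻¹ ∈ (Q : Subgroup G) := by
      have := hPQ ha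
      rw [Subgroup.mem_normalizer_iff] at this
      exact (this b).mp hb
    have h3a : a * b * a⁻¹ * b⁻¹ ∈ (P : Subgroup G) := by
      have := (P : Subgroup G).mul_mem ha ((P : Subgroup G).inv_mem h1)
      have e : a * (b * a * b⁻¹)⁻¹ = a * b * a⁻¹ * b⁻¹ := by group
      rwa [e] at this
    have h3b : a * b * a⁻¹ * b⁻¹ ∈ (Q : Subgroup G) :=
      (Q : Subgroup G).mul_mem h2 ((Q : Subgroup G).inv_mem hb)
    have h3 : a * b * a⁻¹ * b⁻¹ ∈ (P : Subgroup G) ⊓ Q := Subgroup.mem_inf.mpr ⟨h3a, h3b⟩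
    have hPQd : (P : Subgroup G) ⊓ Q = ⊥ := by
      apply le_bot_iff.mp
      rw [← hdisj]
      exact inf_le_inf_left _ hQN
    rw [hPQd, Subgroup.mem_bot] at h3
    calc a * b = a * b * a⁻¹ * b⁻¹ * b * a := by group
      _ = b * a := by rw [h3, one_mul]

/-- A proper nontrivial normal subgroup is a `q`-group for some prime `q ≠ p`. -/
theorem exists_prime_isPGroup {p : ℕ} [hp : Fact p.Prime] [Finite G] (h : MinNonPClosed p G)
    (N : Subgroup G) [hNn : N.Normal] (hN : N ≠ ⊥) (hNt : N ≠ ⊤) :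
    ∃ q : ℕ, q.Prime ∧ q ≠ p ∧ IsPGroup q ↥N := by
  obtain P : Sylow p G := default
  have hpN : ¬ p ∣ Nat.card N := h.not_dvd_card_of_normal N hNt
  by_contra hcon
  push Not at hcon
  have hcent : ∀ q : ℕ, [Fact q.Prime] → q ≠ p →
      ∃ Q : Sylow q G, (Q : Subgroup G) ≤ N ∧ ∀ a ∈ P, ∀ b ∈ Q, a * b = b * a := by
    intro q hq hqp
    obtain ⟨Q, hQN, hQ⟩ := h.exists_sylow_normalized P N hN hNt hqp
    rcases h.sylow_dichotomy P N hN hNt Q hQN hQ with h1 | h1
    · exfalso
      exact hcon q hq.out hqp (Q.2.to_le h1)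
    · exact ⟨Q, hQN, h1⟩
  set C := Subgroup.centralizer ((P : Subgroup G) : Set G) with hC
  have hNC : N ≤ C := by
    set D := C ⊓ N with hD
    have hrel : D.relIndex N = 1 := by
      rw [Nat.eq_one_iff_not_exists_prime_dvd]
      intro q hq hqd
      haveI : Fact q.Prime := ⟨hq⟩
      have hqN : q ∣ Nat.card N := hqd.trans (Subgroup.relIndex_dvd_card D N)
      have hqp : q ≠ p := by
        rintro rfl
        exact hpN hqN
      obtain ⟨Q, hQN, hQc⟩ := hcent q hqp
      have hQD : (Q : Subgroup G) ≤ D := by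
        intro b hb
        have hbC : b ∈ C := by
          rw [hC, Subgroup.mem_centralizer_iff]
          intro a ha
          exact hQc a ha b hb
        exact Subgroup.mem_inf.mpr ⟨hbC, hQN hb⟩
      have h1 : ¬ q ∣ (Q : Subgroup G).index := Q.not_dvd_index
      apply h1
      have h2 : D.index ∣ (Q : Subgroup G).index := Subgroup.index_dvd_of_le hQD
      have h3 : D.relIndex N * N.index = D.index := Subgroup.relIndex_mul_index inf_le_right
      exact (hqd.trans (Dvd.intro _ h3)).trans h2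
    have := Subgroup.relIndex_eq_one.mp hrel
    exact this.trans inf_le_left
  apply h.not_normal P
  have hNP : Subgroup.normalizer ((P : Subgroup G) : Set G) = ⊤ := by
    rw [eq_top_iff, ← h.sup_eq_top P N hN]
    apply sup_le Subgroup.le_normalizer
    exact hNC.trans (Subgroup.centralizer_le_normalizer _)
  exact Subgroup.normalizer_eq_top_iff.mp hNP

end MinNonPClosed

/-- A minimal normal subgroup which is a `q`-group is elementary abelian. -/
theorem elementary_abelian_of_minimal_normal {q : ℕ} [hq : Fact q.Prime] [Finite G]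
    (N : Subgroup G) [hNn : N.Normal] (hN : N ≠ ⊥)
    (hmin : ∀ B : Subgroup G, B.Normal → B ≤ N → B = ⊥ ∨ B = N) (hNq : IsPGroup q ↥N) :
    (∀ a ∈ N, ∀ b ∈ N, a * b = b * a) ∧ ∀ a ∈ N, a ^ q = 1 := by
  haveI : Nontrivial ↥N := (Subgroup.nontrivial_iff_ne_bot N).mpr hN
  have hcomm : ∀ a ∈ N, ∀ b ∈ N, a * b = b * a := by
    have hZnt : Nontrivial (Subgroup.center ↥N) := hNq.center_nontrivial
    have hZn : ((Subgroup.center ↥N).map N.subtype).Normal :=
      ConjAct.normal_of_characteristic_of_normal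
    have hZne : (Subgroup.center ↥N).map N.subtype ≠ ⊥ := by
      rw [Ne, Subgroup.map_eq_bot_iff_of_injective _ N.subtype_injective]
      exact (Subgroup.nontrivial_iff_ne_bot _).mp hZnt
    rcases hmin _ hZn (Subgroup.map_subtype_le _) with h1 | h1
    · exact absurd h1 hZne
    · intro a ha b hb
      have : a ∈ (Subgroup.center ↥N).map N.subtype := by rw [h1]; exact ha
      obtain ⟨z, hz, rfl⟩ := Subgroup.mem_map.mp this
      rw [Subgroup.mem_center_iff] at hz
      have := hz ⟨b, hb⟩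
      exact (congrArg Subtype.val this).symm
  refine ⟨hcomm, ?_⟩
  let Ω : Subgroup G :=
    { carrier := {g | g ∈ N ∧ g ^ q = 1}
      mul_mem' := by
        rintro a b ⟨ha, ha'⟩ ⟨hb, hb'⟩
        refine ⟨N.mul_mem ha hb, ?_⟩
        have hc : Commute a b := hcomm a ha b hb
        rw [hc.mul_pow, ha', hb', one_mul]
      one_mem' := ⟨N.one_mem, one_pow _⟩
      inv_mem' := by
        rintro a ⟨ha, ha'⟩
        exact ⟨N.inv_mem ha, by rw [inv_pow, ha', inv_one]⟩ }
  have hΩmem : ∀ g, g ∈ Ω ↔ g ∈ N ∧ g ^ q = 1 := fun g => Iff.rfl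
  have hΩn : Ω.Normal := by
    refine ⟨fun n hn g => ?_⟩
    rw [hΩmem] at hn ⊢
    refine ⟨hNn.conj_mem n hn.1 g, ?_⟩
    rw [conj_pow, hn.2, mul_one, mul_inv_cancel]
  have hΩN : Ω ≤ N := fun g hg => hg.1
  have hΩne : Ω ≠ ⊥ := by
    obtain ⟨k, hk⟩ := IsPGroup.iff_card.mp hNq
    have hk0 : k ≠ 0 := by
      rintro rfl
      rw [pow_zero, Subgroup.card_eq_one] at hk
      exact hN hk
    have hdvd : q ∣ Nat.card ↥N := by
      rw [hk]; exact dvd_pow_self q hk0
    obtain ⟨x, hx⟩ := exists_prime_orderOf_dvd_card' q hdvd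
    intro hbot
    have hxΩ : (x : G) ∈ Ω := by
      rw [hΩmem]
      refine ⟨x.2, ?_⟩
      have := pow_orderOf_eq_one x
      rw [hx] at this
      have := congrArg Subtype.val this
      simpa using this
    rw [hbot, Subgroup.mem_bot] at hxΩ
    have hx1 : x = 1 := Subtype.ext hxΩ
    rw [hx1, orderOf_one] at hx
    exact hq.out.one_lt.ne hx
  rcases hmin Ω hΩn hΩN with h1 | h1
  · exact absurd h1 hΩne
  · intro a ha
    have : a ∈ Ω := by rw [h1]; exact ha
    exact this.2

/-- Structure of the non-simple minimal non-`p`-closed groups. -/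
theorem MinNonPClosed.structure_thm {p : ℕ} [hp : Fact p.Prime] [Finite G]
    (h : MinNonPClosed p G) (hns : ¬ IsSimpleGroup G) :
    ∃ q : ℕ, q.Prime ∧ q ≠ p ∧ Nat.card G = p * q ^ orderOf (q : ZMod p) ∧
      ∃ A : Subgroup G, A.Normal ∧ Nat.card ↥A = q ^ orderOf (q : ZMod p) ∧
        ((∀ a ∈ A, ∀ b ∈ A, a * b = b * a) ∧ ∀ a ∈ A, a ^ q = 1) ∧
        ∀ B : Subgroup G, B.Normal → B ≤ A → B = ⊥ ∨ B = A := by
  haveI : Nontrivial G := by
    by_contra hnt
    rw [not_nontrivial_iff_subsingleton] at hnt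
    apply h.nc
    intro P
    refine ⟨fun n hn g => ?_⟩
    have : g * n * g⁻¹ = n := Subsingleton.elim _ _
    rw [this]; exact hn
  obtain ⟨N₀, hN₀n, hN₀b, hN₀t⟩ := exists_normal_ne_bot_ne_top hns
  obtain ⟨N, hNn, hNb, hNN₀, hmin⟩ := exists_minimal_normal_le N₀ hN₀n hN₀b
  have hNt : N ≠ ⊤ := by
    rintro rfl
    exact hN₀t (top_le_iff.mp hNN₀)
  obtain P : Sylow p G := default
  have hcard : Nat.card P = p := h.card_sylow_eq P N hNb hNt
  have hidx : N.index = p := (h.index_eq_card_sylow P N hNb hNt).trans hcard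
  obtain ⟨q, hq, hqp, hNq⟩ := h.exists_prime_isPGroup N hNb hNt
  haveI : Fact q.Prime := ⟨hq⟩
  obtain ⟨hcomm, hexp⟩ := elementary_abelian_of_minimal_normal N hNb hmin hNq
  have hna : ¬ ∀ g k : G, g * k = k * g := by
    intro hc
    apply h.not_normal P
    refine ⟨fun n hn g => ?_⟩
    rw [hc g n, mul_assoc, mul_inv_cancel, mul_one]
    exact hn
  have hcardN := card_of_minimal_normal_prime_index hq hqp hna N hcomm hexp hidx hmin
  refine ⟨q, hq, hqp, ?_, N, hNn, hcardN, ⟨hcomm, hexp⟩, hmin⟩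
  rw [← Subgroup.card_mul_index N, hidx, hcardN, mul_comm]

end Cfsg.Agent.Lib.Helper69
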