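import Mathlib

set_option autoImplicit false

/-! Steinberg data of type `A_{n-1}` in an abstract group: vocabulary for the pack K-StN (S2401). -/

namespace Cfsg.Agent.Lib.Helper69.StN

variable {n : ℕ} {K : Type*} [Field K] {S : Type*} [Group S]

/-- `X i j t` (`i ≠ j`) satisfy the Steinberg relations of `SL_n`. -/
structure IsSt (X : Fin n → Fin n → K → S) : Prop where
  add : ∀ i j, i ≠ j → ∀ t u, X i j t * X i j u = X i j (t + u)
  comm : ∀ i j k l, i ≠ j → k ≠ l → i ≠ l → j ≠ k → ∀ t u, X i j t * X k l u = X k l u * X i j t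
  comm3 : ∀ i j l, i ≠ j → j ≠ l → i ≠ l → ∀ t u,
    X i j t * X j l u * (X i j t)⁻¹ * (X j l u)⁻¹ = X i l (t * u)

/-- the monomial element `w_ij(u)`. -/
def w (X : Fin n → Fin n → K → S) (i j : Fin n) (u : K) : S := X i j u * X j i (-u⁻¹) * X i j u

/-- the torus element `h_ij(u)`. -/
def hh (X : Fin n → Fin n → K → S) (i j : Fin n) (u : K) : S := w X i j u * w X i j (-1)

/-- the upper unipotent subgroup. -/
def Upos (X : Fin n → Fin n → K → S) : Subgroup S :=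
  Subgroup.closure {g | ∃ i j t, i < j ∧ g = X i j t}

/-- the upper unipotent subgroup without the simple root `(a,b)`. -/
def UposA (X : Fin n → Fin n → K → S) (a b : Fin n) : Subgroup S :=
  Subgroup.closure {g | ∃ i j t, i < j ∧ ¬ (i = a ∧ j = b) ∧ g = X i j t}

/-- the monomial subgroup. -/
def Nmon (X : Fin n → Fin n → K → S) : Subgroup S :=
  Subgroup.closure {g | ∃ i j, ∃ u : K, i ≠ j ∧ u ≠ 0 ∧ g = w X i j u}

/-- the torus. -/
def Htor (X : Fin n → Fin n → K → S) : Subgroup S :=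
  Subgroup.closure {g | ∃ i j, ∃ u : K, i ≠ j ∧ u ≠ 0 ∧ g = hh X i j u}

/-- `g` acts on the root elements like the monomial matrix with permutation `σ` and entries `d`. -/
def Acts (X : Fin n → Fin n → K → S) (g : S) (σ : Equiv.Perm (Fin n)) (d : Fin n → K) : Prop :=
  (∀ k, d k ≠ 0) ∧ ∀ k l, k ≠ l → ∀ t, g * X k l t * g⁻¹ = X (σ k) (σ l) (d k * t * (d l)⁻¹)

/-- the entries of the monomial matrix of `w_ij(u)`. -/
def dW (i j : Fin n) (u : K) : Fin n → K := fun m => if m = i then -u⁻¹ else if m = j then u else 1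

/-- the hypothesis on the comparison homomorphism. -/
def IsPhi (X : Fin n → Fin n → K → S) (φ : S →* Matrix.SpecialLinearGroup (Fin n) K) : Prop :=
  ∀ i j (hij : i ≠ j) (t : K), φ (X i j t) = Matrix.SpecialLinearGroup.transvection hij t

namespace IsSt
variable {X : Fin n → Fin n → K → S} (hX : IsSt X)
include hX

lemma zero {i j : Fin n} (h : i ≠ j) : X i j 0 = 1 := by
  have := hX.add i j h 0 0
  rw [add_zero] at this
  exact mul_eq_left.mp this

lemma inv {i j : Fin n} (h : i ≠ j) (t : K) : (X i j t)⁻¹ = X i j (-t) := by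
  rw [inv_eq_iff_mul_eq_one, hX.add i j h, add_neg_cancel, hX.zero h]

lemma w_inv {i j : Fin n} (h : i ≠ j) (u : K) : (w X i j u)⁻¹ = w X i j (-u) := by
  unfold w
  rw [mul_inv_rev, mul_inv_rev, hX.inv h, hX.inv h.symm, inv_neg, neg_neg, mul_assoc]

end IsSt

/-! ### the calculus of `Acts` -/

lemma Acts.one (X : Fin n → Fin n → K → S) : Acts X 1 1 (fun _ => 1) := by
  refine ⟨fun _ => one_ne_zero, fun k l _ t => ?_⟩
  simp

lemma Acts.mul {X : Fin n → Fin n → K → S} {g g' : S} {σ σ' : Equiv.Perm (Fin n)} {d d' : Fin n → K}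
    (h : Acts X g σ d) (h' : Acts X g' σ' d') :
    Acts X (g * g') (σ * σ') (fun k => d (σ' k) * d' k) := by
  refine ⟨fun k => mul_ne_zero (h.1 _) (h'.1 _), fun k l hkl t => ?_⟩
  have e1 : g * g' * X k l t * (g * g')⁻¹ = g * (g' * X k l t * g'⁻¹) * g⁻¹ := by group
  rw [e1, h'.2 k l hkl t, h.2 (σ' k) (σ' l) (fun e => hkl (σ'.injective e))]
  simp only [Equiv.Perm.coe_mul, Function.comp_apply]
  congr 1
  rw [mul_inv]
  ring

lemma Acts.inv {X : Fin n → Fin n → K → S} {g : S} {σ : Equiv.Perm (Fin n)} {d : Fin n → K}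
    (h : Acts X g σ d) : Acts X g⁻¹ σ⁻¹ (fun k => (d (σ⁻¹ k))⁻¹) := by
  refine ⟨fun k => inv_ne_zero (h.1 _), fun k l hkl t => ?_⟩
  have hkl' : σ⁻¹ k ≠ σ⁻¹ l := fun e => hkl (σ⁻¹.injective e)
  have e := h.2 (σ⁻¹ k) (σ⁻¹ l) hkl' ((d (σ⁻¹ k))⁻¹ * t * (d (σ⁻¹ l))⁻¹⁻¹)
  have hk : σ (σ⁻¹ k) = k := by simp
  have hl : σ (σ⁻¹ l) = l := by simp
  rw [hk, hl] at e
  have e2 : d (σ⁻¹ k) * ((d (σ⁻¹ k))⁻¹ * t * (d (σ⁻¹ l))⁻¹⁻¹) * (d (σ⁻¹ l))⁻¹ = t := by
    have h1 := h.1 (σ⁻¹ k)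
    have h2 := h.1 (σ⁻¹ l)
    field_simp
  rw [e2] at e
  rw [← e]
  group

/-- the two key hypotheses passed to the leaves. -/
def HasActsW (X : Fin n → Fin n → K → S) : Prop :=
  ∀ i j, i ≠ j → ∀ u : K, u ≠ 0 → Acts X (w X i j u) (Equiv.swap i j) (dW i j u)

/-- multiplicativity of the torus elements (the rank one input). -/
def HasHhMul (X : Fin n → Fin n → K → S) : Prop :=
  ∀ i j, i ≠ j → ∀ u v : K, u ≠ 0 → v ≠ 0 → hh X i j (u * v) = hh X i j u * hh X i j v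

/-- every monomial element acts monomially. -/
def HasActsN (X : Fin n → Fin n → K → S) : Prop :=
  ∀ m ∈ Nmon X, ∃ σ d, Acts X m σ d

namespace IsSt
variable {X : Fin n → Fin n → K → S} (hX : IsSt X)
include hX

lemma neg_root_eq {i j : Fin n} (hij : i ≠ j) (t : K) :
    X j i t = X i j t⁻¹ * w X i j (-t⁻¹) * X i j t⁻¹ := by
  unfold w
  have e : -(-t⁻¹)⁻¹ = t := by rw [inv_neg, neg_neg, inv_inv]
  rw [e]
  have h1 : X i j t⁻¹ * X i j (-t⁻¹) = 1 := by rw [hX.add i j hij, add_neg_cancel, hX.zero hij]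
  have h2 : X i j (-t⁻¹) * X i j t⁻¹ = 1 := by rw [hX.add i j hij, neg_add_cancel, hX.zero hij]
  calc X j i t = (X i j t⁻¹ * X i j (-t⁻¹)) * X j i t * (X i j (-t⁻¹) * X i j t⁻¹) := by
        rw [h1, h2, one_mul, mul_one]
    _ = _ := by group

lemma hh_one {i j : Fin n} (hij : i ≠ j) : hh X i j (1 : K) = 1 := by
  unfold hh
  rw [← hX.w_inv hij, mul_inv_cancel]

lemma w_eq_hh_mul {i j : Fin n} (hij : i ≠ j) (u : K) : w X i j u = hh X i j u * w X i j 1 := by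
  unfold hh
  have : w X i j (-1) * w X i j (1 : K) = 1 := by rw [← hX.w_inv hij, inv_mul_cancel]
  rw [mul_assoc, this, mul_one]

lemma w_one_sq {i j : Fin n} (hij : i ≠ j) : w X i j (1 : K) * w X i j 1 = (hh X i j (-1))⁻¹ := by
  unfold hh
  rw [mul_inv_rev, hX.w_inv hij, neg_neg]

lemma conj_w_of_acts {g : S} {σ : Equiv.Perm (Fin n)} {d : Fin n → K} (hg : Acts X g σ d)
    {k l : Fin n} (hkl : k ≠ l) {v : K} (hv : v ≠ 0) :
    g * w X k l v * g⁻¹ = w X (σ k) (σ l) (d k * v * (d l)⁻¹) := by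
  unfold w
  have e : g * (X k l v * X l k (-v⁻¹) * X k l v) * g⁻¹ =
      (g * X k l v * g⁻¹) * (g * X l k (-v⁻¹) * g⁻¹) * (g * X k l v * g⁻¹) := by group
  rw [e, hg.2 k l hkl, hg.2 l k hkl.symm]
  have hk := hg.1 k
  have hl := hg.1 l
  have e2 : d l * -v⁻¹ * (d k)⁻¹ = -(d k * v * (d l)⁻¹)⁻¹ := by
    field_simp
  rw [e2]

lemma conj_hh_of_acts {g : S} {σ : Equiv.Perm (Fin n)} {d : Fin n → K} (hg : Acts X g σ d)
    {k l : Fin n} (hkl : k ≠ l) {v : K} (hv : v ≠ 0) :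
    g * hh X k l v * g⁻¹ =
      hh X (σ k) (σ l) (d k * (d l)⁻¹ * v) * (hh X (σ k) (σ l) (d k * (d l)⁻¹))⁻¹ := by
  have hσ : σ k ≠ σ l := fun e => hkl (σ.injective e)
  have e : g * hh X k l v * g⁻¹ = (g * w X k l v * g⁻¹) * (g * w X k l (-1) * g⁻¹) := by
    unfold hh; group
  rw [e, hX.conj_w_of_acts hg hkl hv, hX.conj_w_of_acts hg hkl (neg_ne_zero.mpr one_ne_zero)]
  unfold hh
  rw [mul_inv_rev, hX.w_inv hσ, hX.w_inv hσ, neg_neg]
  have e3 : d k * v * (d l)⁻¹ = d k * (d l)⁻¹ * v := by ring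
  have e4 : d k * -1 * (d l)⁻¹ = -(d k * (d l)⁻¹) := by ring
  rw [e3, e4]
  have : w X (σ k) (σ l) (-1) * (w X (σ k) (σ l) (1 : K) * w X (σ k) (σ l) (-(d k * (d l)⁻¹)))
      = w X (σ k) (σ l) (-(d k * (d l)⁻¹)) := by
    rw [← mul_assoc, ← hX.w_inv hσ, inv_mul_cancel, one_mul]
  rw [mul_assoc (w X (σ k) (σ l) (d k * (d l)⁻¹ * v)) (w X (σ k) (σ l) (-1)), this]

end IsSt

lemma w_mem_Nmon (X : Fin n → Fin n → K → S) {i j : Fin n} (h : i ≠ j) {u : K} (hu : u ≠ 0) :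
    w X i j u ∈ Nmon X := Subgroup.subset_closure ⟨i, j, u, h, hu, rfl⟩

lemma hh_mem_Htor (X : Fin n → Fin n → K → S) {i j : Fin n} (h : i ≠ j) {u : K} (hu : u ≠ 0) :
    hh X i j u ∈ Htor X := Subgroup.subset_closure ⟨i, j, u, h, hu, rfl⟩

lemma X_mem_Upos (X : Fin n → Fin n → K → S) {i j : Fin n} (h : i < j) (t : K) :
    X i j t ∈ Upos X := Subgroup.subset_closure ⟨i, j, t, h, rfl⟩

lemma UposA_le_Upos (X : Fin n → Fin n → K → S) (a b : Fin n) : UposA X a b ≤ Upos X := by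
  apply Subgroup.closure_mono
  rintro g ⟨i, j, t, hij, -, rfl⟩
  exact ⟨i, j, t, hij, rfl⟩

lemma hh_mem_Nmon (X : Fin n → Fin n → K → S) {i j : Fin n} (h : i ≠ j) {u : K} (hu : u ≠ 0) :
    hh X i j u ∈ Nmon X :=
  (Nmon X).mul_mem (w_mem_Nmon X h hu) (w_mem_Nmon X h (neg_ne_zero.mpr one_ne_zero))

lemma Htor_le_Nmon (X : Fin n → Fin n → K → S) : Htor X ≤ Nmon X := by
  rw [Htor, Subgroup.closure_le]
  rintro g ⟨i, j, u, h, hu, rfl⟩
  exact hh_mem_Nmon X h hu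

/-- lift of the simple reflection `(a, a+1)` (index type `Fin (k+1)`). -/
def sS {k : ℕ} (X : Fin (k + 1) → Fin (k + 1) → K → S) (a : Fin k) : S := w X a.castSucc a.succ 1

lemma sS_mem_Nmon {k : ℕ} (X : Fin (k + 1) → Fin (k + 1) → K → S) (a : Fin k) : sS X a ∈ Nmon X :=
  w_mem_Nmon X (Fin.castSucc_lt_succ (i := a)).ne one_ne_zero

end Cfsg.Agent.Lib.Helper69.StN
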