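import Mathlib
import Cfsg.Agent.Lib.Helper11.Syl22Defs

set_option autoImplicit false

/-! K-B9 (keystone 434618) of the S4346 pack: `|N(<x>)| = 22` for an element `x` of order 11 with
`|C(x)| = 11`, in a simple group with 22 Sylow 3-subgroups of order 3, no element of order 5 and `121 ∤ |G|`. -/

namespace Cfsg.Agent.Lib.Helper69.Syl22

open Cfsg.Agent.Lib.Helper11.Syl22

theorem centralizer_zpowers_eq {G : Type*} [Group G] (x : G) :
    Subgroup.centralizer ((Subgroup.zpowers x : Subgroup G) : Set G) =
      Subgroup.centralizer ({x} : Set G) := by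
  ext g
  rw [Subgroup.mem_centralizer_iff, Subgroup.mem_centralizer_iff]
  constructor
  · intro h y hy
    rw [Set.mem_singleton_iff] at hy
    subst hy
    exact h y (Subgroup.mem_zpowers y)
  · intro h y hy
    obtain ⟨k, rfl⟩ := Subgroup.mem_zpowers_iff.mp hy
    have h1 : Commute x g := h x (Set.mem_singleton x)
    exact (h1.zpow_left k).eq

theorem card_normalizer_eleven {G : Type*} [Group G] (c : Ctx G)
    (hno5 : ∀ g : G, orderOf g ≠ 5) (h121 : ¬ 121 ∣ Nat.card G) (x : G) (hx : orderOf x = 11)
    (hC : Nat.card ↥(Subgroup.centralizer ({x} : Set G)) = 11) :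
    Nat.card ↥(Subgroup.normalizer ((Subgroup.zpowers x : Subgroup G) : Set G)) = 22 := by
  classical
  have := c.fin
  have := c.simple
  set X : Subgroup G := Subgroup.zpowers x with hX
  have hXcard : Nat.card X = 11 := by rw [hX, Nat.card_zpowers, hx]
  have hCX : Subgroup.centralizer (X : Set G) = Subgroup.centralizer ({x} : Set G) :=
    centralizer_zpowers_eq x
  have hXle : X ≤ Subgroup.centralizer (X : Set G) := by
    rw [hCX]
    intro y hy
    obtain ⟨k, rfl⟩ := Subgroup.mem_zpowers_iff.mp hy
    rw [Subgroup.mem_centralizer_iff]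
    intro z hz
    rw [Set.mem_singleton_iff] at hz
    subst hz
    exact ((Commute.refl z).zpow_right k).eq
  have hCeq : Subgroup.centralizer (X : Set G) = X := by
    symm
    apply Subgroup.eq_of_le_of_card_ge hXle
    rw [hCX, hC, hXcard]
  -- the quotient N/C embeds in Aut X, of order 10
  have key := Subgroup.card_dvd_of_injective _ (QuotientGroup.kerLift_injective X.normalizerMonoidHom)
  rw [Subgroup.normalizerMonoidHom_ker, ← Subgroup.index, ← Subgroup.relIndex] at key
  haveI : IsCyclic X := by rw [hX]; infer_instance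
  rw [IsCyclic.card_mulAut, hXcard, Nat.totient_prime (by norm_num : Nat.Prime 11)] at key
  have hCN : Subgroup.centralizer (X : Set G) ≤ Subgroup.normalizer (X : Set G) :=
    Subgroup.centralizer_le_normalizer _
  have hmul := Subgroup.relIndex_mul_index hCN
  have hN : Nat.card (Subgroup.normalizer (X : Set G)) =
      (Subgroup.centralizer (X : Set G)).relIndex (Subgroup.normalizer (X : Set G)) * 11 := by
    have h1 := Subgroup.card_mul_index (Subgroup.centralizer (X : Set G))
    have h2 := Subgroup.card_mul_index (Subgroup.normalizer (X : Set G))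
    rw [hCeq, hXcard] at h1
    rw [hCeq] at hmul ⊢
    have hidx : (Subgroup.normalizer (X : Set G)).index ≠ 0 := Subgroup.index_ne_zero_of_finite
    have h3 : Nat.card (Subgroup.normalizer (X : Set G)) * (Subgroup.normalizer (X : Set G)).index =
        X.relIndex (Subgroup.normalizer (X : Set G)) * 11 *
          (Subgroup.normalizer (X : Set G)).index := by
      rw [h2, ← h1, ← hmul]; ring
    exact Nat.eq_of_mul_eq_mul_right (Nat.pos_of_ne_zero hidx) h3
  obtain ⟨d, hd⟩ : ∃ d, d = (Subgroup.centralizer (X : Set G)).relIndex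
      (Subgroup.normalizer (X : Set G)) := ⟨_, rfl⟩
  rw [← hd] at hN key
  have hd10 : d ∣ 10 := by simpa using key
  -- 5 does not divide |G|
  have h5 : ¬ 5 ∣ Nat.card G := by
    intro h
    haveI : Fact (Nat.Prime 5) := ⟨by norm_num⟩
    obtain ⟨g, hg⟩ := exists_prime_orderOf_dvd_card' 5 h
    exact hno5 g hg
  have hd5 : ¬ 5 ∣ d := by
    intro h
    apply h5
    have h1 : 5 ∣ Nat.card (Subgroup.normalizer (X : Set G)) := by
      rw [hN]; exact Dvd.dvd.mul_right h 11
    exact h1.trans (Subgroup.card_subgroup_dvd_card _)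
  have hd12 : d = 1 ∨ d = 2 := by
    have hmem : d ∈ Nat.divisors 10 := Nat.mem_divisors.mpr ⟨hd10, by norm_num⟩
    have hdiv : Nat.divisors 10 = {1, 2, 5, 10} := by decide
    rw [hdiv] at hmem
    simp only [Finset.mem_insert, Finset.mem_singleton] at hmem
    rcases hmem with h | h | h | h
    · exact Or.inl h
    · exact Or.inr h
    · exact absurd (h ▸ dvd_rfl : 5 ∣ d) hd5
    · exact absurd (h ▸ (by norm_num : 5 ∣ 10) : 5 ∣ d) hd5
  rcases hd12 with h1 | h2
  · -- Burnside's transfer theorem gives a normal complement
    exfalso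
    have hNC : Subgroup.normalizer (X : Set G) ≤ Subgroup.centralizer (X : Set G) := by
      have := Subgroup.relIndex_eq_one.mp (hd ▸ h1)
      exact this
    -- X is a Sylow 11-subgroup
    haveI : Fact (Nat.Prime 11) := ⟨by norm_num⟩
    have h11 : 11 ∣ Nat.card G := by
      rw [← hXcard]; exact Subgroup.card_subgroup_dvd_card X
    have hfac : (Nat.card G).factorization 11 = 1 := by
      have hne : Nat.card G ≠ 0 := Nat.card_pos.ne'
      apply le_antisymm
      · by_contra hlt
        rw [not_le] at hlt
        apply h121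
        have : 11 ^ 2 ∣ Nat.card G :=
          (Nat.Prime.pow_dvd_iff_le_factorization (by norm_num) hne).mpr hlt
        simpa using this
      · exact (Nat.Prime.dvd_iff_one_le_factorization (by norm_num) hne).mp h11
    let P : Sylow 11 G := Sylow.ofCard X (by rw [hXcard, hfac, pow_one])
    have hPX : (P : Subgroup G) = X := rfl
    have hP : Subgroup.normalizer ((P : Subgroup G) : Set G) ≤
        Subgroup.centralizer ((P : Subgroup G) : Set G) := by
      rw [hPX]; exact hNC
    have hcompl := MonoidHom.ker_transferSylow_isComplement' P hP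
    have hKn : (MonoidHom.transferSylow P hP).ker.Normal := inferInstance
    have hcard := hcompl.card_mul_card
    have hPc : Nat.card ((P : Subgroup G)) = 11 := hXcard
    rw [hPc] at hcard
    rcases hKn.eq_bot_or_eq_top with hb | ht
    · rw [hb, Subgroup.card_bot, one_mul] at hcard
      -- |G| = 11 but 3 divides |G|
      obtain ⟨Q⟩ : Nonempty (Sylow 3 G) := inferInstance
      have h3 := c.h3 Q
      have h3G : 3 ∣ Nat.card G := by
        rw [← h3]; exact Subgroup.card_subgroup_dvd_card _
      rw [← hcard] at h3G
      norm_num at h3G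
    · rw [ht, Subgroup.card_top] at hcard
      have hpos : 0 < Nat.card G := Nat.card_pos
      nlinarith
  · rw [hN, h2]

end Cfsg.Agent.Lib.Helper69.Syl22
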