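import Mathlib
import Cfsg.Prelude.Def_GeometricClasses

set_option autoImplicit false

/-! Shared definitions of the K-SLT pack (S5979: `SL_n(q)` against the stabiliser `GL_a ⊗ GL_b` of a tensor
decomposition, `n = a b`, `2 ≤ a < b`). -/

namespace Cfsg.Agent.Lib.Helper69.SLT

open Matrix

variable {F : Type*} [Field F]

/-- dimension of the `μ`-eigenspace of a square matrix -/
noncomputable def eigDim {ι : Type*} [Fintype ι] [DecidableEq ι] (M : Matrix ι ι F) (μ : F) : ℕ :=
  Module.finrank F (Module.End.eigenspace (Matrix.toLin' M) μ)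

theorem mem_eigenspace_toLin' {ι : Type*} [Fintype ι] [DecidableEq ι] (M : Matrix ι ι F) (μ : F)
    (v : ι → F) : v ∈ Module.End.eigenspace (Matrix.toLin' M) μ ↔ M *ᵥ v = μ • v := by
  rw [Module.End.mem_eigenspace_iff, Matrix.toLin'_apply]

/-- no `GL`-conjugate of `x` is a Kronecker product `A ⊗ B` -/
def NoKronConj (a b : ℕ) (x : GL (Fin a × Fin b) F) : Prop :=
  ∀ h : GL (Fin a × Fin b) F, h⁻¹ * x * h ∉ Cfsg.Geo.kroneckerSubgroup a b F

/-- `x` is conjugate into the Kronecker subgroup by matrices of every determinant -/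
def AllDetKronConj (a b : ℕ) (x : GL (Fin a × Fin b) F) : Prop :=
  ∀ δ : Fˣ, ∃ h : GL (Fin a × Fin b) F, Matrix.GeneralLinearGroup.det h = δ ∧
    h⁻¹ * x * h ∈ Cfsg.Geo.kroneckerSubgroup a b F

end Cfsg.Agent.Lib.Helper69.SLT
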