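import Cfsg.Agent.Lib.Helper98.Oh0
import Cfsg.Agent.Lib.Helper98.Sy6

/-!
# S5989 / S5991 (architect helper69): shared definitions of the K-OPb pack

`IsoCls B W W'`: the subspaces `W`, `W'` of `V` carry isometric restrictions of the symmetric form `B`
(stated on the diagonal `B w w`; for `2 ≠ 0` and symmetric `B` this is the same as preserving `B`).
-/

set_option autoImplicit false

namespace Cfsg.Agent.Lib.Helper69.OPb

open Module

universe u
variable {F : Type u} [Field F] {V : Type u} [AddCommGroup V] [Module F V]

/-- the restrictions of `B` to `W` and to `W'` are isometric -/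
def IsoCls (B : LinearMap.BilinForm F V) (W W' : Submodule F V) : Prop :=
  ∃ e : W ≃ₗ[F] W', ∀ w : W, B (e w : V) (e w : V) = B (w : V) (w : V)

end Cfsg.Agent.Lib.Helper69.OPb
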