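import Cfsg.Agent.Lib.Helper69.OPbAsm
import Cfsg.Agent.Lib.Helper32.OmT
import Cfsg.Agent.Lib.Helper50.MinusLang
import Cfsg.Agent.Lib.Helper50.TypeCriteria

/-!
# K-OMb-7 (keystone 599107, pack S5991, architect helper32): `case_derangement_minus`

The minus copy of K-OPb LEAF 18 (`Helper57.OPb.case_derangement_of`), with `Helper32.Om.transport_minus` for the transport.
Uses only delivered leaves; the two facts of K-OMb LEAF 1 it needs are proved here in the form used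
(`lt_of_not_plus'`, `lt_QMinus`).
-/

set_option autoImplicit false
set_option linter.unusedVariables false
set_option maxHeartbeats 1600000

namespace Cfsg.Agent.Lib.Helper69.OMb

open Module Cfsg.Agent.Lib.Helper98.Elus Cfsg.Agent.Lib.Helper98.Sy Cfsg.Agent.Lib.Helper98.Oh
  Cfsg.Agent.Lib.Helper69.OPb

universe u
variable {F : Type u} [Field F]

theorem exists_sub_finrank' {V : Type u} [AddCommGroup V] [Module F V] [FiniteDimensional F V]
    (U : Submodule F V) (m : ℕ)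
    (hm : m ≤ finrank F U) : ∃ Z : Submodule F V, Z ≤ U ∧ finrank F Z = m := by
  let b := Module.finBasis F U
  let s : Fin m → V := fun a => (b (Fin.castLE hm a) : V)
  have hli : LinearIndependent F s :=
    (b.linearIndependent.comp _ (Fin.castLE_injective hm)).map' U.subtype (Submodule.ker_subtype U)
  refine ⟨Submodule.span F (Set.range s), ?_, ?_⟩
  · apply Submodule.span_le.mpr
    rintro _ ⟨a, rfl⟩
    exact Submodule.coe_mem _
  · rw [finrank_span_eq_card hli, Fintype.card_fin]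

/-- a totally isotropic subspace of a space that is not `Plus` has dimension `< d` -/
theorem lt_of_not_plus' {V : Type u} [AddCommGroup V] [Module F V] [FiniteDimensional F V]
    (B : LinearMap.BilinForm F V) (d : ℕ) (hd : finrank F V = 2 * d) (hnp : ¬ Plus B ⊤)
    (X : Submodule F V) (hX : ∀ x ∈ X, B x x = 0) : finrank F X < d := by
  by_contra hge
  push Not at hge
  obtain ⟨Z, hZX, hZd⟩ := exists_sub_finrank' X d hge
  apply hnp
  refine ⟨Z, le_top, fun u hu => hX u (hZX hu), ?_⟩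
  rw [finrank_top, hd, hZd]

/-- the totally isotropic subspaces of the concrete minus space have dimension `< d` -/
theorem lt_QMinus [Fintype F] (h2 : (2 : F) ≠ 0) (d : ℕ) (hd : 1 ≤ d) (a b : F)
    (hab : ∀ x y : F, x ^ 2 + a * x * y + b * y ^ 2 = 0 → x = 0 ∧ y = 0)
    (X : Submodule F (((Fin (d - 1) ⊕ Fin (d - 1)) ⊕ Fin 2) → F))
    (hX : ∀ x ∈ X, QuadraticMap.polarBilin (Cfsg.Agent.Lib.Helper50.QMinus (d - 1) F a b) x x = 0) :
    finrank F X < d := by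
  by_contra hge
  push Not at hge
  have hQX : ∀ x ∈ X, Cfsg.Agent.Lib.Helper50.QMinus (d - 1) F a b x = 0 := by
    intro x hx
    have h1 := hX x hx
    rw [QuadraticMap.polarBilin_apply_apply, QuadraticMap.polar_self] at h1
    have h3 : (2 : F) * Cfsg.Agent.Lib.Helper50.QMinus (d - 1) F a b x = 0 := by simpa using h1
    rcases mul_eq_zero.mp h3 with h | h
    · exact absurd h h2
    · exact h
  have hQND := Cfsg.Agent.Lib.Helper50.QND_of_nondegenerate _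
    (Cfsg.Agent.Lib.Helper50.QMinus_nondeg_of_anis (d - 1) a b hab)
  obtain ⟨k, rfl⟩ : ∃ k, d = k + 1 := ⟨d - 1, by omega⟩
  have hfr : finrank F (((Fin (k + 1 - 1) ⊕ Fin (k + 1 - 1)) ⊕ Fin 2) → F) = 2 * (k + 1) := by
    rw [Module.finrank_fintype_fun_eq_card, Cfsg.Agent.Lib.Helper50.card_minus_index]
    omega
  have hp := Cfsg.Agent.Lib.Helper50.plusType_of_totally_singular (k + 1)
    (Cfsg.Agent.Lib.Helper50.QMinus (k + 1 - 1) F a b) hQND hfr X hge hQX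
  exact Cfsg.Agent.Lib.Helper50.not_plus_of_anis a b (Cfsg.Agent.Lib.Helper50.QMinus (k + 1 - 1) F a b)
    (k + 1 - 1) (LinearEquiv.refl _ _) (fun v => rfl) hab hp

section core

variable [Fintype F]

/-- the transport step: an isometry `u` of order `r` on a minus space with `dim V0 < m % c` gives the
derangement in `Ω⁻`. -/
theorem core_derangement_minus (h2 : (2 : F) ≠ 0) (p f : ℕ) [Fact p.Prime]
    (hF : Fintype.card F = p ^ f) (r : ℕ) [Fact r.Prime] (hpr : p ≠ r) (hr2 : r ≠ 2)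
    (hrF : (r : F) ≠ 0)
    (d m : ℕ) (hd : 1 ≤ d) (a b : F) (hab : ∀ x y : F, x ^ 2 + a * x * y + b * y ^ 2 = 0 → x = 0 ∧ y = 0)
    {V : Type u} [AddCommGroup V] [Module F V] [FiniteDimensional F V]
    (B : LinearMap.BilinForm F V) (hS : ∀ a b, B a b = B b a) (hnd : NonDeg B ⊤)
    (hV : finrank F V = 2 * d)
    (hminus : ∀ X : Submodule F V, (∀ x ∈ X, B x x = 0) → finrank F X < d)
    (y : V →ₗ[F] V) (hiso : Iso B y) (hy : y ^ r = 1) (hy1 : y ≠ 1)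
    (hlt : finrank F (V0 y) < m % cOf (orderOf ((Fintype.card F : ℕ) : ZMod r))) :
    ∃ x : GL ((Fin (d - 1) ⊕ Fin (d - 1)) ⊕ Fin 2) F, x ∈ Cfsg.Geo.omegaGL (Cfsg.quadFormMinus (d - 1) F a b) ∧
      ((x ^ r : GL ((Fin (d - 1) ⊕ Fin (d - 1)) ⊕ Fin 2) F) : Matrix ((Fin (d - 1) ⊕ Fin (d - 1)) ⊕ Fin 2) ((Fin (d - 1) ⊕ Fin (d - 1)) ⊕ Fin 2) F) = (1 : F) • (1 : Matrix ((Fin (d - 1) ⊕ Fin (d - 1)) ⊕ Fin 2) ((Fin (d - 1) ⊕ Fin (d - 1)) ⊕ Fin 2) F) ∧
      (∀ z : F, (x : Matrix ((Fin (d - 1) ⊕ Fin (d - 1)) ⊕ Fin 2) ((Fin (d - 1) ⊕ Fin (d - 1)) ⊕ Fin 2) F) ≠ z • (1 : Matrix ((Fin (d - 1) ⊕ Fin (d - 1)) ⊕ Fin 2) ((Fin (d - 1) ⊕ Fin (d - 1)) ⊕ Fin 2) F)) ∧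
      ∀ W : Submodule F (((Fin (d - 1) ⊕ Fin (d - 1)) ⊕ Fin 2) → F), Module.finrank F ↥W = m →
        Cfsg.Geo.IsNondegenerateOn (QuadraticMap.polar (Cfsg.quadFormMinus (d - 1) F a b)) W →
        ¬ W.map (Matrix.toLin' (x : Matrix ((Fin (d - 1) ⊕ Fin (d - 1)) ⊕ Fin 2) ((Fin (d - 1) ⊕ Fin (d - 1)) ⊕ Fin 2) F)) ≤ W := by
  classical
  have hr : r.Prime := Fact.out
  have hrodd : Odd r := hr.odd_of_ne_two hr2
  have hVne : ∃ v : V, v ≠ 0 := by
    have : 0 < finrank F V := by rw [hV]; omega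
    obtain ⟨v, hv⟩ := Module.finrank_pos_iff_exists_ne_zero.mp this
    exact ⟨v, hv⟩
  have hns := Cfsg.Agent.Lib.Helper57.OPb.not_scalar_of_iso B hnd hVne r hrodd y hiso hy hy1
  obtain ⟨x, hxΩ, hxp, hxns, E, hE1, hE2⟩ := Cfsg.Agent.Lib.Helper32.Om.transport_minus h2 r hrodd d a b hab B
    hS hnd hV hminus y hiso hy hns
  refine ⟨x, hxΩ, hxp, hxns, ?_⟩
  intro W hWd hWnd hWinv
  have hW'inv : Inv y (W.map (E : (((Fin (d - 1) ⊕ Fin (d - 1)) ⊕ Fin 2) → F) →ₗ[F] V)) := by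
    rintro _ ⟨w, hw, rfl⟩
    show y (E w) ∈ _
    rw [← hE1]
    exact ⟨_, hWinv ⟨w, hw, rfl⟩, rfl⟩
  have hW'nd : NonDeg B (W.map (E : (((Fin (d - 1) ⊕ Fin (d - 1)) ⊕ Fin 2) → F) →ₗ[F] V)) := by
    rintro _ ⟨w, hw, rfl⟩ h
    by_contra hne
    have hw0 : w ≠ 0 := by
      rintro rfl
      exact hne (by simp)
    obtain ⟨-, ⟨v, hv, hv'⟩⟩ := hWnd w hw hw0
    apply hv'
    rw [← hE2]
    exact h _ ⟨v, hv, rfl⟩
  have hW'd : finrank F (W.map (E : (((Fin (d - 1) ⊕ Fin (d - 1)) ⊕ Fin 2) → F) →ₗ[F] V)) = m := by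
    rw [LinearEquiv.finrank_map_eq]
    exact hWd
  have h13 := Cfsg.Agent.Lib.Helper69.OPbAsm.mod_le_of_fixed h2 B hS hnd p f hF r hpr hr2 hrF y hy hiso _ hW'inv hW'nd
  rw [hW'd] at h13
  omega

end core

/-- LEAF 7 of K-OMb, exact form -/
theorem case_derangement_minus [Fintype F] {p : ℕ} [Fact p.Prime] [CharP F p] (hodd : Odd (Fintype.card F))
    (d m : ℕ) (hd : 1 ≤ d) (a b : F) (hab : ∀ x y : F, x ^ 2 + a * x * y + b * y ^ 2 = 0 → x = 0 ∧ y = 0) (r : ℕ) [Fact r.Prime] (hrp : r ≠ p) (hr2 : 2 < r)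
    (hN : cOf (orderOf ((Fintype.card F : ℕ) : ZMod r)) ≤ 2 * d)
    (hreal : 0 < (2 * d) % cOf (orderOf ((Fintype.card F : ℕ) : ZMod r)) ∨
      (Even (orderOf ((Fintype.card F : ℕ) : ZMod r)) ∧
        Odd ((2 * d) / cOf (orderOf ((Fintype.card F : ℕ) : ZMod r)))))
    (hlt : (2 * d) % cOf (orderOf ((Fintype.card F : ℕ) : ZMod r)) <
      m % cOf (orderOf ((Fintype.card F : ℕ) : ZMod r))) :
    ∃ x : GL ((Fin (d - 1) ⊕ Fin (d - 1)) ⊕ Fin 2) F, x ∈ Cfsg.Geo.omegaGL (Cfsg.quadFormMinus (d - 1) F a b) ∧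
      ((x ^ r : GL ((Fin (d - 1) ⊕ Fin (d - 1)) ⊕ Fin 2) F) : Matrix ((Fin (d - 1) ⊕ Fin (d - 1)) ⊕ Fin 2) ((Fin (d - 1) ⊕ Fin (d - 1)) ⊕ Fin 2) F) = (1 : F) • (1 : Matrix ((Fin (d - 1) ⊕ Fin (d - 1)) ⊕ Fin 2) ((Fin (d - 1) ⊕ Fin (d - 1)) ⊕ Fin 2) F) ∧
      (∀ z : F, (x : Matrix ((Fin (d - 1) ⊕ Fin (d - 1)) ⊕ Fin 2) ((Fin (d - 1) ⊕ Fin (d - 1)) ⊕ Fin 2) F) ≠ z • (1 : Matrix ((Fin (d - 1) ⊕ Fin (d - 1)) ⊕ Fin 2) ((Fin (d - 1) ⊕ Fin (d - 1)) ⊕ Fin 2) F)) ∧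
      ∀ W : Submodule F (((Fin (d - 1) ⊕ Fin (d - 1)) ⊕ Fin 2) → F), Module.finrank F ↥W = m →
        Cfsg.Geo.IsNondegenerateOn (QuadraticMap.polar (Cfsg.quadFormMinus (d - 1) F a b)) W →
        ¬ W.map (Matrix.toLin' (x : Matrix ((Fin (d - 1) ⊕ Fin (d - 1)) ⊕ Fin 2) ((Fin (d - 1) ⊕ Fin (d - 1)) ⊕ Fin 2) F)) ≤ W := by
  classical
  have hr : r.Prime := Fact.out
  have hp : p.Prime := Fact.out
  have hr2' : r ≠ 2 := by omega
  have h2 : (2 : F) ≠ 0 := Cfsg.Agent.Lib.Helper50.two_ne_zero_of_odd_card rfl hodd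
  obtain ⟨f', _, hqf⟩ := FiniteField.card F p
  have hF : Fintype.card F = p ^ (f' : ℕ) := hqf
  have hpr : p ≠ r := fun h => hrp h.symm
  have hrF : (r : F) ≠ 0 := by
    intro h0
    rw [CharP.cast_eq_zero_iff F p] at h0
    exact hrp ((Nat.prime_dvd_prime_iff_eq hp hr).mp h0).symm
  set c := cOf (orderOf ((Fintype.card F : ℕ) : ZMod r)) with hc
  have hcpos : 0 < c := by
    have h1 : 0 < orderOf ((Fintype.card F : ℕ) : ZMod r) := by
      apply orderOf_pos_iff.mpr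
      apply isOfFinOrder_iff_pow_eq_one.mpr
      have hq0 : ((Fintype.card F : ℕ) : ZMod r) ≠ 0 := by
        intro h
        rw [ZMod.natCast_eq_zero_iff, hF] at h
        exact hrp ((Nat.prime_dvd_prime_iff_eq hr hp).mp (hr.dvd_of_dvd_pow h))
      exact ⟨r - 1, by have := hr.two_le; omega, ZMod.pow_card_sub_one_eq_one hq0⟩
    rw [hc]
    unfold cOf
    split_ifs <;> omega
  have hdecomp : 2 * d = (2 * d) / c * c + (2 * d) % c := (Nat.div_add_mod' (2 * d) c).symm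
  have hN1 : 1 ≤ (2 * d) / c := Nat.div_pos hN hcpos
  rcases Nat.eq_zero_or_pos ((2 * d) % c) with hk0 | hkpos
  · -- `k = 0`: the model
    obtain ⟨V, iV1, iV2, iV3, B, y, hS, hnd, hiso, hy, hy1, hdim, hV0⟩ :=
      Cfsg.Agent.Lib.Helper23.Oh.exists_model_symm (F := F) h2 p (f' : ℕ) hF r hpr hr2' hrF
        ((2 * d) / c) 0 hN1
    rw [add_zero] at hdim
    have hV : finrank F V = 2 * d := by
      rw [hdim]
      rw [hk0, add_zero] at hdecomp
      exact hdecomp.symm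
    have hV0bot : V0 y = ⊥ := Submodule.finrank_eq_zero.mp hV0
    have hV1top : V1 r y = ⊤ := by
      have := V0_sup_V1 r hrF y hy
      rwa [hV0bot, bot_sup_eq] at this
    obtain ⟨T, hT1, hT2, -⟩ := Cfsg.Agent.Lib.Helper84.OPb.piece_chain h2 B hS hnd p (f' : ℕ) hF r hpr hr2' hrF y hy hiso ⊤
      (by rw [hV1top]) (fun v _ => Submodule.mem_top) hnd
    have hTN : T = (2 * d) / c := by
      rw [finrank_top, hdim] at hT1
      exact (Nat.eq_of_mul_eq_mul_right hcpos hT1).symm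
    have hnplus : ¬ Plus B ⊤ := by
      intro hpl
      rcases hreal with h | ⟨he, ho⟩
      · omega
      · rcases hT2.mp hpl with h | h
        · exact (Nat.not_odd_iff_even.mpr he) h
        · rw [hTN] at h
          exact (Nat.not_even_iff_odd.mpr ho) h
    exact core_derangement_minus h2 p (f' : ℕ) hF r hpr hr2' hrF d m hd a b hab B hS hnd hV
      (lt_of_not_plus' B d hV hnplus) y hiso hy hy1 (by rw [hV0, ← hk0]; exact hlt)
  · -- `k > 0`: LEAF 11 on the standard space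
    have hS := Cfsg.Agent.Lib.Helper13.OPb.polarBilin_symm (Cfsg.Agent.Lib.Helper50.QMinus (d - 1) F a b)
    have hnd := Cfsg.Agent.Lib.Helper13.OPb.nonDeg_top_of_nondegenerate _
      (Cfsg.Agent.Lib.Helper50.QMinus_nondeg_of_anis (d - 1) a b hab)
    have hV : finrank F (((Fin (d - 1) ⊕ Fin (d - 1)) ⊕ Fin 2) → F) = 2 * d := by
      rw [Module.finrank_fintype_fun_eq_card, Cfsg.Agent.Lib.Helper50.card_minus_index]
      omega
    obtain ⟨y, hiso, hy, hy1, hV0⟩ := Cfsg.Agent.Lib.Helper69.OPbAsm.exists_isometry_fix h2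
      (QuadraticMap.polarBilin (Cfsg.Agent.Lib.Helper50.QMinus (d - 1) F a b)) hS hnd p (f' : ℕ) hF r hpr hr2' hrF
      ((2 * d) / c) ((2 * d) % c) hN1 hkpos (by rw [hV]; exact hdecomp)
    exact core_derangement_minus h2 p (f' : ℕ) hF r hpr hr2' hrF d m hd a b hab _ hS hnd hV
      (lt_QMinus h2 d hd a b hab) y hiso hy hy1 (by rw [hV0]; exact hlt)

end Cfsg.Agent.Lib.Helper69.OMb
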