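import Cfsg.Agent.Lib.Helper69.OPbDefs
import Cfsg.Agent.Lib.Helper13.OPb15
import Cfsg.Agent.Lib.Helper21.OPb14
import Cfsg.Agent.Lib.Helper63.OPb0
import Cfsg.Agent.Lib.Helper50.MinusLang
import Cfsg.Agent.Lib.Helper50.StdForms
import Cfsg.Prelude.Def_GeometricClasses

/-!
# K-OMb-8 (keystone 599108, pack S5991, architect helper32): `case_card_minus`

The minus copy of K-OPb LEAF 19: the concrete form of K-OPb LEAF 14 (`mod_lt_of_dvd_card`) for
`B = polarBilin (QMinus (d-1) F a b)`.  Uses only delivered leaves.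
-/

set_option autoImplicit false

namespace Cfsg.Agent.Lib.Helper69.OMb

open Module Cfsg.Agent.Lib.Helper98.Sy Cfsg.Agent.Lib.Helper98.Oh
  Cfsg.Agent.Lib.Helper69.OPb

universe u
variable {F : Type u} [Field F]

/-- the generic form of K-OPb LEAF 19 (any index type, any quadratic form on `ι → F` with nondegenerate polar form) -/
theorem case_card_generic [Fintype F] {p : ℕ} [Fact p.Prime] [CharP F p] (hodd : Odd (Fintype.card F))
    {ι : Type} [Fintype ι] [DecidableEq ι] (Q : QuadraticForm F (ι → F))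
    (hQ : (QuadraticMap.polarBilin Q).Nondegenerate)
    (m : ℕ) (hm : Odd m)
    (W₀ : Submodule F (ι → F))
    (hW₀ : Module.finrank F ↥W₀ = m ∧ Cfsg.Geo.IsNondegenerateOn (QuadraticMap.polar ⇑Q) W₀)
    (r : ℕ) [Fact r.Prime] (hrp : r ≠ p) (hr2 : 2 < r)
    (hmc : m < cOf (orderOf ((Fintype.card F : ℕ) : ZMod r)))
    (hrΩ : r ∣ Nat.card {W : Submodule F (ι → F) // Module.finrank F ↥W = m ∧
      Cfsg.Geo.IsNondegenerateOn (QuadraticMap.polar ⇑Q) W ∧ Cfsg.Geo.AreIsometricFor ⇑Q W W₀}) :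
    (Fintype.card ι) % cOf (orderOf ((Fintype.card F : ℕ) : ZMod r)) ≤ m := by
  classical
  have h2 : (2 : F) ≠ 0 := Cfsg.Agent.Lib.Helper50.two_ne_zero_of_odd_card rfl hodd
  have hpr : p.Prime := Fact.out
  have hrpr : r.Prime := Fact.out
  obtain ⟨n, -, hn⟩ := FiniteField.card F p
  have hrF : (r : F) ≠ 0 := by
    intro h
    rw [CharP.cast_eq_zero_iff F p] at h
    exact hrp ((Nat.prime_dvd_prime_iff_eq hpr hrpr).mp h).symm
  have h15a := Cfsg.Agent.Lib.Helper13.OPb.nonDeg_polarBilin_iff Q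
  have h15b := Cfsg.Agent.Lib.Helper13.OPb.isoCls_polarBilin_iff h2 Q
  have hW₀nd : NonDeg (QuadraticMap.polarBilin Q) W₀ := (h15a W₀).mpr hW₀.2
  have hcard : Nat.card {W : Submodule F (ι → F) // Module.finrank F ↥W = m ∧
      Cfsg.Geo.IsNondegenerateOn (QuadraticMap.polar ⇑Q) W ∧ Cfsg.Geo.AreIsometricFor ⇑Q W W₀} =
      Nat.card {W : Submodule F (ι → F) //
        NonDeg (QuadraticMap.polarBilin Q) W ∧ IsoCls (QuadraticMap.polarBilin Q) W W₀} := by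
    apply Nat.card_congr
    apply Equiv.subtypeEquivRight
    intro W
    constructor
    · rintro ⟨-, hnd, hiso⟩
      exact ⟨(h15a W).mpr hnd, (h15b W W₀).mpr hiso⟩
    · rintro ⟨hnd, hiso⟩
      exact ⟨(Cfsg.Agent.Lib.Helper63.OPb.isoCls_finrank hiso).trans hW₀.1, (h15a W).mp hnd,
        (h15b W W₀).mp hiso⟩
  rw [hcard] at hrΩ
  have key := Cfsg.Agent.Lib.Helper21.OPb.mod_lt_of_dvd_card h2 _
    (Cfsg.Agent.Lib.Helper13.OPb.polarBilin_symm Q)
    (Cfsg.Agent.Lib.Helper13.OPb.nonDeg_top_of_nondegenerate Q hQ)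
    p n hn r hrp.symm (by omega) hrF m hm W₀ hW₀nd hW₀.1 hmc hrΩ
  rwa [Module.finrank_fintype_fun_eq_card] at key

/-- LEAF 8 of K-OMb, exact form -/
theorem case_card_minus [Fintype F] {p : ℕ} [Fact p.Prime] [CharP F p] (hodd : Odd (Fintype.card F))
    (d m : ℕ) (hd : 1 ≤ d) (hm : Odd m) (a b : F) (hab : ∀ x y : F, x ^ 2 + a * x * y + b * y ^ 2 = 0 → x = 0 ∧ y = 0)
    (W₀ : Submodule F (((Fin (d - 1) ⊕ Fin (d - 1)) ⊕ Fin 2) → F))
    (hW₀ : Module.finrank F ↥W₀ = m ∧ Cfsg.Geo.IsNondegenerateOn (QuadraticMap.polar (Cfsg.quadFormMinus (d - 1) F a b)) W₀)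
    (r : ℕ) [Fact r.Prime] (hrp : r ≠ p) (hr2 : 2 < r)
    (hmc : m < cOf (orderOf ((Fintype.card F : ℕ) : ZMod r)))
    (hrΩ : r ∣ Nat.card {W : Submodule F (((Fin (d - 1) ⊕ Fin (d - 1)) ⊕ Fin 2) → F) // Module.finrank F ↥W = m ∧ Cfsg.Geo.IsNondegenerateOn (QuadraticMap.polar (Cfsg.quadFormMinus (d - 1) F a b)) W ∧ Cfsg.Geo.AreIsometricFor (Cfsg.quadFormMinus (d - 1) F a b) W W₀}) :
    (2 * d) % cOf (orderOf ((Fintype.card F : ℕ) : ZMod r)) ≤ m := by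
  have key := case_card_generic (p := p) hodd (Cfsg.Agent.Lib.Helper50.QMinus (d - 1) F a b)
    (Cfsg.Agent.Lib.Helper50.QMinus_nondeg_of_anis (d - 1) a b hab) m hm W₀ hW₀ r hrp hr2 hmc hrΩ
  have hcard : Fintype.card ((Fin (d - 1) ⊕ Fin (d - 1)) ⊕ Fin 2) = 2 * d := by
    rw [Cfsg.Agent.Lib.Helper50.card_minus_index]
    omega
  rwa [hcard] at key

end Cfsg.Agent.Lib.Helper69.OMb
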