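import Mathlib
import Cfsg.Agent.Lib.Helper41.InvBDefs
import Cfsg.Agent.S0721

/-!
# K-IB leaf 13 (392818): a simple nonabelian normal subgroup of a nonabelian minimal normal subgroup
-/

set_option autoImplicit false

namespace Cfsg.Agent.Lib.Helper69.InvB

open Cfsg.Agent.Lib.Helper41.InvB

/-- conjugating a `mulSingle` in a pi group. -/
theorem conj_mulSingle {ι : Type*} [DecidableEq ι] {T : Type*} [Group T] (g : ι → T) (i : ι) (t : T) :
    g * Pi.mulSingle i t * g⁻¹ = Pi.mulSingle i (g i * t * (g i)⁻¹) := by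
  funext j
  by_cases hj : j = i
  · subst hj
    simp
  · simp [Pi.mulSingle_eq_of_ne hj]

theorem exists_simple_normal {Γ : Type*} [Group Γ] [Finite Γ] (N : Subgroup Γ) (hN : IsMinNormal N)
    (hna : ¬ ∀ x ∈ N, ∀ y ∈ N, x * y = y * x) :
    ∃ S : Subgroup Γ, S ≤ N ∧ N ≤ Subgroup.normalizer (S : Set Γ) ∧ IsSimpleGroup S ∧
      ¬ ∀ x ∈ S, ∀ y ∈ S, x * y = y * x := by
  obtain ⟨hNn, hNb, hmin⟩ := hN
  haveI := hNn
  obtain ⟨T, instT, m, hT, hm, ⟨e⟩⟩ := Cfsg.Agent.S0721.result N hNb hmin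
  letI := instT
  let i0 : Fin m := ⟨0, hm⟩
  let φ : T →* Γ := N.subtype.comp (e.symm.toMonoidHom.comp (MonoidHom.mulSingle (fun _ : Fin m => T) i0))
  have hφ_apply : ∀ t : T, φ t = ((e.symm (Pi.mulSingle i0 t) : N) : Γ) := fun t => rfl
  have hφinj : Function.Injective φ := by
    intro s t hst
    rw [hφ_apply, hφ_apply] at hst
    have h1 : e.symm (Pi.mulSingle i0 s) = e.symm (Pi.mulSingle i0 t) := Subtype.ext hst
    have h2 := e.symm.injective h1
    exact Pi.mulSingle_injective i0 h2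
  refine ⟨φ.range, ?_, ?_, ?_, ?_⟩
  · rintro x ⟨t, rfl⟩
    rw [hφ_apply]
    exact (e.symm (Pi.mulSingle i0 t)).2
  · -- N normalizes S
    have key : ∀ n ∈ N, ∀ x ∈ φ.range, n * x * n⁻¹ ∈ φ.range := by
      rintro n hn x ⟨t, rfl⟩
      refine ⟨(e ⟨n, hn⟩) i0 * t * ((e ⟨n, hn⟩) i0)⁻¹, ?_⟩
      rw [hφ_apply, hφ_apply, ← conj_mulSingle]
      have : e.symm (e ⟨n, hn⟩ * Pi.mulSingle i0 t * (e ⟨n, hn⟩)⁻¹)
          = ⟨n, hn⟩ * e.symm (Pi.mulSingle i0 t) * (⟨n, hn⟩ : N)⁻¹ := by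
        rw [map_mul, map_mul, map_inv, MulEquiv.symm_apply_apply]
      rw [this]
      rfl
    intro n hn
    rw [Subgroup.mem_normalizer_iff]
    intro x
    constructor
    · intro hx
      exact key n hn x hx
    · intro hx
      have := key n⁻¹ (N.inv_mem hn) _ hx
      simpa [mul_assoc] using this
  · -- simple
    have eS : T ≃* φ.range := MonoidHom.ofInjective hφinj
    haveI := hT
    exact eS.symm.isSimpleGroup
  · -- nonabelian
    intro hab
    apply hna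
    -- T commutative
    have hTc : ∀ s t : T, s * t = t * s := by
      intro s t
      apply hφinj
      rw [map_mul, map_mul]
      exact hab _ ⟨s, rfl⟩ _ ⟨t, rfl⟩
    intro x hx y hy
    have h1 : e ⟨x, hx⟩ * e ⟨y, hy⟩ = e ⟨y, hy⟩ * e ⟨x, hx⟩ := by
      funext j
      exact hTc _ _
    have h2 : (⟨x, hx⟩ : N) * ⟨y, hy⟩ = ⟨y, hy⟩ * ⟨x, hx⟩ := by
      apply e.injective
      rw [map_mul, map_mul, h1]
    exact congrArg Subtype.val h2

end Cfsg.Agent.Lib.Helper69.InvB
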