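import Mathlib
import Cfsg.Prelude.Def_GeometricClasses
import Cfsg.Agent.Lib.Helper18.Symp

set_option autoImplicit false

/-! K-SpO-7 (keystone 598307): for a quadratic form `Q` of minus type on `F^(2d)`, `q` even, polarising
to the standard symplectic form, and an odd prime `r ∣ q^d - 1`, the element `diag(A, A⁻ᵀ)` (`A` of order
`r` without fixed vectors) of `Sp_{2d}(q)` has no `Sp`-conjugate in the similarity group of `Q`. -/

namespace Cfsg.Agent.Lib.Helper69.SpO

open Matrix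

variable {F : Type*} [Field F] {d : ℕ}

/-- `diag(A, A⁻ᵀ)` in the general linear group -/
def diagSp (A : GL (Fin d) F) : GL (Fin d ⊕ Fin d) F where
  val := Matrix.fromBlocks (A : Matrix (Fin d) (Fin d) F) 0 0
    ((A⁻¹ : GL (Fin d) F) : Matrix (Fin d) (Fin d) F)ᵀ
  inv := Matrix.fromBlocks ((A⁻¹ : GL (Fin d) F) : Matrix (Fin d) (Fin d) F) 0 0
    (A : Matrix (Fin d) (Fin d) F)ᵀ
  val_inv := by
    rw [Matrix.fromBlocks_multiply]
    simp [Matrix.fromBlocks_one, ← Matrix.transpose_mul]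
  inv_val := by
    rw [Matrix.fromBlocks_multiply]
    simp [Matrix.fromBlocks_one, ← Matrix.transpose_mul]

theorem diagSp_val (A : GL (Fin d) F) :
    ((diagSp A : GL (Fin d ⊕ Fin d) F) : Matrix (Fin d ⊕ Fin d) (Fin d ⊕ Fin d) F) =
      Matrix.fromBlocks (A : Matrix (Fin d) (Fin d) F) 0 0
        ((A⁻¹ : GL (Fin d) F) : Matrix (Fin d) (Fin d) F)ᵀ := rfl

theorem diagSp_mulVec (A : GL (Fin d) F) (a b : Fin d → F) :
    ((diagSp A : GL (Fin d ⊕ Fin d) F) : Matrix (Fin d ⊕ Fin d) (Fin d ⊕ Fin d) F) *ᵥ Sum.elim a b =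
      Sum.elim ((A : Matrix (Fin d) (Fin d) F) *ᵥ a)
        (((A⁻¹ : GL (Fin d) F) : Matrix (Fin d) (Fin d) F)ᵀ *ᵥ b) := by
  rw [diagSp_val, Matrix.fromBlocks_mulVec]
  simp

theorem diagSp_mul (A B : GL (Fin d) F) : diagSp (A * B) = diagSp A * diagSp B := by
  apply Units.ext
  rw [Units.val_mul, diagSp_val, diagSp_val, diagSp_val, Matrix.fromBlocks_multiply,
    _root_.mul_inv_rev, Units.val_mul, Units.val_mul, Matrix.transpose_mul]
  simp

theorem diagSp_one : diagSp (1 : GL (Fin d) F) = 1 := by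
  apply Units.ext
  rw [diagSp_val]
  simp [Matrix.fromBlocks_one]

theorem diagSp_pow (A : GL (Fin d) F) (n : ℕ) : diagSp A ^ n = diagSp (A ^ n) := by
  induction n with
  | zero => simp [diagSp_one]
  | succ k ih => rw [pow_succ, pow_succ, ih, diagSp_mul]

theorem elim_eta (v : Fin d ⊕ Fin d → F) : v = Sum.elim (v ∘ Sum.inl) (v ∘ Sum.inr) := by
  funext i; cases i <;> rfl

theorem sympForm_elim (a b a' b' : Fin d → F) :
    Cfsg.sympForm d F (Sum.elim a b) (Sum.elim a' b') = b ⬝ᵥ a' - a ⬝ᵥ b' := by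
  rw [Cfsg.Agent.Lib.Helper18.sympForm_eq, Finset.sum_sub_distrib]
  rfl

theorem diagSp_mem_spGL (A : GL (Fin d) F) : diagSp A ∈ Cfsg.spGL d F := by
  intro u v
  show Cfsg.sympForm d F
      (((diagSp A : GL (Fin d ⊕ Fin d) F) : Matrix (Fin d ⊕ Fin d) (Fin d ⊕ Fin d) F) *ᵥ u)
      (((diagSp A : GL (Fin d ⊕ Fin d) F) : Matrix (Fin d ⊕ Fin d) (Fin d ⊕ Fin d) F) *ᵥ v) =
    Cfsg.sympForm d F u v
  rw [elim_eta u, elim_eta v, diagSp_mulVec, diagSp_mulVec, sympForm_elim, sympForm_elim]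
  have key : ∀ x y : Fin d → F,
      (((A⁻¹ : GL (Fin d) F) : Matrix (Fin d) (Fin d) F)ᵀ *ᵥ x) ⬝ᵥ
        ((A : Matrix (Fin d) (Fin d) F) *ᵥ y) = x ⬝ᵥ y := by
    intro x y
    rw [Matrix.mulVec_transpose, ← Matrix.dotProduct_mulVec, Matrix.mulVec_mulVec,
      ← Units.val_mul, inv_mul_cancel, Units.val_one, Matrix.one_mulVec]
  rw [key, dotProduct_comm _ (((A⁻¹ : GL (Fin d) F) : Matrix (Fin d) (Fin d) F)ᵀ *ᵥ _), key,
    dotProduct_comm (v ∘ Sum.inr)]

theorem sympForm_smul_smul (z : F) (u v : Fin d ⊕ Fin d → F) :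
    Cfsg.sympForm d F (z • u) (z • v) = z * z * Cfsg.sympForm d F u v := by
  unfold Cfsg.sympForm
  rw [Matrix.mulVec_smul, smul_dotProduct, dotProduct_smul, smul_eq_mul, smul_eq_mul, mul_assoc]

theorem exists_sympForm_eq_one (hd : 1 ≤ d) :
    ∃ u v : Fin d ⊕ Fin d → F, Cfsg.sympForm d F u v = 1 := by
  classical
  refine ⟨Sum.elim 0 (Pi.single ⟨0, hd⟩ 1), Sum.elim (Pi.single ⟨0, hd⟩ 1) 0, ?_⟩
  rw [sympForm_elim]
  simp

section finite

variable [Fintype F] [CharP F 2]

/-- an element of order dividing `r` of `GL_d(q)` without fixed vectors, `r ∣ q^d - 1` -/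
theorem exists_fpf_GL (hd : 1 ≤ d) (r : ℕ) (hr : r.Prime) (hdiv : r ∣ Fintype.card F ^ d - 1) :
    ∃ G : GL (Fin d) F, G ^ r = 1 ∧
      ∀ a : Fin d → F, (G : Matrix (Fin d) (Fin d) F) *ᵥ a = a → a = 0 := by
  classical
  have : NeZero d := ⟨by omega⟩
  have : Fact (Nat.Prime 2) := ⟨Nat.prime_two⟩
  have : Fact r.Prime := ⟨hr⟩
  have : Fintype (FiniteField.Extension F 2 d) := Fintype.ofFinite _
  have hKcard : Fintype.card (FiniteField.Extension F 2 d)ˣ = Fintype.card F ^ d - 1 := by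
    rw [Fintype.card_units, ← Nat.card_eq_fintype_card, FiniteField.natCard_extension,
      Nat.card_eq_fintype_card]
  obtain ⟨ζ, hζ⟩ := exists_prime_orderOf_dvd_card r (hKcard ▸ hdiv)
  obtain ⟨b⟩ : Nonempty (Module.Basis (Fin d) F (FiniteField.Extension F 2 d)) :=
    ⟨Module.finBasisOfFinrankEq F _ (FiniteField.finrank_extension F 2 d)⟩
  obtain ⟨φ, hφ⟩ : ∃ φ : FiniteField.Extension F 2 d →ₐ[F] Matrix (Fin d) (Fin d) F,
      φ = Algebra.leftMulMatrix b := ⟨_, rfl⟩
  obtain ⟨G, hG⟩ : ∃ G : GL (Fin d) F, G = Units.map (φ : _ →* Matrix (Fin d) (Fin d) F) ζ :=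
    ⟨_, rfl⟩
  have hGval : (G : Matrix (Fin d) (Fin d) F) = φ (ζ : FiniteField.Extension F 2 d) := by
    rw [hG]; rfl
  refine ⟨G, ?_, ?_⟩
  · rw [hG, ← map_pow, ← hζ, pow_orderOf_eq_one, map_one]
  · intro a ha
    obtain ⟨α, hα⟩ : ∃ α : FiniteField.Extension F 2 d, (b.repr α : Fin d → F) = a :=
      ⟨b.equivFun.symm a, by rw [← Module.Basis.equivFun_apply, LinearEquiv.apply_symm_apply]⟩
    have h1 : (b.repr ((ζ : FiniteField.Extension F 2 d) * α) : Fin d → F) =
        (b.repr α : Fin d → F) := by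
      rw [← Algebra.leftMulMatrix_mulVec_repr, ← hφ, ← hGval, hα, ha]
    have h2 : (ζ : FiniteField.Extension F 2 d) * α = α := by
      apply b.repr.injective
      exact DFunLike.coe_injective h1
    have h3 : ((ζ : FiniteField.Extension F 2 d) - 1) * α = 0 := by
      rw [sub_mul, one_mul, h2, sub_self]
    rcases mul_eq_zero.mp h3 with h | h
    · exfalso
      have hζ1 : ζ = 1 := Units.ext (sub_eq_zero.mp h)
      rw [hζ1, orderOf_one] at hζ
      exact hr.one_lt.ne' hζ.symm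
    · rw [← hα, h]
      simp

/-- **K-SpO-7 (id 598307)**. -/
theorem exists_bad_odd_minus {q : ℕ} (hq : Fintype.card F = q) (d : ℕ) (hd : 1 ≤ d)
    (Q : (Fin d ⊕ Fin d → F) → F) (hQ : Cfsg.Geo.IsNondegenerateQuadraticForm Q)
    (hQf : ∀ u v, QuadraticMap.polar Q u v = Cfsg.sympForm d F u v)
    (hminus : ¬ Cfsg.Geo.IsPlusTypeOn Q ⊤) (r : ℕ) (hr : r.Prime) (hr2 : r ≠ 2)
    (hdiv : r ∣ q ^ d - 1) :
    ∃ x ∈ Cfsg.spGL d F,
      ((x ^ r : GL (Fin d ⊕ Fin d) F) : Matrix (Fin d ⊕ Fin d) (Fin d ⊕ Fin d) F) = 1 ∧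
      (∀ z : F, (x : Matrix (Fin d ⊕ Fin d) (Fin d ⊕ Fin d) F) ≠
        z • (1 : Matrix (Fin d ⊕ Fin d) (Fin d ⊕ Fin d) F)) ∧
      ∀ g ∈ Cfsg.spGL d F, g⁻¹ * x * g ∉ Cfsg.Geo.quadSimilarityGroup Q := by
  classical
  subst hq
  obtain ⟨G, hGr, hGfpf⟩ := exists_fpf_GL (F := F) hd r hr hdiv
  obtain ⟨u₀, v₀, huv₀⟩ := exists_sympForm_eq_one (F := F) hd
  have hx : diagSp G ∈ Cfsg.spGL d F := diagSp_mem_spGL G
  have hsp : ∀ h ∈ Cfsg.spGL d F, ∀ u v : Fin d ⊕ Fin d → F,
      Cfsg.sympForm d F ((h : Matrix (Fin d ⊕ Fin d) (Fin d ⊕ Fin d) F) *ᵥ u)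
        ((h : Matrix (Fin d ⊕ Fin d) (Fin d ⊕ Fin d) F) *ᵥ v) = Cfsg.sympForm d F u v :=
    fun h hh u v => hh u v
  have hchar : ∀ z : F, z + z = 0 := fun z => CharTwo.add_self_eq_zero z
  refine ⟨diagSp G, hx, ?_, ?_, ?_⟩
  · rw [diagSp_pow, hGr, diagSp_one]
    rfl
  · intro z hz
    -- `z • 1` in `Sp` forces `z = 1`, then `G` fixes every vector
    have h1 := hsp _ hx u₀ v₀
    rw [hz, Matrix.smul_mulVec, Matrix.smul_mulVec, Matrix.one_mulVec, Matrix.one_mulVec,
      sympForm_smul_smul, huv₀, mul_one] at h1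
    have hz1 : z = 1 := by
      have h2 : (z + 1) * (z + 1) = 0 := by
        have : (z + 1) * (z + 1) = z * z + (z + z) + 1 := by ring
        rw [this, h1, hchar, add_zero, hchar]
      have h3 : z + 1 = 0 := mul_self_eq_zero.mp h2
      calc z = z + 1 + 1 := by rw [add_assoc, hchar, add_zero]
        _ = 1 := by rw [h3, zero_add]
    have ha : (G : Matrix (Fin d) (Fin d) F) *ᵥ (Pi.single ⟨0, hd⟩ 1) = Pi.single ⟨0, hd⟩ 1 := by
      have h4 := diagSp_mulVec G (Pi.single ⟨0, hd⟩ 1) 0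
      rw [hz, hz1, one_smul, Matrix.one_mulVec] at h4
      funext i
      have h5 := congrFun h4 (Sum.inl i)
      rw [Sum.elim_inl, Sum.elim_inl] at h5
      exact h5.symm
    have h6 := hGfpf _ ha
    have h7 := congrFun h6 ⟨0, hd⟩
    simp at h7
  · intro g hg hmem
    apply hminus
    obtain ⟨c, hc⟩ := hmem
    have hginv : g⁻¹ ∈ Cfsg.spGL d F := Subgroup.inv_mem _ hg
    have hy : g⁻¹ * diagSp G * g ∈ Cfsg.spGL d F :=
      Subgroup.mul_mem _ (Subgroup.mul_mem _ hginv hx) hg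
    -- the multiplier is `1`
    have hc1 : (c : F) = 1 := by
      have h1 := hsp _ hy u₀ v₀
      rw [← hQf, ← hQf] at h1
      unfold QuadraticMap.polar at h1
      rw [← Matrix.mulVec_add, hc, hc, hc] at h1
      have h2 : QuadraticMap.polar Q u₀ v₀ = 1 := by rw [hQf, huv₀]
      unfold QuadraticMap.polar at h2
      have h3 : (c : F) * (Q (u₀ + v₀) - Q u₀ - Q v₀) = Q (u₀ + v₀) - Q u₀ - Q v₀ := by
        rw [mul_sub, mul_sub]; exact h1
      rw [h2, mul_one] at h3
      exact h3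
    -- the vectors `w a = g⁻¹ (a, 0)`
    set w : (Fin d → F) → (Fin d ⊕ Fin d → F) := fun a =>
      ((g⁻¹ : GL (Fin d ⊕ Fin d) F) : Matrix (Fin d ⊕ Fin d) (Fin d ⊕ Fin d) F) *ᵥ Sum.elim a 0
      with hw
    have hwadd : ∀ a a', w (a + a') = w a + w a' := by
      intro a a'
      simp only [hw]
      rw [← Matrix.mulVec_add]
      congr 1
      funext i; cases i <;> simp
    have hQadd : ∀ a a', Q (w (a + a')) = Q (w a) + Q (w a') := by
      intro a a'
      have h1 : QuadraticMap.polar Q (w a) (w a') = 0 := by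
        rw [hQf]
        simp only [hw]
        rw [hsp _ hginv, sympForm_elim]
        simp
      unfold QuadraticMap.polar at h1
      rw [hwadd]
      linear_combination h1
    have hQinv : ∀ a, Q (w ((G : Matrix (Fin d) (Fin d) F) *ᵥ a)) = Q (w a) := by
      intro a
      have h1 : w ((G : Matrix (Fin d) (Fin d) F) *ᵥ a) =
          ((g⁻¹ * diagSp G * g : GL (Fin d ⊕ Fin d) F) :
            Matrix (Fin d ⊕ Fin d) (Fin d ⊕ Fin d) F) *ᵥ w a := by
        simp only [hw]
        rw [Matrix.mulVec_mulVec, ← Units.val_mul, mul_inv_cancel_right, Units.val_mul,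
          ← Matrix.mulVec_mulVec, diagSp_mulVec]
        simp
      rw [h1, hc, hc1, one_mul]
    have hQzero : ∀ a, Q (w ((G : Matrix (Fin d) (Fin d) F) *ᵥ a + a)) = 0 := by
      intro a
      rw [hQadd, hQinv, hchar]
    -- `a ↦ G a + a` is surjective
    let T : (Fin d → F) →ₗ[F] (Fin d → F) :=
      Matrix.mulVecLin (G : Matrix (Fin d) (Fin d) F) + LinearMap.id
    have hTinj : Function.Injective T := by
      rw [← LinearMap.ker_eq_bot, LinearMap.ker_eq_bot']
      intro a ha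
      apply hGfpf
      have h1 : (G : Matrix (Fin d) (Fin d) F) *ᵥ a + a = 0 := by
        simpa [T] using ha
      calc (G : Matrix (Fin d) (Fin d) F) *ᵥ a
          = (G : Matrix (Fin d) (Fin d) F) *ᵥ a + a + a := by
            rw [add_assoc]
            have : a + a = 0 := by funext i; exact hchar _
            rw [this, add_zero]
        _ = a := by rw [h1, zero_add]
    have hTsurj : Function.Surjective T := LinearMap.injective_iff_surjective.mp hTinj
    have hQw : ∀ a, Q (w a) = 0 := by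
      intro a
      obtain ⟨a', ha'⟩ := hTsurj a
      have : (G : Matrix (Fin d) (Fin d) F) *ᵥ a' + a' = a := by simpa [T] using ha'
      rw [← this]
      exact hQzero a'
    -- the totally singular subspace
    let L : (Fin d → F) →ₗ[F] (Fin d ⊕ Fin d → F) :=
      { toFun := w
        map_add' := hwadd
        map_smul' := by
          intro z a
          simp only [hw, RingHom.id_apply]
          rw [← Matrix.mulVec_smul]
          congr 1
          funext i; cases i <;> simp }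
    have hLinj : Function.Injective L := by
      intro a a' h
      have h1 : w a = w a' := h
      simp only [hw] at h1
      have h2 := congrArg (fun v => (g : Matrix (Fin d ⊕ Fin d) (Fin d ⊕ Fin d) F) *ᵥ v) h1
      simp only [Matrix.mulVec_mulVec, ← Units.val_mul, mul_inv_cancel, Units.val_one,
        Matrix.one_mulVec] at h2
      funext i
      have := congrFun h2 (Sum.inl i)
      simpa using this
    refine ⟨LinearMap.range L, le_top, ?_, ?_⟩
    · rintro _ ⟨a, rfl⟩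
      exact hQw a
    · rw [LinearMap.finrank_range_of_inj hLinj, finrank_top, Module.finrank_fintype_fun_eq_card,
        Module.finrank_fintype_fun_eq_card, Fintype.card_sum, Fintype.card_fin]
      ring

end finite

end Cfsg.Agent.Lib.Helper69.SpO
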