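import Mathlib
import Cfsg.Prelude.Def_GeometricClasses
import Cfsg.Agent.Lib.Helper69.SLTDefs
import Cfsg.Agent.Lib.Helper18.SLT1a
import Cfsg.Agent.Lib.Helper85.SLT1b
import Cfsg.Agent.Lib.Helper13.SLTT2
import Cfsg.Agent.Lib.Helper12.SLTT4

set_option autoImplicit false

/-! K-SLT glue (S5979): non-conjugacy criteria assembled from the leaves. -/

namespace Cfsg.Agent.Lib.Helper69.SLT

open Matrix
open scoped Kronecker

variable {F : Type*} [Field F]

theorem eigDim_conj_le {ι : Type} [Fintype ι] [DecidableEq ι] (h x : GL ι F) (μ : F) :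
    eigDim ((h⁻¹ * x * h : GL ι F) : Matrix ι ι F) μ ≤ eigDim (x : Matrix ι ι F) μ := by
  unfold eigDim
  have hmaps : ∀ v : ι → F,
      v ∈ Module.End.eigenspace (Matrix.toLin' ((h⁻¹ * x * h : GL ι F) : Matrix ι ι F)) μ →
      (h : Matrix ι ι F) *ᵥ v ∈ Module.End.eigenspace (Matrix.toLin' (x : Matrix ι ι F)) μ := by
    intro v hv
    rw [mem_eigenspace_toLin'] at hv ⊢
    have h1 : (x : Matrix ι ι F) *ᵥ ((h : Matrix ι ι F) *ᵥ v) =
        (h : Matrix ι ι F) *ᵥ (((h⁻¹ * x * h : GL ι F) : Matrix ι ι F) *ᵥ v) := by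
      rw [Matrix.mulVec_mulVec, Matrix.mulVec_mulVec, ← Units.val_mul, ← Units.val_mul]
      congr 2
      group
    rw [h1, hv, Matrix.mulVec_smul]
  let f : Module.End.eigenspace (Matrix.toLin' ((h⁻¹ * x * h : GL ι F) : Matrix ι ι F)) μ →ₗ[F]
      Module.End.eigenspace (Matrix.toLin' (x : Matrix ι ι F)) μ :=
    { toFun := fun v => ⟨(h : Matrix ι ι F) *ᵥ v.1, hmaps v.1 v.2⟩
      map_add' := by
        intro v w
        apply Subtype.ext
        simp [Matrix.mulVec_add]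
      map_smul' := by
        intro z v
        apply Subtype.ext
        simp [Matrix.mulVec_smul] }
  apply LinearMap.finrank_le_finrank_of_injective (f := f)
  intro v w hvw
  have h1 : (h : Matrix ι ι F) *ᵥ v.1 = (h : Matrix ι ι F) *ᵥ w.1 := congrArg Subtype.val hvw
  have h2 := congrArg (fun u => ((h⁻¹ : GL ι F) : Matrix ι ι F) *ᵥ u) h1
  simp only [Matrix.mulVec_mulVec, ← Units.val_mul, inv_mul_cancel, Units.val_one,
    Matrix.one_mulVec] at h2
  exact Subtype.ext h2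

theorem eigDim_conj {ι : Type} [Fintype ι] [DecidableEq ι] (h x : GL ι F) (μ : F) :
    eigDim ((h⁻¹ * x * h : GL ι F) : Matrix ι ι F) μ = eigDim (x : Matrix ι ι F) μ := by
  apply le_antisymm (eigDim_conj_le h x μ)
  have h1 := eigDim_conj_le h⁻¹ (h⁻¹ * x * h) μ
  have h2 : (h⁻¹)⁻¹ * (h⁻¹ * x * h) * h⁻¹ = x := by group
  rwa [h2] at h1

theorem eigDim_zero_of_GL {ι : Type} [Fintype ι] [DecidableEq ι] (x : GL ι F) :
    eigDim (x : Matrix ι ι F) 0 = 0 := by
  unfold eigDim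
  have : Module.End.eigenspace (Matrix.toLin' (x : Matrix ι ι F)) 0 = ⊥ := by
    rw [Submodule.eq_bot_iff]
    intro v hv
    rw [mem_eigenspace_toLin', zero_smul] at hv
    have h2 := congrArg (fun u => ((x⁻¹ : GL ι F) : Matrix ι ι F) *ᵥ u) hv
    simpa [Matrix.mulVec_mulVec, ← Units.val_mul] using h2
  rw [this, finrank_bot]

theorem eigDim_one_one {ι : Type} [Fintype ι] [DecidableEq ι] :
    eigDim (1 : Matrix ι ι F) 1 = Fintype.card ι := by
  unfold eigDim
  have : Module.End.eigenspace (Matrix.toLin' (1 : Matrix ι ι F)) 1 = ⊤ := by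
    rw [Submodule.eq_top_iff']
    intro v
    rw [mem_eigenspace_toLin', Matrix.one_mulVec, one_smul]
  rw [this, finrank_top, Module.finrank_fintype_fun_eq_card]

/-- **criterion 1**: an eigenspace of codimension `< b` and an eigenspace of dimension not divisible by `a` -/
theorem noKronConj_of_eigen {a b : ℕ} (x : GL (Fin a × Fin b) F) (μ ν : F) (c : ℕ) (hc : c < b)
    (hμ : a * b ≤ eigDim (x : Matrix (Fin a × Fin b) (Fin a × Fin b) F) μ + c)
    (hν : ¬ a ∣ eigDim (x : Matrix (Fin a × Fin b) (Fin a × Fin b) F) ν) : NoKronConj a b x := by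
  intro h hmem
  obtain ⟨A, B, hAB⟩ := hmem
  have ha : 1 ≤ a := by
    rcases Nat.eq_zero_or_pos a with h0 | h0
    · exfalso
      apply hν
      have hle : eigDim (x : Matrix (Fin a × Fin b) (Fin a × Fin b) F) ν ≤
          Module.finrank F (Fin a × Fin b → F) := Submodule.finrank_le _
      rw [Module.finrank_fintype_fun_eq_card, Fintype.card_prod, Fintype.card_fin] at hle
      have hle0 : eigDim (x : Matrix (Fin a × Fin b) (Fin a × Fin b) F) ν = 0 := by
        have : a * Fintype.card (Fin b) = 0 := by rw [h0, zero_mul]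
        omega
      rw [hle0]
      exact dvd_zero _
    · exact h0
  have hμ0 : μ ≠ 0 := by
    rintro rfl
    rw [eigDim_zero_of_GL, zero_add] at hμ
    nlinarith
  have e1 : eigDim ((A : Matrix (Fin a) (Fin a) F) ⊗ₖ (B : Matrix (Fin b) (Fin b) F)) μ =
      eigDim (x : Matrix (Fin a × Fin b) (Fin a × Fin b) F) μ := by
    rw [← hAB, eigDim_conj]
  have e2 : eigDim ((A : Matrix (Fin a) (Fin a) F) ⊗ₖ (B : Matrix (Fin b) (Fin b) F)) ν =
      eigDim (x : Matrix (Fin a × Fin b) (Fin a × Fin b) F) ν := by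
    rw [← hAB, eigDim_conj]
  obtain ⟨l, hl⟩ := Cfsg.Agent.Lib.Helper18.SLT.kron_left_scalar (A : Matrix (Fin a) (Fin a) F) (B : Matrix (Fin b) (Fin b) F)
    μ hμ0 c hc (by rw [e1]; exact hμ)
  have h3 : (A : Matrix (Fin a) (Fin a) F) ⊗ₖ (B : Matrix (Fin b) (Fin b) F) =
      (1 : Matrix (Fin a) (Fin a) F) ⊗ₖ (l • (B : Matrix (Fin b) (Fin b) F)) := by
    rw [hl, Matrix.smul_kronecker, Matrix.kronecker_smul]
  rw [h3, Cfsg.Agent.Lib.Helper85.SLT.eigDim_one_kron] at e2
  exact hν ⟨_, e2.symm⟩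

theorem kron_pow {a b : ℕ} (A : Matrix (Fin a) (Fin a) F) (B : Matrix (Fin b) (Fin b) F) (n : ℕ) :
    (A ⊗ₖ B) ^ n = (A ^ n) ⊗ₖ (B ^ n) := by
  induction n with
  | zero => simp
  | succ k ih => rw [pow_succ, pow_succ, pow_succ, ih, Matrix.mul_kronecker_mul]

/-- `A ⊗ B = 1` forces `A` scalar -/
theorem kron_eq_one_left {a b : ℕ} (hb : 1 ≤ b) (A : Matrix (Fin a) (Fin a) F)
    (B : Matrix (Fin b) (Fin b) F) (h : A ⊗ₖ B = 1) : ∃ l : F, A = l • (1 : Matrix (Fin a) (Fin a) F) := by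
  let j₀ : Fin b := ⟨0, hb⟩
  have key : ∀ i i' : Fin a, A i i' * B j₀ j₀ = if i = i' then 1 else 0 := by
    intro i i'
    have := congrFun (congrFun h (i, j₀)) (i', j₀)
    rw [Matrix.kronecker_apply, Matrix.one_apply] at this
    rw [this]
    simp
  rcases Nat.eq_zero_or_pos a with h0 | h0
  · subst h0
    exact ⟨0, by ext i; exact i.elim0⟩
  · have hB : B j₀ j₀ ≠ 0 := by
      intro hz
      have := key ⟨0, h0⟩ ⟨0, h0⟩
      rw [hz, mul_zero, if_pos rfl] at this
      exact zero_ne_one this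
    refine ⟨(B j₀ j₀)⁻¹, ?_⟩
    ext i i'
    rw [Matrix.smul_apply, Matrix.one_apply, smul_eq_mul]
    have := key i i'
    by_cases hii : i = i'
    · rw [if_pos hii] at this ⊢
      field_simp
      exact this
    · rw [if_neg hii] at this ⊢
      rw [mul_zero]
      rcases mul_eq_zero.mp this with h1 | h1
      · exact h1
      · exact absurd h1 hB

/-- `1 ⊗ M = 1` forces `M = 1` -/
theorem one_kron_eq_one {a b : ℕ} (ha : 1 ≤ a) (M : Matrix (Fin b) (Fin b) F)
    (h : (1 : Matrix (Fin a) (Fin a) F) ⊗ₖ M = 1) : M = 1 := by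
  let i₀ : Fin a := ⟨0, ha⟩
  ext j j'
  have := congrFun (congrFun h (i₀, j)) (i₀, j')
  rw [Matrix.kronecker_apply, Matrix.one_apply, Matrix.one_apply, if_pos rfl, one_mul] at this
  rw [this, Matrix.one_apply]
  simp

/-- **criterion 2**: an element of order `r` whose fixed space has codimension `e = ord_r(q)` -/
theorem noKronConj_of_irred [Fintype F] {p : ℕ} [Fact p.Prime] [CharP F p] {a b : ℕ} (ha : 2 ≤ a)
    (hab : a < b) (r : ℕ) (hr : r.Prime) (hrp : r ≠ p) (e : ℕ)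
    (he : e = orderOf ((Fintype.card F : ℕ) : ZMod r)) (he1 : 1 ≤ e)
    (x : GL (Fin a × Fin b) F) (hxr : x ^ r = 1)
    (hfix : eigDim (x : Matrix (Fin a × Fin b) (Fin a × Fin b) F) 1 + e = a * b) :
    NoKronConj a b x := by
  intro h hmem
  obtain ⟨A, B, hAB⟩ := hmem
  have e1 : eigDim ((A : Matrix (Fin a) (Fin a) F) ⊗ₖ (B : Matrix (Fin b) (Fin b) F)) 1 =
      eigDim (x : Matrix (Fin a × Fin b) (Fin a × Fin b) F) 1 := by
    rw [← hAB, eigDim_conj]
  -- `(A ⊗ B) ^ r = 1`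
  have hpow : ((A : Matrix (Fin a) (Fin a) F) ⊗ₖ (B : Matrix (Fin b) (Fin b) F)) ^ r = 1 := by
    rw [← hAB, ← Units.val_pow_eq_pow_val]
    have : (h⁻¹ * x * h) ^ r = 1 := by
      rw [show h⁻¹ * x * h = h⁻¹ * x * (h⁻¹)⁻¹ by rw [inv_inv], conj_pow, hxr]
      group
    rw [this, Units.val_one]
  -- Step 1: `A` is scalar
  have hA : ∃ l : F, (A : Matrix (Fin a) (Fin a) F) = l • (1 : Matrix (Fin a) (Fin a) F) := by
    by_cases heb : e < b
    · exact Cfsg.Agent.Lib.Helper18.SLT.kron_left_scalar (A : Matrix (Fin a) (Fin a) F) (B : Matrix (Fin b) (Fin b) F) 1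
        one_ne_zero e heb (by rw [e1]; omega)
    · rw [kron_pow] at hpow
      obtain ⟨l, hl⟩ := kron_eq_one_left (by omega) _ _ hpow
      refine Cfsg.Agent.Lib.Helper13.SLT.scalar_of_pow_scalar r hr hrp a (by omega) A l ?_
      rw [Units.val_pow_eq_pow_val]
      exact hl
  obtain ⟨l, hl⟩ := hA
  have hl0 : l ≠ 0 := by
    rintro rfl
    rw [zero_smul] at hl
    have hdet := (A : Matrix (Fin a) (Fin a) F).det
    have h1 : IsUnit (A : Matrix (Fin a) (Fin a) F) := A.isUnit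
    rw [hl] at h1
    have : Nontrivial (Matrix (Fin a) (Fin a) F) := by
      have : Nonempty (Fin a) := ⟨⟨0, by omega⟩⟩
      infer_instance
    exact not_isUnit_zero h1
  -- Step 2
  let B' : GL (Fin b) F := Matrix.GeneralLinearGroup.scalar (Fin b) (Units.mk0 l hl0) * B
  have hB' : (B' : Matrix (Fin b) (Fin b) F) = l • (B : Matrix (Fin b) (Fin b) F) := by
    show ((Matrix.GeneralLinearGroup.scalar (Fin b) (Units.mk0 l hl0) * B : GL (Fin b) F) :
      Matrix (Fin b) (Fin b) F) = _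
    rw [Units.val_mul, Matrix.GeneralLinearGroup.coe_scalar, Units.val_mk0]
    ext i j
    simp [Matrix.scalar_apply, Matrix.diagonal_mul]
  have h3 : (A : Matrix (Fin a) (Fin a) F) ⊗ₖ (B : Matrix (Fin b) (Fin b) F) =
      (1 : Matrix (Fin a) (Fin a) F) ⊗ₖ (B' : Matrix (Fin b) (Fin b) F) := by
    rw [hl, hB', Matrix.smul_kronecker, Matrix.kronecker_smul]
  rw [h3] at hpow e1
  rw [kron_pow, one_pow] at hpow
  have hB'r : B' ^ r = 1 := by
    apply Units.ext
    rw [Units.val_pow_eq_pow_val, Units.val_one]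
    exact one_kron_eq_one (by omega) _ hpow
  rw [Cfsg.Agent.Lib.Helper85.SLT.eigDim_one_kron] at e1
  have hB'1 : B' ≠ 1 := by
    intro h1
    rw [h1, Units.val_one, eigDim_one_one, Fintype.card_fin] at e1
    omega
  have h4 := Cfsg.Agent.Lib.Helper12.SLT.order_le_of_pow_eq_one r hr hrp b B' hB'r hB'1
  rw [← he] at h4
  -- arithmetic
  have h5 : a * (e + eigDim (B' : Matrix (Fin b) (Fin b) F) 1) ≤ a * b := Nat.mul_le_mul_left a h4
  nlinarith

end Cfsg.Agent.Lib.Helper69.SLT
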