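import Mathlib

/-! Pack K-A4O (S4068), leaf L8b `exists_orderOf_card_sub_one`. Mathlib only. -/

set_option autoImplicit false

namespace Cfsg.Agent.Lib.Helper69.A4O

/-- `diag(u, u⁻¹)` in `SL₂(F)`. -/
def diagSL {F : Type} [Field F] (u : Fˣ) : Matrix.SpecialLinearGroup (Fin 2) F :=
  ⟨!![(u : F), 0; 0, ((u⁻¹ : Fˣ) : F)], by simp [Matrix.det_fin_two_of]⟩

theorem diagSL_val {F : Type} [Field F] (u : Fˣ) :
    ((diagSL u : Matrix.SpecialLinearGroup (Fin 2) F) : Matrix (Fin 2) (Fin 2) F) =
      !![(u : F), 0; 0, ((u⁻¹ : Fˣ) : F)] := rfl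

theorem diagSL_mul {F : Type} [Field F] (u v : Fˣ) : diagSL (u * v) = diagSL u * diagSL v := by
  apply Subtype.ext
  rw [Matrix.SpecialLinearGroup.coe_mul, diagSL_val, diagSL_val, diagSL_val]
  ext i j
  fin_cases i <;> fin_cases j <;> simp [Matrix.mul_apply, Fin.sum_univ_two, mul_comm]

theorem diagSL_injective {F : Type} [Field F] : Function.Injective (diagSL (F := F)) := by
  intro u v h
  have h00 := congrArg (fun g : Matrix.SpecialLinearGroup (Fin 2) F =>
    (g : Matrix (Fin 2) (Fin 2) F) 0 0) h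
  simp only [diagSL_val] at h00
  exact Units.ext (by simpa using h00)

/-- 406809 A4O-L8b. -/
theorem exists_orderOf_card_sub_one {F : Type} [Field F] [Fintype F] :
    ∃ g : Matrix.SpecialLinearGroup (Fin 2) F, orderOf g = Fintype.card F - 1 := by
  classical
  obtain ⟨l, hl⟩ := IsCyclic.exists_generator (α := Fˣ)
  have hord : orderOf l = Fintype.card F - 1 := by
    rw [orderOf_eq_card_of_forall_mem_zpowers hl, Nat.card_eq_fintype_card, Fintype.card_units]
  let φ : Fˣ →* Matrix.SpecialLinearGroup (Fin 2) F := MonoidHom.mk' diagSL diagSL_mul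
  have hinj : Function.Injective φ := diagSL_injective
  exact ⟨φ l, by rw [orderOf_injective φ hinj, hord]⟩

end Cfsg.Agent.Lib.Helper69.A4O
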