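import Mathlib
import Cfsg.Agent.Lib.Helper70.AGDefs

/-!
# K-4188-A5 (keystone 418805, pack K-4188 of helper70 for S4188; parallel hand): `caseB_geometry`
-/

set_option autoImplicit false
set_option linter.unusedVariables false
set_option linter.unusedSectionVars false
set_option linter.style.longLine false

namespace Cfsg.Agent.Lib.Helper69.AG

open Cfsg.Agent.Lib.Helper70.AG

/-- in a finite group of odd order, `v ^ 2 = 1` forces `v = 1` -/
theorem a5_eq_one_of_sq {V : Type*} [Group V] [Finite V] (hodd : Odd (Nat.card V)) {v : V}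
    (h : v ^ 2 = 1) : v = 1 := by
  have h1 : orderOf v ∣ 2 := orderOf_dvd_of_pow_eq_one h
  have h2 : orderOf v ∣ Nat.card V := orderOf_dvd_natCard v
  have h3 : orderOf v = 1 ∨ orderOf v = 2 := (Nat.dvd_prime Nat.prime_two).mp h1
  rcases h3 with h3 | h3
  · exact orderOf_eq_one_iff.mp h3
  · exfalso
    rw [h3] at h2
    exact (Nat.not_even_iff_odd.mpr hodd) (even_iff_two_dvd.mpr h2)

/-- in a finite group of odd order every element is a square -/
theorem a5_exists_sq {V : Type*} [Group V] [Finite V] (hodd : Odd (Nat.card V)) (y : V) :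
    ∃ w : V, w ^ 2 = y := by
  obtain ⟨k, hk⟩ := hodd
  refine ⟨y ^ (k + 1), ?_⟩
  rw [← pow_mul]
  have : (k + 1) * 2 = Nat.card V + 1 := by omega
  rw [this, pow_succ, pow_card_eq_one', one_mul]

theorem caseB_geometry {V : Type*} [CommGroup V] [Finite V] (hodd : Odd (Nat.card V))
    (Q : Subgroup (MulAut V))
    (hirr : ∀ W : Subgroup V, IsInv Q W → W = ⊥ ∨ W = ⊤)
    (z u : ↥Q) (hz1 : z ≠ 1) (hz2 : z ^ 2 = 1) (hzc : z ∈ Subgroup.center ↥Q)
    (hu1 : u ≠ 1) (hu2 : u ^ 2 = 1) (huz : u ≠ z)
    (hconj : ∀ s : ↥Q, s * u * s⁻¹ = u ∨ s * u * s⁻¹ = u * z) :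
    (Subgroup.centralizer ({u} : Set ↥Q)).index = 2 ∧
    fixedSub (u : MulAut V) ⊓ fixedSub ((u * z : ↥Q) : MulAut V) = ⊥ ∧
    fixedSub (u : MulAut V) ⊔ fixedSub ((u * z : ↥Q) : MulAut V) = ⊤ ∧
    (∀ m ∈ Subgroup.centralizer ({u} : Set ↥Q), ∀ v ∈ fixedSub (u : MulAut V),
      (m : MulAut V) v ∈ fixedSub (u : MulAut V)) ∧
    (∀ m ∈ Subgroup.centralizer ({u} : Set ↥Q), ∀ v ∈ fixedSub ((u * z : ↥Q) : MulAut V),
      (m : MulAut V) v ∈ fixedSub ((u * z : ↥Q) : MulAut V)) ∧
    Nat.card ↥(fixedSub (u : MulAut V)) = Nat.card ↥(fixedSub ((u * z : ↥Q) : MulAut V)) ∧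
    fixedSub (u : MulAut V) ≠ ⊥ := by
  -- basic facts on the two automorphisms
  have hzz : ∀ v : V, (z : MulAut V) ((z : MulAut V) v) = v := by
    intro v
    have := congrArg (fun q : ↥Q => (q : MulAut V) v) hz2
    simpa [pow_two, MulAut.mul_apply] using this
  have huu : ∀ v : V, (u : MulAut V) ((u : MulAut V) v) = v := by
    intro v
    have := congrArg (fun q : ↥Q => (q : MulAut V) v) hu2
    simpa [pow_two, MulAut.mul_apply] using this
  have hzcomm : ∀ q : ↥Q, ∀ v : V, (z : MulAut V) ((q : MulAut V) v) = (q : MulAut V) ((z : MulAut V) v) := by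
    intro q v
    have h1 : q * z = z * q := Subgroup.mem_center_iff.mp hzc q
    have := congrArg (fun r : ↥Q => (r : MulAut V) v) h1
    simpa [MulAut.mul_apply] using this.symm
  have hne_one : ∀ q : ↥Q, q ≠ 1 → fixedSub (q : MulAut V) ≠ ⊤ := by
    intro q hq htop
    apply hq
    apply Subtype.ext
    apply MulEquiv.ext
    intro v
    have : v ∈ fixedSub (q : MulAut V) := by rw [htop]; trivial
    have hv : (q : MulAut V) v = v := mem_fixedSub.mp this
    simpa using hv
  -- (1) `z` inverts `V`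
  have hzinv : ∀ v : V, (z : MulAut V) v = v⁻¹ := by
    have hinv : IsInv Q (fixedSub (z : MulAut V)) := by
      intro q hq w hw
      rw [mem_fixedSub] at hw ⊢
      have := hzcomm ⟨q, hq⟩ w
      simp only at this
      rw [this, hw]
    have hbot : fixedSub (z : MulAut V) = ⊥ := by
      rcases hirr _ hinv with h | h
      · exact h
      · exact absurd h (hne_one z hz1)
    intro v
    have hw : v * (z : MulAut V) v ∈ fixedSub (z : MulAut V) := by
      rw [mem_fixedSub, map_mul, hzz, mul_comm]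
    rw [hbot, Subgroup.mem_bot] at hw
    exact (eq_inv_of_mul_eq_one_right hw)
  have huz_apply : ∀ v : V, ((u * z : ↥Q) : MulAut V) v = ((u : MulAut V) v)⁻¹ := by
    intro v
    rw [Subgroup.coe_mul, MulAut.mul_apply, hzinv, map_inv]
  have hmemM : ∀ v : V, v ∈ fixedSub ((u * z : ↥Q) : MulAut V) ↔ (u : MulAut V) v = v⁻¹ := by
    intro v
    rw [mem_fixedSub, huz_apply]
    constructor
    · intro h
      have := congrArg Inv.inv h
      simpa using this
    · intro h; rw [h, inv_inv]
  -- (2) intersection and join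
  have hinf : fixedSub (u : MulAut V) ⊓ fixedSub ((u * z : ↥Q) : MulAut V) = ⊥ := by
    rw [eq_bot_iff]
    intro v hv
    rw [Subgroup.mem_inf] at hv
    obtain ⟨h1, h2⟩ := hv
    rw [mem_fixedSub] at h1
    rw [hmemM] at h2
    rw [Subgroup.mem_bot]
    apply a5_eq_one_of_sq hodd
    have : v = v⁻¹ := h1.symm.trans h2
    rw [pow_two]
    nth_rewrite 1 [this]
    exact inv_mul_cancel v
  have hsup : fixedSub (u : MulAut V) ⊔ fixedSub ((u * z : ↥Q) : MulAut V) = ⊤ := by
    rw [eq_top_iff]
    intro y _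
    obtain ⟨w, hw⟩ := a5_exists_sq hodd y
    have ha : w * (u : MulAut V) w ∈ fixedSub (u : MulAut V) := by
      rw [mem_fixedSub, map_mul, huu, mul_comm]
    have hb : w * ((u : MulAut V) w)⁻¹ ∈ fixedSub ((u * z : ↥Q) : MulAut V) := by
      rw [hmemM, map_mul, map_inv, huu, mul_inv, inv_inv, mul_comm]
    have hy : y = (w * (u : MulAut V) w) * (w * ((u : MulAut V) w)⁻¹) := by
      rw [← hw, pow_two]
      rw [mul_mul_mul_comm, mul_inv_cancel, mul_one]
    rw [hy]
    exact Subgroup.mul_mem_sup ha hb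
  -- (3) the centralizer of `u` preserves both
  have hcomm_u : ∀ m ∈ Subgroup.centralizer ({u} : Set ↥Q), ∀ v : V,
      (u : MulAut V) ((m : MulAut V) v) = (m : MulAut V) ((u : MulAut V) v) := by
    intro m hm v
    have h1 : u * m = m * u := Subgroup.mem_centralizer_iff.mp hm u rfl
    have := congrArg (fun r : ↥Q => (r : MulAut V) v) h1
    simpa [MulAut.mul_apply] using this
  have hpresP : ∀ m ∈ Subgroup.centralizer ({u} : Set ↥Q), ∀ v ∈ fixedSub (u : MulAut V),
      (m : MulAut V) v ∈ fixedSub (u : MulAut V) := by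
    intro m hm v hv
    rw [mem_fixedSub] at hv ⊢
    rw [hcomm_u m hm, hv]
  have hpresM : ∀ m ∈ Subgroup.centralizer ({u} : Set ↥Q), ∀ v ∈ fixedSub ((u * z : ↥Q) : MulAut V),
      (m : MulAut V) v ∈ fixedSub ((u * z : ↥Q) : MulAut V) := by
    intro m hm v hv
    rw [hmemM] at hv ⊢
    rw [hcomm_u m hm, hv, map_inv]
  -- `u z ≠ u`
  have huzne : u * z ≠ u := by
    intro h
    apply hz1
    have : u * z = u * 1 := by rw [h, mul_one]
    exact mul_left_cancel this
  -- V₊ ≠ ⊥
  have hPne : fixedSub (u : MulAut V) ≠ ⊥ := by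
    intro hbot
    rw [hbot, bot_sup_eq] at hsup
    have h1 : u * z = 1 := by
      by_contra hne
      exact hne_one (u * z) hne hsup
    apply huz
    have : u * z = z * z := by rw [h1, ← pow_two, hz2]
    exact mul_right_cancel this
  -- (4) an element swapping the two
  have hexs : ∃ s : ↥Q, s * u * s⁻¹ = u * z := by
    by_contra hcon
    push Not at hcon
    have hall : ∀ s : ↥Q, s * u * s⁻¹ = u := fun s => (hconj s).resolve_right (hcon s)
    have hinv : IsInv Q (fixedSub (u : MulAut V)) := by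
      intro q hq w hw
      have hmem : (⟨q, hq⟩ : ↥Q) ∈ Subgroup.centralizer ({u} : Set ↥Q) := by
        rw [Subgroup.mem_centralizer_iff]
        intro h hh
        rw [Set.mem_singleton_iff] at hh
        subst hh
        have := hall ⟨q, hq⟩
        calc h * ⟨q, hq⟩ = (⟨q, hq⟩ * h * (⟨q, hq⟩ : ↥Q)⁻¹) * ⟨q, hq⟩ := by rw [this]
          _ = ⟨q, hq⟩ * h := by group
      exact hpresP _ hmem w hw
    rcases hirr _ hinv with h | h
    · exact hPne h
    · exact hne_one u hu1 h
  obtain ⟨s, hs⟩ := hexs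
  have hs_apply : ∀ v : V, ((u * z : ↥Q) : MulAut V) ((s : MulAut V) v) = (s : MulAut V) ((u : MulAut V) v) := by
    intro v
    have h1 : (u * z) * s = s * u := by
      calc (u * z) * s = (s * u * s⁻¹) * s := by rw [hs]
        _ = s * u := by group
    have := congrArg (fun r : ↥Q => (r : MulAut V) v) h1
    simpa [MulAut.mul_apply] using this
  have hs' : s * (u * z) * s⁻¹ = u := by
    have h1 : s * z * s⁻¹ = z := by
      have := Subgroup.mem_center_iff.mp hzc s
      calc s * z * s⁻¹ = z * s * s⁻¹ := by rw [this]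
        _ = z := by group
    calc s * (u * z) * s⁻¹ = (s * u * s⁻¹) * (s * z * s⁻¹) := by group
      _ = u * z * z := by rw [hs, h1]
      _ = u := by rw [mul_assoc, ← pow_two, hz2, mul_one]
  have hs'_apply : ∀ v : V, (u : MulAut V) ((s : MulAut V) v) = (s : MulAut V) (((u * z : ↥Q) : MulAut V) v) := by
    intro v
    have h1 : u * s = s * (u * z) := by
      calc u * s = (s * (u * z) * s⁻¹) * s := by rw [hs']
        _ = s * (u * z) := by group
    have := congrArg (fun r : ↥Q => (r : MulAut V) v) h1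
    simpa [MulAut.mul_apply] using this
  have hcard : Nat.card ↥(fixedSub (u : MulAut V)) = Nat.card ↥(fixedSub ((u * z : ↥Q) : MulAut V)) := by
    apply le_antisymm
    · refine Nat.card_le_card_of_injective
        (fun v : ↥(fixedSub (u : MulAut V)) =>
          (⟨(s : MulAut V) v, by
            have hv := v.2
            rw [mem_fixedSub] at hv ⊢
            rw [hs_apply, hv]⟩ : ↥(fixedSub ((u * z : ↥Q) : MulAut V)))) ?_
      intro a b hab
      have := congrArg Subtype.val hab
      simp only at this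
      exact Subtype.ext ((s : MulAut V).injective this)
    · refine Nat.card_le_card_of_injective
        (fun v : ↥(fixedSub ((u * z : ↥Q) : MulAut V)) =>
          (⟨(s : MulAut V) v, by
            have hv := v.2
            rw [mem_fixedSub] at hv ⊢
            rw [hs'_apply, hv]⟩ : ↥(fixedSub (u : MulAut V)))) ?_
      intro a b hab
      have := congrArg Subtype.val hab
      simp only at this
      exact Subtype.ext ((s : MulAut V).injective this)
  -- (5) index two
  have hmemC : ∀ b : ↥Q, b ∈ Subgroup.centralizer ({u} : Set ↥Q) ↔ b * u * b⁻¹ = u := by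
    intro b
    rw [Subgroup.mem_centralizer_iff]
    constructor
    · intro h
      have := h u rfl
      calc b * u * b⁻¹ = u * b * b⁻¹ := by rw [this]
        _ = u := by group
    · intro h x hx
      rw [Set.mem_singleton_iff] at hx
      subst hx
      calc x * b = (b * x * b⁻¹) * b := by rw [h]
        _ = b * x := by group
  have hindex : (Subgroup.centralizer ({u} : Set ↥Q)).index = 2 := by
    rw [Subgroup.index_eq_two_iff]
    refine ⟨s, ?_⟩
    intro b
    rw [hmemC, hmemC]
    have hbs : (b * s) * u * (b * s)⁻¹ = b * (u * z) * b⁻¹ := by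
      calc (b * s) * u * (b * s)⁻¹ = b * (s * u * s⁻¹) * b⁻¹ := by group
        _ = b * (u * z) * b⁻¹ := by rw [hs]
    have hbz : b * z * b⁻¹ = z := by
      have := Subgroup.mem_center_iff.mp hzc b
      calc b * z * b⁻¹ = z * b * b⁻¹ := by rw [this]
        _ = z := by group
    have hsplit : b * (u * z) * b⁻¹ = (b * u * b⁻¹) * z := by
      calc b * (u * z) * b⁻¹ = (b * u * b⁻¹) * (b * z * b⁻¹) := by group
        _ = (b * u * b⁻¹) * z := by rw [hbz]
    rw [hbs, hsplit]
    rcases hconj b with h | h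
    · rw [h]
      exact Or.inr ⟨rfl, huzne⟩
    · rw [h]
      refine Or.inl ⟨?_, huzne⟩
      rw [mul_assoc, ← pow_two, hz2, mul_one]
  exact ⟨hindex, hinf, hsup, hpresP, hpresM, hcard, hPne⟩

end Cfsg.Agent.Lib.Helper69.AG
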