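import Mathlib

/-!
# Faithful irreducible modules of finite abelian groups over finite fields

`H` a finite abelian group, `ρ` an irreducible representation on `V` over the finite field `F`.
The image of the group algebra in `End V` is a finite field `L = F[H] ⧸ ker`, `V` is a
one-dimensional `L`-space.  An invariant nondegenerate bilinear form induces an `F`-algebra
endomorphism of `L` inverting the images of the group elements; it is a power of the Frobenius map.
-/

namespace Cfsg.Agent.Lib.Helper69.AbelianIrred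

set_option linter.unusedSectionVars false
set_option linter.style.haveILetI false

variable {F : Type*} [Field F] [Fintype F] {H : Type*} [CommGroup H] [Finite H]
variable {V : Type*} [AddCommGroup V] [Module F V] [FiniteDimensional F V]
variable (ρ : Representation F H V)

/-- irreducibility in the form used by the statements -/
def Irr : Prop := ∀ U : Submodule F V, (∀ h : H, ∀ u ∈ U, ρ h u ∈ U) → U = ⊥ ∨ U = ⊤

/-- the annihilator ideal of `V` in the group algebra -/
noncomputable abbrev annI : Ideal (MonoidAlgebra F H) := RingHom.ker ρ.asAlgebraHom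

theorem asAlg_comm (a : MonoidAlgebra F H) (h : H) :
    ρ.asAlgebraHom a * ρ h = ρ h * ρ.asAlgebraHom a := by
  rw [← Representation.asAlgebraHom_of, ← map_mul, ← map_mul, mul_comm]

/-- kernel of a nonzero element of the image algebra is trivial -/
theorem ker_eq_bot_of_ne_zero (hirr : Irr ρ) (a : MonoidAlgebra F H)
    (ha : ρ.asAlgebraHom a ≠ 0) : LinearMap.ker (ρ.asAlgebraHom a) = ⊥ := by
  have hinv : ∀ h : H, ∀ u ∈ LinearMap.ker (ρ.asAlgebraHom a),
      ρ h u ∈ LinearMap.ker (ρ.asAlgebraHom a) := by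
    intro h u hu
    rw [LinearMap.mem_ker] at hu ⊢
    have := congrArg (fun T : Module.End F V => T u) (asAlg_comm ρ a h)
    simp only [Module.End.mul_apply] at this
    rw [this, hu, map_zero]
  rcases hirr (LinearMap.ker (ρ.asAlgebraHom a)) hinv with h | h
  · exact h
  · exfalso
    apply ha
    apply LinearMap.ext
    intro x
    have : x ∈ LinearMap.ker (ρ.asAlgebraHom a) := by rw [h]; trivial
    simpa using this

theorem annI_isPrime [Nontrivial V] (hirr : Irr ρ) : (annI ρ).IsPrime := by
  refine ⟨?_, ?_⟩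
  · intro htop
    have h1 : (1 : MonoidAlgebra F H) ∈ annI ρ := by rw [htop]; trivial
    rw [RingHom.mem_ker, map_one] at h1
    obtain ⟨v, hv⟩ := exists_ne (0 : V)
    apply hv
    have := congrArg (fun T : Module.End F V => T v) h1
    simpa using this
  · intro a b hab
    rw [RingHom.mem_ker, map_mul] at hab
    by_cases ha : ρ.asAlgebraHom a = 0
    · left; exact ha
    · right
      rw [RingHom.mem_ker]
      have hk := ker_eq_bot_of_ne_zero ρ hirr a ha
      apply LinearMap.ext
      intro x
      have h2 : ρ.asAlgebraHom a (ρ.asAlgebraHom b x) = 0 := by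
        have := congrArg (fun T : Module.End F V => T x) hab
        simpa [Module.End.mul_apply] using this
      have h3 : ρ.asAlgebraHom b x ∈ LinearMap.ker (ρ.asAlgebraHom a) := h2
      rw [hk] at h3
      simpa using h3


/-- the quotient of the group algebra acting faithfully on `V` -/
abbrev L : Type _ := MonoidAlgebra F H ⧸ annI ρ

/-- the embedding of `L` into `End V` -/
noncomputable def emb : L ρ →ₐ[F] Module.End F V := Ideal.kerLiftAlg ρ.asAlgebraHom

theorem emb_injective : Function.Injective (emb ρ) := Ideal.kerLiftAlg_injective _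

theorem emb_mk (a : MonoidAlgebra F H) :
    emb ρ (Ideal.Quotient.mk (annI ρ) a) = ρ.asAlgebraHom a := Ideal.kerLiftAlg_mk _ _

/-- group elements inside `L` -/
noncomputable def gL : H →* L ρ :=
  ((Ideal.Quotient.mk (annI ρ) : MonoidAlgebra F H →+* L ρ) : MonoidAlgebra F H →* L ρ).comp
    (MonoidAlgebra.of F H)

theorem gL_apply (h : H) : gL ρ h = Ideal.Quotient.mk (annI ρ) (MonoidAlgebra.of F H h) := rfl

@[simp] theorem emb_gL (h : H) : emb ρ (gL ρ h) = ρ h := by
  rw [gL_apply, emb_mk, Representation.asAlgebraHom_of]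

theorem gL_injective (hfaith : Function.Injective ρ) : Function.Injective (gL ρ) := by
  intro a b hab
  apply hfaith
  rw [← emb_gL, ← emb_gL, hab]

instance finite_End : Finite (Module.End F V) := by
  have : Finite V := Module.finite_of_finite F
  exact Finite.of_injective (fun f : Module.End F V => (f : V → V)) DFunLike.coe_injective

instance finite_L : Finite (L ρ) := Finite.of_injective _ (emb_injective ρ)

theorem annI_isMaximal [Nontrivial V] (hirr : Irr ρ) : (annI ρ).IsMaximal := by
  haveI := annI_isPrime ρ hirr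
  haveI : IsDomain (L ρ) := Ideal.Quotient.isDomain (annI ρ)
  exact Ideal.Quotient.maximal_of_isField _ (Finite.isField_of_domain (L ρ))

/-- elements of `L` commute with the group action -/
theorem emb_comm (x : L ρ) (h : H) (v : V) : emb ρ x (ρ h v) = ρ h (emb ρ x v) := by
  obtain ⟨a, rfl⟩ := Ideal.Quotient.mk_surjective x
  rw [emb_mk]
  have := congrArg (fun T : Module.End F V => T v) (asAlg_comm ρ a h)
  simpa [Module.End.mul_apply] using this

theorem emb_ker_eq_bot (hirr : Irr ρ) (x : L ρ) (hx : x ≠ 0) : LinearMap.ker (emb ρ x) = ⊥ := by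
  obtain ⟨a, rfl⟩ := Ideal.Quotient.mk_surjective x
  rw [emb_mk]
  apply ker_eq_bot_of_ne_zero ρ hirr
  intro h0
  apply hx
  apply emb_injective ρ
  rw [emb_mk, h0, map_zero]

/-- evaluation at a vector, an `F`-linear map `L → V` -/
noncomputable def evalAt (v : V) : L ρ →ₗ[F] V :=
  (LinearMap.applyₗ v).comp (emb ρ).toLinearMap

@[simp] theorem evalAt_apply (v : V) (x : L ρ) : evalAt ρ v x = emb ρ x v := rfl

theorem evalAt_injective (hirr : Irr ρ) {v : V} (hv : v ≠ 0) : Function.Injective (evalAt ρ v) := by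
  rw [← LinearMap.ker_eq_bot, LinearMap.ker_eq_bot']
  intro x hx
  by_contra hx0
  have hk := emb_ker_eq_bot ρ hirr x hx0
  have : v ∈ LinearMap.ker (emb ρ x) := by simpa using hx
  rw [hk] at this
  exact hv (by simpa using this)

theorem evalAt_surjective (hirr : Irr ρ) {v : V} (hv : v ≠ 0) : Function.Surjective (evalAt ρ v) := by
  rw [← LinearMap.range_eq_top]
  have hinv : ∀ h : H, ∀ u ∈ LinearMap.range (evalAt ρ v), ρ h u ∈ LinearMap.range (evalAt ρ v) := by
    rintro h u ⟨x, rfl⟩
    refine ⟨gL ρ h * x, ?_⟩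
    simp [Module.End.mul_apply]
  rcases hirr (LinearMap.range (evalAt ρ v)) hinv with h | h
  · exfalso
    apply hv
    have : evalAt ρ v 1 ∈ LinearMap.range (evalAt ρ v) := LinearMap.mem_range_self _ _
    rw [h] at this
    simpa using this
  · exact h

/-- `L ≃ V` as `F`-spaces -/
noncomputable def evalEquiv (hirr : Irr ρ) {v : V} (hv : v ≠ 0) : L ρ ≃ₗ[F] V :=
  LinearEquiv.ofBijective (evalAt ρ v) ⟨evalAt_injective ρ hirr hv, evalAt_surjective ρ hirr hv⟩

@[simp] theorem evalEquiv_apply (hirr : Irr ρ) {v : V} (hv : v ≠ 0) (x : L ρ) :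
    evalEquiv ρ hirr hv x = emb ρ x v := rfl

theorem finrank_L (hirr : Irr ρ) [Nontrivial V] : Module.finrank F (L ρ) = Module.finrank F V := by
  obtain ⟨v, hv⟩ := exists_ne (0 : V)
  exact (evalEquiv ρ hirr hv).finrank_eq

theorem evalEquiv_symm_smul (hirr : Irr ρ) {v : V} (hv : v ≠ 0) (h : H) (w : V) :
    (evalEquiv ρ hirr hv).symm (ρ h w) = gL ρ h * (evalEquiv ρ hirr hv).symm w := by
  apply (evalEquiv ρ hirr hv).injective
  rw [LinearEquiv.apply_symm_apply, evalEquiv_apply, map_mul, emb_gL, Module.End.mul_apply,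
    ← evalEquiv_apply ρ hirr hv, LinearEquiv.apply_symm_apply]


/-! ### The adjoint automorphism attached to an invariant form -/

/-- inversion on the group algebra -/
noncomputable def invAlg : MonoidAlgebra F H →ₐ[F] MonoidAlgebra F H :=
  MonoidAlgebra.lift F (MonoidAlgebra F H) H ((MonoidAlgebra.of F H).comp invMonoidHom)

theorem invAlg_of (h : H) :
    (invAlg : MonoidAlgebra F H →ₐ[F] _) (MonoidAlgebra.of F H h) = MonoidAlgebra.of F H h⁻¹ := by
  simp [invAlg]

theorem adj_formula (B : LinearMap.BilinForm F V)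
    (hBinv : ∀ h : H, ∀ x y : V, B (ρ h x) (ρ h y) = B x y) (a : MonoidAlgebra F H) (x y : V) :
    B (ρ.asAlgebraHom (invAlg a) x) y = B x (ρ.asAlgebraHom a y) := by
  induction a using MonoidAlgebra.induction_on generalizing x y with
  | of h =>
    rw [invAlg_of, Representation.asAlgebraHom_of, Representation.asAlgebraHom_of]
    rw [← hBinv h (ρ h⁻¹ x) y]
    congr 2
    rw [← Module.End.mul_apply, ← map_mul, mul_inv_cancel, map_one, Module.End.one_apply]
  | add a b ha hb =>
    simp only [map_add, LinearMap.add_apply, ha, hb]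
  | smul r a ha =>
    simp only [map_smul, LinearMap.smul_apply, ha]

theorem annI_le_comap_invAlg (B : LinearMap.BilinForm F V)
    (hB : ∀ x : V, (∀ y : V, B x y = 0) → x = 0)
    (hBinv : ∀ h : H, ∀ x y : V, B (ρ h x) (ρ h y) = B x y) :
    annI ρ ≤ (annI ρ).comap (invAlg : MonoidAlgebra F H →ₐ[F] _) := by
  intro a ha
  rw [Ideal.mem_comap, RingHom.mem_ker]
  rw [RingHom.mem_ker] at ha
  apply LinearMap.ext
  intro x
  apply hB
  intro y
  have := adj_formula ρ B hBinv a x y
  rw [this]
  have h0 : ρ.asAlgebraHom a y = 0 := by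
    have := congrArg (fun T : Module.End F V => T y) ha
    simpa using this
  rw [h0, map_zero]

/-- the algebra endomorphism of `L` induced by the adjoint -/
noncomputable def sig (B : LinearMap.BilinForm F V)
    (hB : ∀ x : V, (∀ y : V, B x y = 0) → x = 0)
    (hBinv : ∀ h : H, ∀ x y : V, B (ρ h x) (ρ h y) = B x y) : L ρ →ₐ[F] L ρ :=
  Ideal.quotientMapₐ (annI ρ) invAlg (annI_le_comap_invAlg ρ B hB hBinv)

theorem sig_gL (B : LinearMap.BilinForm F V)
    (hB : ∀ x : V, (∀ y : V, B x y = 0) → x = 0)
    (hBinv : ∀ h : H, ∀ x y : V, B (ρ h x) (ρ h y) = B x y) (h : H) :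
    sig ρ B hB hBinv (gL ρ h) = gL ρ h⁻¹ := by
  rw [gL_apply, gL_apply, sig, Ideal.quotient_map_mkₐ, invAlg_of]
  rfl

/-- two algebra endomorphisms of `L` agreeing on group elements are equal -/
theorem algHom_ext_gL {A : Type*} [Semiring A] [Algebra F A] (f g : L ρ →ₐ[F] A)
    (hfg : ∀ h : H, f (gL ρ h) = g (gL ρ h)) : f = g := by
  apply Ideal.Quotient.algHom_ext F
  apply (MonoidAlgebra.lift F A H).symm.injective
  ext h
  simp only [MonoidAlgebra.lift_symm_apply, AlgHom.coe_comp, Function.comp_apply,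
    Ideal.Quotient.mkₐ_eq_mk]
  have := hfg h
  rw [gL_apply] at this
  simpa [MonoidAlgebra.of_apply] using this


/-- **Forward direction.** A left-nondegenerate invariant bilinear form on a faithful irreducible
module of a finite abelian group forces `h ^ (q ^ j + 1) = 1` for all `h`, for some `j < n` with
`n ∣ 2 * j`. -/
theorem forward [Nontrivial V] (hirr : Irr ρ) (hfaith : Function.Injective ρ)
    (B : LinearMap.BilinForm F V) (hB : ∀ x : V, (∀ y : V, B x y = 0) → x = 0)
    (hBinv : ∀ h : H, ∀ x y : V, B (ρ h x) (ρ h y) = B x y) :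
    ∃ j : ℕ, j < Module.finrank F V ∧ (∀ h : H, h ^ (Fintype.card F ^ j + 1) = 1) ∧
      Module.finrank F V ∣ 2 * j := by
  haveI := annI_isMaximal ρ hirr
  letI : Field (L ρ) := Ideal.Quotient.field (annI ρ)
  obtain ⟨⟨j, hj⟩, hjσ⟩ :=
    (FiniteField.bijective_frobeniusAlgHom_pow F (L ρ)).2 (sig ρ B hB hBinv)
  simp only at hjσ
  have hn := finrank_L ρ hirr
  have key : ∀ h : H, h ^ (Fintype.card F ^ j) = h⁻¹ := by
    intro h
    apply gL_injective ρ hfaith
    rw [map_pow, ← sig_gL ρ B hB hBinv, ← hjσ, AlgHom.coe_pow, FiniteField.coe_frobeniusAlgHom,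
      pow_iterate]
  refine ⟨j, hn ▸ hj, ?_, ?_⟩
  · intro h
    rw [pow_succ, key, inv_mul_cancel]
  · rw [← hn, ← FiniteField.orderOf_frobeniusAlgHom F (L ρ)]
    apply orderOf_dvd_of_pow_eq_one
    apply algHom_ext_gL
    intro h
    rw [AlgHom.coe_pow, FiniteField.coe_frobeniusAlgHom, pow_iterate, AlgHom.one_apply]
    show (gL ρ h) ^ Fintype.card F ^ (2 * j) = gL ρ h
    rw [← map_pow]
    congr 1
    rw [two_mul, pow_add, pow_mul, key, key, inv_inv]


/-- **Backward direction.** If `h ^ (q ^ m + 1) = 1` for all `h`, an irreducible module carries a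
nondegenerate invariant bilinear form. -/
theorem backward [Nontrivial V] (hirr : Irr ρ) (m : ℕ)
    (hm : ∀ h : H, h ^ (Fintype.card F ^ m + 1) = 1) :
    ∃ B : LinearMap.BilinForm F V, B.Nondegenerate ∧
      ∀ h : H, ∀ x y : V, B (ρ h x) (ρ h y) = B x y := by
  haveI := annI_isMaximal ρ hirr
  letI : Field (L ρ) := Ideal.Quotient.field (annI ρ)
  obtain ⟨v, hv⟩ := exists_ne (0 : V)
  set e := evalEquiv ρ hirr hv with he
  set φ : L ρ →ₐ[F] L ρ := (FiniteField.frobeniusAlgHom F (L ρ)) ^ m with hφdef
  have hφ : ∀ x : L ρ, φ x = x ^ (Fintype.card F ^ m) := by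
    intro x
    rw [hφdef, AlgHom.coe_pow, FiniteField.coe_frobeniusAlgHom, pow_iterate]
  obtain ⟨lam, hlam⟩ : ∃ lam : Module.Dual F (L ρ), lam 1 ≠ 0 := by
    by_contra hcon
    have hcon' : ∀ lam : Module.Dual F (L ρ), lam 1 = 0 := by
      intro lam
      by_contra h
      exact hcon ⟨lam, h⟩
    exact one_ne_zero ((Module.forall_dual_apply_eq_zero_iff F (1 : L ρ)).1 hcon')
  let B : LinearMap.BilinForm F V :=
    LinearMap.mk₂ F (fun x y => lam (φ (e.symm x) * e.symm y))
      (by intro x₁ x₂ y; simp only [map_add, add_mul])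
      (by intro c x y; simp only [map_smul, smul_mul_assoc])
      (by intro x y₁ y₂; simp only [map_add, mul_add])
      (by intro c x y; simp only [map_smul, mul_smul_comm])
  have hBapp : ∀ x y : V, B x y = lam (φ (e.symm x) * e.symm y) := fun x y => rfl
  refine ⟨B, ?_, ?_⟩
  · rw [LinearMap.BilinForm.nondegenerate_iff_ker_eq_bot, LinearMap.ker_eq_bot']
    intro x hx
    by_contra hx0
    have ha : e.symm x ≠ 0 := by
      intro h0
      apply hx0
      have := congrArg e h0
      simpa using this
    have hφa : φ (e.symm x) ≠ 0 := by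
      intro h0
      apply ha
      exact (map_eq_zero_iff φ (RingHom.injective (φ : L ρ →+* L ρ))).1 h0
    have h1 : B x (e ((φ (e.symm x))⁻¹)) = 0 := by rw [hx]; rfl
    rw [hBapp, LinearEquiv.symm_apply_apply, mul_inv_cancel₀ hφa] at h1
    exact hlam h1
  · intro h x y
    rw [hBapp, hBapp, he, evalEquiv_symm_smul, evalEquiv_symm_smul]
    have h1 : φ (gL ρ h) * gL ρ h = 1 := by
      rw [hφ, ← pow_succ, ← map_pow, hm, map_one]
    have h2 : ∀ a b : L ρ, φ (gL ρ h * a) * (gL ρ h * b) = φ a * b := by
      intro a b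
      rw [map_mul φ, mul_mul_mul_comm, h1, one_mul]
    rw [h2]


/-- a finite abelian group with a faithful irreducible module over a finite field is cyclic -/
theorem isCyclic_of_faithful [Nontrivial V] (hirr : Irr ρ) (hfaith : Function.Injective ρ) :
    IsCyclic H := by
  haveI := annI_isPrime ρ hirr
  haveI : IsDomain (L ρ) := Ideal.Quotient.isDomain (annI ρ)
  exact isCyclic_of_injective_ringHom (gL ρ) (gL_injective ρ hfaith)

theorem card_dvd_of_forall_pow [Nontrivial V] (hirr : Irr ρ) (hfaith : Function.Injective ρ)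
    (k : ℕ) (hk : ∀ h : H, h ^ k = 1) : Nat.card H ∣ k := by
  haveI := isCyclic_of_faithful ρ hirr hfaith
  rw [← IsCyclic.exponent_eq_card]
  exact Monoid.exponent_dvd_of_forall_pow_eq_one hk

theorem forall_pow_of_card_dvd (k : ℕ) (hk : Nat.card H ∣ k) (h : H) : h ^ k = 1 := by
  obtain ⟨c, rfl⟩ := hk
  rw [pow_mul, pow_card_eq_one', one_pow]

/-- if all group elements square to one, an irreducible module is one-dimensional -/
theorem finrank_eq_one_of_sq [Nontrivial V] (hirr : Irr ρ) (hsq : ∀ h : H, h ^ 2 = 1) :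
    Module.finrank F V = 1 := by
  haveI := annI_isPrime ρ hirr
  haveI : IsDomain (L ρ) := Ideal.Quotient.isDomain (annI ρ)
  have hpm : ∀ h : H, ρ h = 1 ∨ ρ h = -1 := by
    intro h
    have h2 : (gL ρ h) ^ 2 = 1 := by rw [← map_pow, hsq, map_one]
    rcases sq_eq_one_iff.1 h2 with h1 | h1
    · left; rw [← emb_gL, h1, map_one]
    · right; rw [← emb_gL, h1, map_neg, map_one]
  obtain ⟨v, hv⟩ := exists_ne (0 : V)
  have hinv : ∀ h : H, ∀ u ∈ Submodule.span F {v}, ρ h u ∈ Submodule.span F {v} := by
    intro h u hu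
    rcases hpm h with h1 | h1
    · rw [h1]; simpa using hu
    · rw [h1]; simpa using hu
  rcases hirr (Submodule.span F {v}) hinv with h | h
  · exfalso
    apply hv
    have : v ∈ Submodule.span F {v} := Submodule.mem_span_singleton_self v
    rw [h] at this
    simpa using this
  · rw [← finrank_top F V, ← h]
    exact finrank_span_singleton hv

end Cfsg.Agent.Lib.Helper69.AbelianIrred
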