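import Mathlib
import Cfsg.Agent.Lib.Helper69.Conj

set_option autoImplicit false

namespace Cfsg.Agent.Lib.Helper69

open scoped Pointwise

variable {G : Type*} [Group G]

/-- A non-commutative simple group is not a `p`-group. -/
theorem not_isPGroup_of_simple_noncomm {T : Type*} [Group T] [Finite T] (hT : IsSimpleGroup T)
    (hna : ¬ IsMulCommutative T) (r : ℕ) [Fact r.Prime] : ¬ IsPGroup r T := by
  intro hp
  haveI : Nontrivial T := hT.toNontrivial
  have hcn := hp.center_nontrivial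
  have hnorm : (Subgroup.center T).Normal := inferInstance
  rcases hnorm.eq_bot_or_eq_top with h | h
  · rw [Subgroup.nontrivial_iff_ne_bot] at hcn
    exact hcn h
  · exact hna (Subgroup.center_eq_top_iff.mp h)

/-- the unique coatom over `R` contains every proper subgroup over `R`. -/
theorem le_of_unique_coatom [Finite G] (R M : Subgroup G)
    (hM : ∀ M' : Subgroup G, IsCoatom M' ∧ R ≤ M' → M' = M) (H : Subgroup G) (hH : H ≠ ⊤)
    (hRH : R ≤ H) : H ≤ M := by
  obtain ⟨M', hM'co, hHM'⟩ := exists_coatom_ge H hH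
  rw [← hM M' ⟨hM'co, hRH.trans hHM'⟩]
  exact hHM'

theorem sylow_coe_smul {r : ℕ} (R : Sylow r G) (g : G) :
    ((g • R : Sylow r G) : Subgroup G) = MulAut.conj g • (R : Subgroup G) := rfl

/-- transfer of `∃!` maximal overgroup along conjugation. -/
theorem unique_coatom_conj (R : Subgroup G) (g : G)
    (huniq : ∃! M : Subgroup G, IsCoatom M ∧ R ≤ M) :
    ∃! M : Subgroup G, IsCoatom M ∧ MulAut.conj g • R ≤ M := by
  obtain ⟨M, ⟨hMco, hRM⟩, hMuniq⟩ := huniq
  refine ⟨MulAut.conj g • M, ⟨isCoatom_conj_smul g M hMco,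
    Subgroup.pointwise_smul_le_pointwise_smul_iff.mpr hRM⟩, ?_⟩
  rintro M' ⟨hM'co, hM'⟩
  have h1 : IsCoatom ((MulAut.conj g)⁻¹ • M') := by
    rw [← map_inv]; exact isCoatom_conj_smul g⁻¹ M' hM'co
  have h2 : R ≤ (MulAut.conj g)⁻¹ • M' := by
    rwa [← Subgroup.pointwise_smul_subset_iff]
  have h3 := hMuniq _ ⟨h1, h2⟩
  rw [← h3, smul_inv_smul]

theorem inf_normal_conj (R T : Subgroup G) [T.Normal] (g : G) :
    (MulAut.conj g • R) ⊓ T = MulAut.conj g • (R ⊓ T) := by
  rw [Subgroup.smul_inf, Subgroup.Normal.conj_smul_eq_self g T]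

theorem conj_smul_eq_bot_iff (g : G) (A : Subgroup G) : MulAut.conj g • A = ⊥ ↔ A = ⊥ := by
  constructor
  · intro h
    have : (MulAut.conj g)⁻¹ • (MulAut.conj g • A) = (MulAut.conj g)⁻¹ • ⊥ := by rw [h]
    rw [inv_smul_smul, Subgroup.smul_bot] at this
    exact this
  · rintro rfl
    exact Subgroup.smul_bot _

/-- A Sylow subgroup meeting a normal non-abelian simple subgroup nontrivially is not normal. -/
theorem sylow_not_normal_of_inf_simple [Finite G] (T : Subgroup G) [T.Normal] (hT : IsSimpleGroup T)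
    (hna : ¬ IsMulCommutative T) {r : ℕ} [Fact r.Prime] (D : Subgroup G) (hD : IsPGroup r D)
    (hDT : D ≤ T) (hD0 : D ≠ ⊥) : ¬ D.Normal := by
  intro hn
  have hn' : (D.subgroupOf T).Normal := inferInstance
  rcases hn'.eq_bot_or_eq_top with h | h
  · rw [Subgroup.subgroupOf_eq_bot, disjoint_iff, inf_of_le_left hDT] at h
    exact hD0 h
  · rw [Subgroup.subgroupOf_eq_top] at h
    exact not_isPGroup_of_simple_noncomm hT hna r (hD.to_le h)

end Cfsg.Agent.Lib.Helper69
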