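import Cfsg.Agent.Lib.Helper91.BGFusion
import Cfsg.Agent.Lib.Helper31.BenderFit
import Cfsg.Agent.Lib.Helper01.Coprime
import Cfsg.Agent.Lib.Helper06.SylowAux
import Cfsg.Agent.S1410

/-!
# K-S1416-K7c (BG 12.4, end of step 4)

If `N_G(P) = O_{p'}(C_G(P)) ⊔ (N_G(P) ⊓ M)` for a Sylow `p`-subgroup `P` of the maximal subgroup `M`
and `M'` is nilpotent, then `p ∈ σ(M)`.
-/

set_option autoImplicit false

namespace Cfsg.Agent.Lib.Helper69.BG124

open Cfsg
open scoped commutatorElement

variable {G : Type*} [Group G] [Finite G]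

/-- a `p`-power dividing the order of a group divides the order of a Sylow `p`-subgroup. -/
theorem pow_dvd_card_sylow {H : Type*} [Group H] [Finite H] {p : ℕ} [Fact p.Prime] (P : Sylow p H)
    {k : ℕ} (h : p ^ k ∣ Nat.card H) : p ^ k ∣ Nat.card (P : Subgroup H) := by
  have hp : p.Prime := Fact.out
  rw [Sylow.card_eq_multiplicity P]
  have h0 : Nat.card H ≠ 0 := Nat.card_pos.ne'
  exact pow_dvd_pow p ((hp.pow_dvd_iff_le_factorization h0).mp h)

/-- in a nilpotent finite group every `p`-element lies in every Sylow `p`-subgroup. -/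
theorem mem_sylow_of_nilpotent {D : Type*} [Group D] [Finite D] [Group.IsNilpotent D] {p : ℕ}
    [Fact p.Prime] (S : Sylow p D) {y : D} (hy : IsPGroup p (Subgroup.zpowers y)) :
    y ∈ (S : Subgroup D) := by
  have htfae : Group.IsNilpotent D ↔ ∀ (q : ℕ), Fact (Nat.Prime q) → ∀ (Q : Sylow q D),
      (Q : Subgroup D).Normal := (Group.isNilpotent_of_finite_tfae (G := D)).out 0 3
  have hn : (S : Subgroup D).Normal := htfae.mp ‹Group.IsNilpotent D› p ‹Fact p.Prime› S
  obtain ⟨S', hS'⟩ := hy.exists_le_sylow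
  have huniq : Unique (Sylow p D) := Sylow.unique_of_normal S hn
  have : S' = S := Subsingleton.elim _ _
  rw [← this]
  exact hS' (Subgroup.mem_zpowers y)

variable {M A : Subgroup G} {p : ℕ} [Fact p.Prime]

/-- K-S1416-K7c. -/
theorem mem_sigma_of_normalizer_eq (hG : IsMinSimpleOddOrder G) (hM : IsCoatom M) (hAM : A ≤ M)
    (hA2 : Nat.card A = p ^ 2) (P : Sylow p M) (hAP : A ≤ (P : Subgroup M).map M.subtype)
    (hN : Subgroup.normalizer ((((P : Subgroup M).map M.subtype : Subgroup G)) : Set G) =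
      piCoreOf (primesNotDvd (Nat.card A))
          (Subgroup.centralizer ((((P : Subgroup M).map M.subtype : Subgroup G)) : Set G)) ⊔
        (Subgroup.normalizer ((((P : Subgroup M).map M.subtype : Subgroup G)) : Set G) ⊓ M))
    (hnil : Group.IsNilpotent ↥⁅M, M⁆) : p ∈ sigma M := by
  classical
  have hp : p.Prime := Fact.out
  set PG : Subgroup G := (P : Subgroup M).map M.subtype with hPG
  set N : Subgroup G := Subgroup.normalizer (PG : Set G) with hNdef
  set C : Subgroup G := Subgroup.centralizer (PG : Set G) with hCdef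
  set KP : Subgroup G := piCoreOf (primesNotDvd (Nat.card A)) C with hKP
  set X : Subgroup G := N ⊓ M with hX
  have hPGp : IsPGroup p PG := P.2.map M.subtype
  have hPGM : PG ≤ M := Subgroup.map_subtype_le _
  have hPGN : PG ≤ N := Subgroup.le_normalizer
  have hA1 : A ≠ ⊥ := by
    intro h
    rw [h, Subgroup.card_bot] at hA2
    have : 1 < p ^ 2 := Nat.one_lt_pow two_ne_zero hp.one_lt
    omega
  have hPG1 : PG ≠ ⊥ := by
    intro h
    exact hA1 (le_bot_iff.mp (h ▸ hAP))
  have hcardPG : Nat.card PG = Nat.card (P : Subgroup M) :=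
    Subgroup.card_map_of_injective M.subtype_injective
  -- facts on `KP`
  have hKPC : KP ≤ C := Cfsg.Agent.Lib.Helper31.piCoreOf_le _ C
  have hcop : (Nat.card A).Coprime (Nat.card KP) :=
    Cfsg.Agent.Lib.Helper31.coprime_card_piCoreOf A C
  have hpKP : (p ^ 2).Coprime (Nat.card KP) := hA2 ▸ hcop
  have hNC : N ≤ Subgroup.normalizer (C : Set G) := by
    apply Cfsg.Agent.Lib.Helper31.BenderFit.le_normalizer_of_conj_mem
    intro g hg c hc
    rw [hCdef, Subgroup.mem_centralizer_iff] at hc ⊢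
    intro u hu
    have hu' : g⁻¹ * u * g ∈ PG := by
      have := (Subgroup.mem_normalizer_iff.mp (N.inv_mem hg) u).mp hu
      simpa using this
    have h1 := hc _ hu'
    -- (g⁻¹ u g) c = c (g⁻¹ u g)
    calc u * (g * c * g⁻¹) = g * ((g⁻¹ * u * g) * c) * g⁻¹ := by group
      _ = g * (c * (g⁻¹ * u * g)) * g⁻¹ := by rw [h1]
      _ = g * c * g⁻¹ * u := by group
  have hNKP : N ≤ Subgroup.normalizer (KP : Set G) :=
    le_trans hNC (Cfsg.Agent.Lib.Helper31.BenderFit.normalizer_le_normalizer_piCoreOf _ C)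
  have hXN : X ≤ N := inf_le_left
  have hXM : X ≤ M := inf_le_right
  have hXKP : X ≤ Subgroup.normalizer (KP : Set G) := le_trans hXN hNKP
  have hNeq : N = KP ⊔ X := hN
  -- order formula
  have hcard : Nat.card N * Nat.card (KP ⊓ X : Subgroup G) = Nat.card KP * Nat.card X := by
    have := Cfsg.Agent.Lib.Helper01.card_sup_mul_card_inf_of_le_normalizer KP X hXKP
    rw [sup_comm] at this
    rw [hNeq]
    exact this
  -- every `p`-subgroup of `N` has order dividing `|PG|`
  have hQ : ∀ Q : Subgroup G, IsPGroup p Q → Q ≤ N → Nat.card Q ∣ Nat.card PG := by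
    intro Q hQp hQN
    obtain ⟨k, hk⟩ := IsPGroup.iff_card.mp hQp
    have h1 : Nat.card Q ∣ Nat.card N := Subgroup.card_dvd_of_le hQN
    have h2 : Nat.card Q ∣ Nat.card KP * Nat.card X := by
      rw [← hcard]
      exact dvd_mul_of_dvd_left h1 _
    have h3 : (Nat.card Q).Coprime (Nat.card KP) := by
      rw [hk]
      exact Nat.Coprime.pow_left k
        (Nat.Coprime.coprime_dvd_left (dvd_pow_self p two_ne_zero) hpKP)
    have h4 : Nat.card Q ∣ Nat.card X := h3.dvd_of_dvd_mul_left h2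
    have h5 : Nat.card Q ∣ Nat.card M := dvd_trans h4 (Subgroup.card_dvd_of_le hXM)
    rw [hcardPG]
    rw [hk] at h5 ⊢
    exact pow_dvd_card_sylow P h5
  -- `PG` is a Sylow `p`-subgroup of `G`
  obtain ⟨Phat, hPhat⟩ := hPGp.exists_le_sylow
  have hPhat_eq : (Phat : Subgroup G) = PG := by
    by_contra hne
    have hlt : PG < (Phat : Subgroup G) := lt_of_le_of_ne hPhat (Ne.symm hne)
    obtain ⟨y, hyP, hyn, hyN⟩ :=
      Cfsg.Agent.Lib.Helper06.exists_mem_normalizer_not_mem_of_lt Phat.2 hlt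
    set Q : Subgroup G := PG ⊔ Subgroup.zpowers y with hQdef
    have hQle : Q ≤ (Phat : Subgroup G) :=
      sup_le hPhat (by rw [Subgroup.zpowers_le]; exact hyP)
    have hQp : IsPGroup p Q := Phat.2.to_le hQle
    have hQN : Q ≤ N := sup_le hPGN (by rw [Subgroup.zpowers_le]; exact hyN)
    have hdvd := hQ Q hQp hQN
    have hle : Nat.card Q ≤ Nat.card PG := Nat.le_of_dvd Nat.card_pos hdvd
    have hPQ : PG ≤ Q := le_sup_left
    have hEq : PG = Q := by
      have hcle : Nat.card PG ≤ Nat.card Q := Nat.le_of_dvd Nat.card_pos (Subgroup.card_dvd_of_le hPQ)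
      exact Subgroup.eq_of_le_of_card_ge hPQ hle
    apply hyn
    rw [hEq]
    exact (le_sup_right : Subgroup.zpowers y ≤ Q) (Subgroup.mem_zpowers y)
  -- `PG ≤ [PG, N]`
  have hloc : Cfsg.Agent.Lib.Helper91.BGFusion.LocCtl p G :=
    Cfsg.Agent.Lib.Helper91.BGFusion.ms_locCtl hG (fun H hH => Cfsg.Agent.S1410.result hG p H hH)
  have h1 := Cfsg.Agent.Lib.Helper91.BGFusion.sylow_le_commutator_normalizer hloc Phat
    (Cfsg.Agent.Lib.Helper91.BGFusion.ms_perfect hG)
  rw [hPhat_eq] at h1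
  -- `[PG, N] ≤ [M, M]`
  have h2 : ⁅PG, N⁆ ≤ ⁅M, M⁆ := by
    rw [Subgroup.commutator_le]
    intro u hu n hn
    have hn' : n ∈ ((KP ⊔ X : Subgroup G) : Set G) := by
      rw [← hNeq]; exact hn
    rw [Subgroup.coe_mul_of_right_le_normalizer_left KP X hXKP] at hn'
    obtain ⟨k, hk, x, hx, rfl⟩ := hn'
    have hkC : k ∈ C := hKPC hk
    rw [hCdef, Subgroup.mem_centralizer_iff] at hkC
    have hxN : x ∈ N := hXN hx
    have hxu : x * u⁻¹ * x⁻¹ ∈ PG :=
      (Subgroup.mem_normalizer_iff.mp hxN u⁻¹).mp (PG.inv_mem hu)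
    have hcomm : u * x * u⁻¹ * x⁻¹ ∈ PG := by
      have := PG.mul_mem hu hxu
      simpa [mul_assoc] using this
    have e1 := hkC u hu
    have e2 := hkC _ hcomm
    have : ⁅u, k * x⁆ = ⁅u, x⁆ := by
      rw [commutatorElement_def, commutatorElement_def]
      calc u * (k * x) * u⁻¹ * (k * x)⁻¹ = (u * k) * (x * u⁻¹ * x⁻¹) * k⁻¹ := by group
        _ = (k * u) * (x * u⁻¹ * x⁻¹) * k⁻¹ := by rw [e1]
        _ = k * (u * x * u⁻¹ * x⁻¹) * k⁻¹ := by group
        _ = (u * x * u⁻¹ * x⁻¹) * k * k⁻¹ := by rw [← e2]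
        _ = u * x * u⁻¹ * x⁻¹ := by group
    rw [this]
    exact Subgroup.commutator_mem_commutator (hPGM hu) (hXM hx)
  have hPGD : PG ≤ ⁅M, M⁆ := le_trans h1 h2
  -- `M` normalizes `PG`
  set D : Subgroup G := ⁅M, M⁆ with hD
  have hDM : D ≤ M := Subgroup.commutator_le.mpr (fun a ha b hb =>
    M.mul_mem (M.mul_mem (M.mul_mem ha hb) (M.inv_mem ha)) (M.inv_mem hb))
  have hDnil : Group.IsNilpotent ↥D := hnil
  -- the Sylow `p`-subgroup of `D` given by `PG`
  have hconj : ∀ m ∈ M, ∀ x ∈ PG, m * x * m⁻¹ ∈ PG := by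
    intro m hm x hx
    have hxD : x ∈ D := hPGD hx
    have hyD : m * x * m⁻¹ ∈ D := by
      have hc : ⁅m, x⁆ ∈ D := Subgroup.commutator_mem_commutator hm (hPGM hx)
      have : m * x * m⁻¹ = ⁅m, x⁆ * x := by
        rw [commutatorElement_def]; group
      rw [this]
      exact D.mul_mem hc hxD
    -- Sylow subgroup of `D`
    let S : Sylow p D := Phat.subtype (by rw [hPhat_eq]; exact hPGD)
    have hmem : (⟨m * x * m⁻¹, hyD⟩ : D) ∈ (S : Subgroup D) := by
      apply mem_sylow_of_nilpotent S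
      -- the cyclic group generated is a `p`-group
      have hxo : ∃ k : ℕ, x ^ p ^ k = 1 := by
        obtain ⟨k, hk⟩ := hPGp ⟨x, hx⟩
        exact ⟨k, by simpa using congrArg Subtype.val hk⟩
      obtain ⟨k, hk⟩ := hxo
      have hyk : (⟨m * x * m⁻¹, hyD⟩ : D) ^ p ^ k = 1 := by
        apply Subtype.ext
        simp only [Subgroup.coe_pow, Subgroup.coe_one]
        rw [conj_pow, hk, mul_one, mul_inv_cancel]
      intro z
      obtain ⟨j, hj⟩ := Subgroup.mem_zpowers_iff.mp z.2
      refine ⟨k, ?_⟩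
      apply Subtype.ext
      simp only [Subgroup.coe_pow, Subgroup.coe_one]
      rw [← hj, ← zpow_natCast, ← zpow_mul, mul_comm, zpow_mul, zpow_natCast, hyk, one_zpow]
    have : m * x * m⁻¹ ∈ (Phat : Subgroup G) := by
      have := hmem
      rw [Sylow.coe_subtype, Subgroup.mem_subgroupOf] at this
      exact this
    rw [hPhat_eq] at this
    exact this
  have hMN : M ≤ N := Cfsg.Agent.Lib.Helper31.BenderFit.le_normalizer_of_conj_mem hconj
  have hNtop : N ≠ ⊤ :=
    Cfsg.Agent.Lib.Helper91.BGFusion.ms_normalizer_ne_top_of_pgroup hG hPG1 hPGp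
  have hNM : N = M := by
    rcases eq_or_lt_of_le hMN with h | h
    · exact h.symm
    · exact absurd (hM.2 N h) hNtop
  refine ⟨hp, ?_, P, ?_⟩
  · have h1 : p ∣ Nat.card A := by rw [hA2]; exact dvd_pow_self p two_ne_zero
    exact dvd_trans h1 (Subgroup.card_dvd_of_le hAM)
  · exact hNM.le

end Cfsg.Agent.Lib.Helper69.BG124
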