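import Mathlib

/-! Definitions for pack K-BQ2 (S3912): property B and the condition (CM). -/

set_option autoImplicit false

namespace Cfsg.Agent.Lib.Helper69.BQ2

/-- Property B: abelian subgroups of equal order are conjugate. -/
def PropB (G : Type*) [Group G] : Prop :=
  ∀ A B : Subgroup G, IsMulCommutative ↥A → IsMulCommutative ↥B → Nat.card ↥A = Nat.card ↥B →
    ∃ g : G, B = A.map (MulAut.conj g).toMonoidHom

/-- Condition (CM): for every prime `p` dividing `card M`, every Sylow `p`-subgroup of `G` is cyclic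
or lies in `M`. -/
def CM {G : Type*} [Group G] (M : Subgroup G) : Prop :=
  ∀ (p : ℕ) [Fact p.Prime], p ∣ Nat.card ↥M → ∀ P : Sylow p G,
    IsCyclic ↥(P : Subgroup G) ∨ (P : Subgroup G) ≤ M

end Cfsg.Agent.Lib.Helper69.BQ2
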