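import Mathlib
import Cfsg.Agent.Lib.Helper69.Conj

set_option autoImplicit false

namespace Cfsg.Agent.Lib.Helper69

open scoped Pointwise

variable {G : Type*} [Group G]

/-- `𝓐` is a cover of `G` by proper subgroups with the least possible number of members,
all of whose members are nilpotent. (Same shape as in the statements.) -/
def IsNilMinCover (𝓐 : Finset (Subgroup G)) : Prop :=
  ((∀ A ∈ 𝓐, A ≠ ⊤) ∧ (∀ g : G, ∃ A ∈ 𝓐, g ∈ A)) ∧
    (∀ 𝓑 : Finset (Subgroup G), (∀ A ∈ 𝓑, A ≠ ⊤) ∧ (∀ g : G, ∃ A ∈ 𝓑, g ∈ A) → 𝓐.card ≤ 𝓑.card) ∧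
    (∀ A ∈ 𝓐, Group.IsNilpotent ↥A)

/-- The replacement trick: a proper subgroup contains at most one member of a minimal cover. -/
theorem cover_unique_le {𝓐 : Finset (Subgroup G)} (h𝓐 : IsNilMinCover 𝓐) (M : Subgroup G)
    (hM : M ≠ ⊤) (A₁ A₂ : Subgroup G) (h1 : A₁ ∈ 𝓐) (h2 : A₂ ∈ 𝓐) (h1M : A₁ ≤ M) (h2M : A₂ ≤ M) :
    A₁ = A₂ := by
  classical
  by_contra hne
  obtain ⟨⟨hprop, hcov⟩, hmin, -⟩ := h𝓐
  set 𝓑 : Finset (Subgroup G) := insert M ((𝓐.erase A₁).erase A₂) with h𝓑
  have hB : (∀ A ∈ 𝓑, A ≠ ⊤) ∧ (∀ g : G, ∃ A ∈ 𝓑, g ∈ A) := by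
    constructor
    · intro A hA
      rw [h𝓑, Finset.mem_insert] at hA
      rcases hA with rfl | hA
      · exact hM
      · exact hprop A (Finset.mem_of_mem_erase (Finset.mem_of_mem_erase hA))
    · intro g
      obtain ⟨A, hA, hgA⟩ := hcov g
      by_cases hA1 : A = A₁
      · exact ⟨M, Finset.mem_insert_self _ _, h1M (hA1 ▸ hgA)⟩
      by_cases hA2 : A = A₂
      · exact ⟨M, Finset.mem_insert_self _ _, h2M (hA2 ▸ hgA)⟩
      · refine ⟨A, ?_, hgA⟩
        rw [h𝓑, Finset.mem_insert]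
        right
        exact Finset.mem_erase.mpr ⟨hA2, Finset.mem_erase.mpr ⟨hA1, hA⟩⟩
  have hcard := hmin 𝓑 hB
  have h2' : A₂ ∈ 𝓐.erase A₁ := Finset.mem_erase.mpr ⟨fun h => hne h.symm, h2⟩
  have hc1 : ((𝓐.erase A₁).erase A₂).card = 𝓐.card - 1 - 1 := by
    rw [Finset.card_erase_of_mem h2', Finset.card_erase_of_mem h1]
  have hc2 : 𝓑.card ≤ ((𝓐.erase A₁).erase A₂).card + 1 := Finset.card_insert_le _ _
  have hc3 : 2 ≤ 𝓐.card := by
    have : ({A₁, A₂} : Finset (Subgroup G)) ⊆ 𝓐 := by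
      intro x hx
      rw [Finset.mem_insert, Finset.mem_singleton] at hx
      rcases hx with rfl | rfl <;> assumption
    have := Finset.card_le_card this
    rwa [Finset.card_pair hne] at this
  omega

/-- An abelian Sylow subgroup of a finite nilpotent group is central. -/
theorem sylow_le_center_of_nilpotent {H : Type*} [Group H] [Finite H] [Group.IsNilpotent H]
    {p : ℕ} [hp : Fact p.Prime] (S : Sylow p H) (hS : IsMulCommutative ↥(S : Subgroup H)) :
    (S : Subgroup H) ≤ Subgroup.center H := by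
  set C := Subgroup.centralizer ((S : Subgroup H) : Set H) with hC
  have hSC : (S : Subgroup H) ≤ C := Subgroup.le_centralizer_iff_isMulCommutative.mpr hS
  have hCtop : C = ⊤ := by
    rw [← Subgroup.index_eq_one]
    by_contra hne
    obtain ⟨q, hq, hqd⟩ := Nat.exists_prime_and_dvd hne
    have : Fact q.Prime := ⟨hq⟩
    let Q : Sylow q H := default
    have hQC : (Q : Subgroup H) ≤ C := by
      by_cases hqp : q = p
      · subst hqp
        obtain ⟨h, hh⟩ := MulAction.exists_smul_eq H S Q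
        rw [Sylow.smul_eq_of_normal] at hh
        rw [← hh]; exact hSC
      · have hdis : Disjoint (Q : Subgroup H) (S : Subgroup H) :=
          IsPGroup.disjoint_of_ne q p hqp _ _ Q.isPGroup' S.isPGroup'
        intro x hx
        rw [hC, Subgroup.mem_centralizer_iff]
        intro s hs
        exact (Subgroup.commute_of_normal_of_disjoint _ _ inferInstance inferInstance hdis x s hx hs).eq.symm
    exact Q.not_dvd_index (hqd.trans (Subgroup.index_dvd_of_le hQC))
  intro x hx
  rw [Subgroup.mem_center_iff]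
  intro g
  have hg : g ∈ C := by rw [hCtop]; exact Subgroup.mem_top g
  rw [hC, Subgroup.mem_centralizer_iff] at hg
  exact (hg x hx).symm

/-- p-subgroups of the normalizer of a Sylow subgroup lie in the Sylow subgroup. -/
theorem le_sylow_of_le_normalizer {p : ℕ} [Fact p.Prime] (P : Sylow p G) (K : Subgroup G)
    (hK : IsPGroup p K) (hKN : K ≤ Subgroup.normalizer ((P : Subgroup G) : Set G)) :
    K ≤ (P : Subgroup G) := by
  have h := hK.inf_normalizer_sylow P
  have h1 : K ⊓ Subgroup.normalizer ((P : Subgroup G) : Set G) = K := inf_eq_left.mpr hKN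
  have h2 : K ⊓ (P : Subgroup G) = K := by
    rw [← h]; exact h1
  exact inf_eq_left.mp h2

/-- p-elements of the normalizer of a Sylow subgroup lie in the Sylow subgroup. -/
theorem mem_sylow_of_mem_normalizer {p : ℕ} [Fact p.Prime] (P : Sylow p G) (u : G) (k : ℕ)
    (hu : orderOf u = p ^ k) (huN : u ∈ Subgroup.normalizer ((P : Subgroup G) : Set G)) :
    u ∈ (P : Subgroup G) := by
  have hK : IsPGroup p (Subgroup.zpowers u) := by
    apply IsPGroup.of_card (n := k)
    rw [Nat.card_zpowers, hu]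
  exact le_sylow_of_le_normalizer P _ hK (Subgroup.zpowers_le.mpr huN) (Subgroup.mem_zpowers u)

/-- Claim X: in a group all of whose Sylow `p`-subgroups are abelian, a nilpotent subgroup
centralizes each of its `p`-elements. -/
theorem le_centralizer_of_mem_nilpotent [Finite G] {p : ℕ} [Fact p.Prime]
    (habel : ∀ Q : Sylow p G, IsMulCommutative ↥(Q : Subgroup G)) (B : Subgroup G)
    (hB : Group.IsNilpotent ↥B) (u : G) (huB : u ∈ B) (k : ℕ) (hu : orderOf u = p ^ k) :
    B ≤ Subgroup.centralizer ({u} : Set G) := by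
  let S : Sylow p ↥B := default
  have hSn : (S : Subgroup ↥B).Normal := inferInstance
  have hu' : orderOf (⟨u, huB⟩ : ↥B) = p ^ k := by
    rw [← hu]; exact Subgroup.orderOf_mk u huB
  have huS : (⟨u, huB⟩ : ↥B) ∈ (S : Subgroup ↥B) := by
    apply mem_sylow_of_mem_normalizer S _ k hu'
    rw [Subgroup.normalizer_eq_top_iff.mpr hSn]
    exact Subgroup.mem_top _
  obtain ⟨Q, hQ⟩ := (S.isPGroup'.map B.subtype).exists_le_sylow
  have hScomm : IsMulCommutative ↥(S : Subgroup ↥B) := by
    refine ⟨⟨?_⟩⟩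
    rintro ⟨a, ha⟩ ⟨b, hb⟩
    apply Subtype.ext
    apply Subtype.ext
    have haQ : (a : G) ∈ (Q : Subgroup G) := hQ ⟨a, ha, rfl⟩
    have hbQ : (b : G) ∈ (Q : Subgroup G) := hQ ⟨b, hb, rfl⟩
    have := (habel Q).is_comm.comm ⟨a, haQ⟩ ⟨b, hbQ⟩
    simpa using congrArg Subtype.val this
  have hcen := sylow_le_center_of_nilpotent S hScomm huS
  rw [Subgroup.mem_center_iff] at hcen
  intro b hb
  rw [Subgroup.mem_centralizer_singleton_iff]
  have := hcen ⟨b, hb⟩
  have h2 := congrArg Subtype.val this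
  simpa using h2

end Cfsg.Agent.Lib.Helper69
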