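import Mathlib
import Cfsg.Agent.Lib.Helper69.Cover

set_option autoImplicit false

namespace Cfsg.Agent.Lib.Helper69

open scoped Pointwise

variable {G : Type*} [Group G]

theorem sylow_comm_of_comm [Finite G] {p : ℕ} [Fact p.Prime] (P : Sylow p G)
    (hab : IsMulCommutative ↥(P : Subgroup G)) (Q : Sylow p G) :
    IsMulCommutative ↥(Q : Subgroup G) := by
  let e := Sylow.equiv Q P
  refine ⟨⟨fun a b => ?_⟩⟩
  apply e.injective
  rw [map_mul, map_mul]
  exact hab.is_comm.comm _ _

/-- tool T: two members of the cover sharing a nontrivial `p`-element coincide. -/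
theorem cover_eq_of_common_pelt [Finite G] {p : ℕ} [Fact p.Prime] (hZ : Subgroup.center G = ⊥)
    {𝓐 : Finset (Subgroup G)} (h𝓐 : IsNilMinCover 𝓐)
    (habel : ∀ Q : Sylow p G, IsMulCommutative ↥(Q : Subgroup G))
    (B B' : Subgroup G) (hB : B ∈ 𝓐) (hB' : B' ∈ 𝓐) (u : G) (hu1 : u ≠ 1) (k : ℕ)
    (hu : orderOf u = p ^ k) (huB : u ∈ B) (huB' : u ∈ B') : B = B' := by
  have hC : Subgroup.centralizer ({u} : Set G) ≠ ⊤ := by
    intro h
    apply hu1
    have : u ∈ Subgroup.center G := by
      rw [Subgroup.mem_center_iff]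
      intro g
      have hg : g ∈ Subgroup.centralizer ({u} : Set G) := by rw [h]; exact Subgroup.mem_top g
      rw [Subgroup.mem_centralizer_singleton_iff] at hg
      exact hg
    rw [hZ, Subgroup.mem_bot] at this
    exact this
  exact cover_unique_le h𝓐 _ hC B B' hB hB'
    (le_centralizer_of_mem_nilpotent habel B (h𝓐.2.2 B hB) u huB k hu)
    (le_centralizer_of_mem_nilpotent habel B' (h𝓐.2.2 B' hB') u huB' k hu)

/-- Core: the centralizer of a non-trivial abelian Sylow subgroup which has order `p` or is not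
elementary abelian is a member of any nilpotent minimal cover (centre trivial). -/
theorem centralizer_mem_cover [Finite G] {p : ℕ} [hp : Fact p.Prime] (hZ : Subgroup.center G = ⊥)
    {𝓐 : Finset (Subgroup G)} (h𝓐 : IsNilMinCover 𝓐) (P : Sylow p G)
    (hab : IsMulCommutative ↥(P : Subgroup G)) (hP1 : (P : Subgroup G) ≠ ⊥)
    (hcase : Nat.card ↥(P : Subgroup G) = p ∨ ∃ w : G, (∃ k : ℕ, orderOf w = p ^ k) ∧ w ^ p ≠ 1) :
    Subgroup.centralizer ((P : Subgroup G) : Set G) ∈ 𝓐 := by
  have habel := sylow_comm_of_comm P hab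
  have hcomm : ∀ u v : G, u ∈ (P : Subgroup G) → v ∈ (P : Subgroup G) → Commute u v := by
    intro u v hu hv
    have := hab.is_comm.comm ⟨u, hu⟩ ⟨v, hv⟩
    exact congrArg Subtype.val this
  have hppos : 0 < p := hp.out.pos
  have hp1 : 1 < p := hp.out.one_lt
  -- element of maximal order
  obtain ⟨y₀, hy₀⟩ := Finite.exists_max (fun w : ↥(P : Subgroup G) => orderOf w)
  obtain ⟨e, he⟩ := (IsPGroup.iff_orderOf.mp P.isPGroup') y₀
  set y : G := (y₀ : G) with hy
  have hyP : y ∈ (P : Subgroup G) := y₀.2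
  have hoy : orderOf y = p ^ e := by rw [hy, Subgroup.orderOf_coe, he]
  have hpow : ∀ w ∈ (P : Subgroup G), w ^ (p ^ e) = 1 := by
    intro w hw
    obtain ⟨a, ha⟩ := (IsPGroup.iff_orderOf.mp P.isPGroup') ⟨w, hw⟩
    have hle : orderOf (⟨w, hw⟩ : ↥(P : Subgroup G)) ≤ orderOf y₀ := hy₀ ⟨w, hw⟩
    rw [ha, he] at hle
    have hae : a ≤ e := (Nat.pow_le_pow_iff_right hp1).mp hle
    have h1 : orderOf w = p ^ a := by rw [← ha]; exact (Subgroup.orderOf_mk w hw).symm
    apply orderOf_dvd_iff_pow_eq_one.mp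
    rw [h1]; exact pow_dvd_pow p hae
  have he0 : e ≠ 0 := by
    rintro rfl
    apply hP1
    rw [eq_bot_iff]
    intro w hw
    have := hpow w hw
    rw [pow_zero, pow_one] at this
    rw [Subgroup.mem_bot]; exact this
  set z : G := y ^ (p ^ (e - 1)) with hz
  have hzP : z ∈ (P : Subgroup G) := Subgroup.pow_mem _ hyP _
  have hz1 : z ≠ 1 := by
    intro h
    have := orderOf_dvd_of_pow_eq_one h
    rw [hoy] at this
    have := (Nat.pow_dvd_pow_iff_le_right hp1).mp this
    omega
  have hee : p ^ (e - 1) * p = p ^ e := by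
    rw [← pow_succ]; congr 1; omega
  have hzp : z ^ p = 1 := by
    rw [hz, ← pow_mul, hee]; exact hpow y hyP
  have hoz : orderOf z = p ^ 1 := by rw [pow_one]; exact orderOf_eq_prime hzp hz1
  -- member containing y
  obtain ⟨A, hA, hyA⟩ := h𝓐.1.2 y
  have hzA : z ∈ A := Subgroup.pow_mem _ hyA _
  have T := cover_eq_of_common_pelt hZ h𝓐 habel
  -- Lemma Z
  have lemZ : ∀ y' ∈ (P : Subgroup G), y' ^ (p ^ (e - 1)) ≠ 1 → ∀ B' ∈ 𝓐, y' ∈ B' → z ∈ B' := by
    intro y' hy'P hy'1 B' hB' hy'B'
    rcases hcase with hcard | ⟨w, ⟨k, hwk⟩, hwp⟩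
    · -- |P| = p
      have he1 : e = 1 := by
        have : orderOf y₀ ∣ Nat.card ↥(P : Subgroup G) := orderOf_dvd_natCard y₀
        rw [he, hcard] at this
        have h2 : p ^ e ∣ p ^ 1 := by simpa using this
        have := (Nat.pow_dvd_pow_iff_le_right hp1).mp h2
        omega
      have hy'ne : y' ≠ 1 := by
        intro h
        apply hy'1
        rw [h, one_pow]
      have hoy' : orderOf y' = p := by
        have h1 : orderOf (⟨y', hy'P⟩ : ↥(P : Subgroup G)) ∣ p := by
          have h0 := orderOf_dvd_natCard (⟨y', hy'P⟩ : ↥(P : Subgroup G))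
          rwa [hcard] at h0
        rw [Subgroup.orderOf_mk] at h1
        rcases (Nat.dvd_prime hp.out).mp h1 with h | h
        · exact absurd (orderOf_eq_one_iff.mp h) hy'ne
        · exact h
      have hle : Subgroup.zpowers y' ≤ (P : Subgroup G) := Subgroup.zpowers_le.mpr hy'P
      have heq : Subgroup.zpowers y' = (P : Subgroup G) :=
        Subgroup.eq_of_le_of_card_ge hle (by rw [Nat.card_zpowers, hoy', hcard])
      have : z ∈ Subgroup.zpowers y' := by rw [heq]; exact hzP
      exact (Subgroup.zpowers_le.mpr hy'B') this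
    · -- not elementary abelian
      have he2 : 2 ≤ e := by
        by_contra hlt
        have he1 : e = 1 := by omega
        have hKp : IsPGroup p (Subgroup.zpowers w) := by
          apply IsPGroup.of_card (n := k); rw [Nat.card_zpowers, hwk]
        obtain ⟨Q, hQ⟩ := hKp.exists_le_sylow
        obtain ⟨c, hc⟩ := MulAction.exists_smul_eq G P Q
        have hwQ : w ∈ (Q : Subgroup G) := hQ (Subgroup.mem_zpowers w)
        rw [← hc] at hwQ
        have hwQ' : w ∈ MulAut.conj c • (P : Subgroup G) := hwQ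
        rw [mem_conj_smul_iff] at hwQ'
        have := hpow _ hwQ'
        rw [he1, pow_one] at this
        apply hwp
        have h3 : (c⁻¹ * w * c) ^ p = c⁻¹ * w ^ p * c := by
          have := conj_pow (a := c⁻¹) (b := w) (i := p)
          simpa using this
        rw [h3] at this
        calc w ^ p = c * (c⁻¹ * w ^ p * c) * c⁻¹ := by group
          _ = 1 := by rw [this]; group
      have hzpe : z ^ (p ^ (e - 1)) = 1 := by
        have : p ^ (e - 1) = p * p ^ (e - 2) := by
          rw [← pow_succ']; congr 1; omega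
        rw [this, pow_mul, hzp, one_pow]
      have hy'zP : y' * z ∈ (P : Subgroup G) := Subgroup.mul_mem _ hy'P hzP
      have hpw : (y' * z) ^ (p ^ (e - 1)) = y' ^ (p ^ (e - 1)) := by
        rw [(hcomm y' z hy'P hzP).mul_pow, hzpe, mul_one]
      obtain ⟨B''', hB''', hyzB⟩ := h𝓐.1.2 (y' * z)
      set z' := y' ^ (p ^ (e - 1)) with hz'
      have hz'B''' : z' ∈ B''' := by rw [← hpw]; exact Subgroup.pow_mem _ hyzB _
      have hz'B' : z' ∈ B' := Subgroup.pow_mem _ hy'B' _
      have hz'p : z' ^ p = 1 := by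
        rw [hz', ← pow_mul, hee]; exact hpow y' hy'P
      have hoz' : orderOf z' = p ^ 1 := by rw [pow_one]; exact orderOf_eq_prime hz'p hy'1
      have hBB := T B''' B' hB''' hB' z' hy'1 1 hoz' hz'B''' hz'B'
      rw [hBB] at hyzB
      have : z = y'⁻¹ * (y' * z) := by group
      rw [this]
      exact Subgroup.mul_mem _ (Subgroup.inv_mem _ hy'B') hyzB
  -- Lemma Z'
  have lemZ' : ∀ y' ∈ (P : Subgroup G), y' ^ (p ^ (e - 1)) ≠ 1 → ∀ B' ∈ 𝓐, y' ∈ B' → B' = A := by
    intro y' hy'P hy'1 B' hB' hy'B'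
    exact T B' A hB' hA z hz1 1 hoz (lemZ y' hy'P hy'1 B' hB' hy'B') hzA
  -- P ≤ A
  have hPA : (P : Subgroup G) ≤ A := by
    intro w hw
    by_cases hw1 : w ^ (p ^ (e - 1)) = 1
    · have hyw : (y * w) ^ (p ^ (e - 1)) ≠ 1 := by
        rw [(hcomm y w hyP hw).mul_pow, hw1, mul_one]; exact hz1
      obtain ⟨B', hB', hywB'⟩ := h𝓐.1.2 (y * w)
      have := lemZ' (y * w) (Subgroup.mul_mem _ hyP hw) hyw B' hB' hywB'
      rw [this] at hywB'
      have e1 : w = y⁻¹ * (y * w) := by group
      rw [e1]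
      exact Subgroup.mul_mem _ (Subgroup.inv_mem _ hyA) hywB'
    · obtain ⟨B', hB', hwB'⟩ := h𝓐.1.2 w
      have := lemZ' w hw hw1 B' hB' hwB'
      rw [this] at hwB'
      exact hwB'
  -- A ≤ C(P)
  have hAnil : Group.IsNilpotent ↥A := h𝓐.2.2 A hA
  have hAC : A ≤ Subgroup.centralizer ((P : Subgroup G) : Set G) := by
    have hScomm : IsMulCommutative ↥((P.subtype hPA : Sylow p ↥A) : Subgroup ↥A) := by
      refine ⟨⟨?_⟩⟩
      rintro ⟨a, ha⟩ ⟨b, hb⟩
      apply Subtype.ext
      apply Subtype.ext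
      have ha' : (a : G) ∈ (P : Subgroup G) := ha
      have hb' : (b : G) ∈ (P : Subgroup G) := hb
      exact (hcomm a b ha' hb').eq
    have hcen := sylow_le_center_of_nilpotent (P.subtype hPA) hScomm
    intro a ha
    rw [Subgroup.mem_centralizer_iff]
    intro x hx
    have hxS : (⟨x, hPA hx⟩ : ↥A) ∈ ((P.subtype hPA : Sylow p ↥A) : Subgroup ↥A) := hx
    have := Subgroup.mem_center_iff.mp (hcen hxS) ⟨a, ha⟩
    have h2 := congrArg Subtype.val this
    simpa using h2.symm
  -- C(P) ≤ A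
  have hCA : Subgroup.centralizer ((P : Subgroup G) : Set G) ≤ A := by
    intro g hg
    have hgo : orderOf g ≠ 0 := (orderOf_pos g).ne'
    obtain ⟨a, m, hm, hgam⟩ := Nat.exists_eq_pow_mul_and_not_dvd hgo p hp1.ne'
    have hmpos : 0 < m := by
      rcases Nat.eq_zero_or_pos m with h | h
      · rw [h, mul_zero] at hgam; exact absurd hgam hgo
      · exact h
    set u := g ^ m with hu
    have hou : orderOf u = p ^ a := by
      rw [hu, orderOf_pow, hgam, Nat.gcd_eq_right (Dvd.intro_left _ rfl)]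
      exact Nat.mul_div_cancel _ hmpos
    have huC : u ∈ Subgroup.centralizer ((P : Subgroup G) : Set G) := Subgroup.pow_mem _ hg _
    have huP : u ∈ (P : Subgroup G) :=
      mem_sylow_of_mem_normalizer P u a hou (Subgroup.centralizer_le_normalizer _ huC)
    by_cases hu1 : u ^ (p ^ (e - 1)) = 1
    · have hyg : Commute y g := by
        rw [Subgroup.mem_centralizer_iff] at hg
        exact hg y hyP
      have hhm : (y * g) ^ m = y ^ m * u := by rw [hyg.mul_pow]
      have hymP : y ^ m * u ∈ (P : Subgroup G) :=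
        Subgroup.mul_mem _ (Subgroup.pow_mem _ hyP _) huP
      have hne : (y ^ m * u) ^ (p ^ (e - 1)) ≠ 1 := by
        rw [(hcomm _ _ (Subgroup.pow_mem _ hyP _) huP).mul_pow, hu1, mul_one, ← pow_mul, mul_comm,
          pow_mul]
        intro h
        have := orderOf_dvd_of_pow_eq_one h
        rw [hoz, pow_one] at this
        exact hm this
      obtain ⟨B'', hB'', hhB''⟩ := h𝓐.1.2 (y * g)
      have hmem : y ^ m * u ∈ B'' := by rw [← hhm]; exact Subgroup.pow_mem _ hhB'' _
      have := lemZ' _ hymP hne B'' hB'' hmem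
      rw [this] at hhB''
      have e1 : g = y⁻¹ * (y * g) := by group
      rw [e1]
      exact Subgroup.mul_mem _ (Subgroup.inv_mem _ hyA) hhB''
    · obtain ⟨B'', hB'', hgB''⟩ := h𝓐.1.2 g
      have := lemZ' u huP hu1 B'' hB'' (Subgroup.pow_mem _ hgB'' _)
      rw [this] at hgB''
      exact hgB''
  rw [le_antisymm hCA hAC]
  exact hA

end Cfsg.Agent.Lib.Helper69
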