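import Mathlib
import Cfsg.Agent.Lib.Helper69.CoverCore

set_option autoImplicit false

namespace Cfsg.Agent.Lib.Helper69

open scoped Pointwise

variable {G : Type*} [Group G]

theorem conj_mem_centralizer_smul {p : ℕ} (P : Sylow p G) (m c : G)
    (hc : c ∈ Subgroup.centralizer (((m • P : Sylow p G) : Subgroup G) : Set G)) :
    m⁻¹ * c * m ∈ Subgroup.centralizer ((P : Subgroup G) : Set G) := by
  rw [Subgroup.mem_centralizer_iff] at hc ⊢
  intro x hx
  have hx' : m * x * m⁻¹ ∈ ((m • P : Sylow p G) : Subgroup G) := by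
    show m * x * m⁻¹ ∈ MulAut.conj m • (P : Subgroup G)
    rw [mem_conj_smul_iff]
    have : m⁻¹ * (m * x * m⁻¹) * m = x := by group
    rw [this]; exact hx
  have := hc _ hx'
  calc x * (m⁻¹ * c * m) = m⁻¹ * ((m * x * m⁻¹) * c) * m := by group
    _ = m⁻¹ * (c * (m * x * m⁻¹)) * m := by rw [this]
    _ = m⁻¹ * c * m * x := by group

theorem centralizer_smul_le {p : ℕ} (P : Sylow p G) (M : Subgroup G) (m : G) (hm : m ∈ M)
    (hCM : Subgroup.centralizer ((P : Subgroup G) : Set G) ≤ M) :
    Subgroup.centralizer (((m • P : Sylow p G) : Subgroup G) : Set G) ≤ M := by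
  intro c hc
  have h1 := hCM (conj_mem_centralizer_smul P m c hc)
  have : c = m * (m⁻¹ * c * m) * m⁻¹ := by group
  rw [this]
  exact M.mul_mem (M.mul_mem hm h1) (M.inv_mem hm)

/-- Consequences of the core lemma. -/
theorem cover_consequences [Finite G] {p : ℕ} [hp : Fact p.Prime] (hZ : Subgroup.center G = ⊥)
    {𝓐 : Finset (Subgroup G)} (h𝓐 : IsNilMinCover 𝓐) (P : Sylow p G)
    (hab : IsMulCommutative ↥(P : Subgroup G)) (hnn : ¬ (P : Subgroup G).Normal)
    (hcase : Nat.card ↥(P : Subgroup G) = p ∨ ∃ w : G, (∃ k : ℕ, orderOf w = p ^ k) ∧ w ^ p ≠ 1) :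
    Subgroup.centralizer ((P : Subgroup G) : Set G) ∈ 𝓐 ∧
    IsCoatom (Subgroup.normalizer ((P : Subgroup G) : Set G)) ∧
    (∀ g : G, g ∉ Subgroup.normalizer ((P : Subgroup G) : Set G) →
        ¬ p ∣ Nat.card ↥(Subgroup.normalizer ((P : Subgroup G) : Set G) ⊓
          (Subgroup.normalizer ((P : Subgroup G) : Set G)).map (MulAut.conj g).toMonoidHom)) ∧
    (∀ M : Subgroup G, IsCoatom M → Subgroup.centralizer ((P : Subgroup G) : Set G) ≤ M →
        M = Subgroup.normalizer ((P : Subgroup G) : Set G)) := by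
  have habel := sylow_comm_of_comm P hab
  have hcardQ : ∀ Q : Sylow p G, Nat.card ↥(Q : Subgroup G) = Nat.card ↥(P : Subgroup G) := by
    intro Q; rw [Sylow.card_eq_multiplicity, Sylow.card_eq_multiplicity]
  have hP1 : (P : Subgroup G) ≠ ⊥ := by
    intro h
    apply hnn
    rw [h]; infer_instance
  have hQ1 : ∀ Q : Sylow p G, (Q : Subgroup G) ≠ ⊥ := by
    intro Q h
    apply hP1
    have h1 := hcardQ Q
    rw [h, Subgroup.card_bot] at h1
    exact Subgroup.card_eq_one.mp h1.symm
  have hcore : ∀ Q : Sylow p G, Subgroup.centralizer ((Q : Subgroup G) : Set G) ∈ 𝓐 := by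
    intro Q
    refine centralizer_mem_cover hZ h𝓐 Q (habel Q) (hQ1 Q) ?_
    rcases hcase with h | h
    · left; rw [hcardQ Q]; exact h
    · right; exact h
  have hinj : ∀ Q Q' : Sylow p G, Subgroup.centralizer ((Q : Subgroup G) : Set G) =
      Subgroup.centralizer ((Q' : Subgroup G) : Set G) → Q = Q' := by
    intro Q Q' h
    have h1 : (Q' : Subgroup G) ≤ Subgroup.centralizer ((Q' : Subgroup G) : Set G) :=
      Subgroup.le_centralizer_iff_isMulCommutative.mpr (habel Q')
    rw [← h] at h1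
    have h2 := le_sylow_of_le_normalizer Q _ Q'.isPGroup'
      (h1.trans (Subgroup.centralizer_le_normalizer _))
    exact Sylow.ext (Q'.is_maximal' Q.isPGroup' h2)
  have huniq : ∀ M : Subgroup G, M ≠ ⊤ → ∀ Q Q' : Sylow p G,
      Subgroup.centralizer ((Q : Subgroup G) : Set G) ≤ M →
      Subgroup.centralizer ((Q' : Subgroup G) : Set G) ≤ M → Q = Q' := by
    intro M hM Q Q' h1 h2
    exact hinj Q Q' (cover_unique_le h𝓐 M hM _ _ (hcore Q) (hcore Q') h1 h2)
  set N := Subgroup.normalizer ((P : Subgroup G) : Set G) with hN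
  have hNtop : N ≠ ⊤ := by
    rw [hN, Ne, Subgroup.normalizer_eq_top_iff]; exact hnn
  have hCN : Subgroup.centralizer ((P : Subgroup G) : Set G) ≤ N :=
    Subgroup.centralizer_le_normalizer _
  have hle_of : ∀ M : Subgroup G, M ≠ ⊤ → Subgroup.centralizer ((P : Subgroup G) : Set G) ≤ M →
      M ≤ N := by
    intro M hM hCM m hm
    have h1 := centralizer_smul_le P M m hm hCM
    have h2 := huniq M hM (m • P) P h1 hCM
    exact Sylow.smul_eq_iff_mem_normalizer.mp h2
  refine ⟨hcore P, ⟨hNtop, ?_⟩, ?_, ?_⟩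
  · intro M hNM
    by_contra hM
    exact hNM.not_ge (hle_of M hM (hCN.trans hNM.le))
  · intro g hg hdvd
    haveI : Fintype ↥(N ⊓ N.map (MulAut.conj g).toMonoidHom) := Fintype.ofFinite _
    obtain ⟨w, hw⟩ := exists_prime_orderOf_dvd_card' (G := ↥(N ⊓ N.map (MulAut.conj g).toMonoidHom)) p hdvd
    have hwo : orderOf (w : G) = p ^ 1 := by rw [pow_one, Subgroup.orderOf_coe, hw]
    have hw1 : (w : G) ≠ 1 := by
      intro h
      rw [h, orderOf_one, pow_one] at hwo
      exact hp.out.one_lt.ne hwo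
    have hwP : (w : G) ∈ (P : Subgroup G) := mem_sylow_of_mem_normalizer P _ 1 hwo w.2.1
    obtain ⟨n, hnN, hnw⟩ := w.2.2
    have hno : orderOf n = p ^ 1 := by
      rw [← hwo, ← hnw]
      exact (MulEquiv.orderOf_eq (MulAut.conj g) n).symm
    have hnP : n ∈ (P : Subgroup G) := mem_sylow_of_mem_normalizer P _ 1 hno hnN
    have hwQ : (w : G) ∈ ((g • P : Sylow p G) : Subgroup G) := by
      show (w : G) ∈ MulAut.conj g • (P : Subgroup G)
      rw [← hnw]
      exact Subgroup.smul_mem_pointwise_smul n (MulAut.conj g) _ hnP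
    have hC : Subgroup.centralizer ({(w : G)} : Set G) ≠ ⊤ := by
      intro h
      apply hw1
      have : (w : G) ∈ Subgroup.center G := by
        rw [Subgroup.mem_center_iff]
        intro x
        have hx : x ∈ Subgroup.centralizer ({(w : G)} : Set G) := by rw [h]; exact Subgroup.mem_top x
        rw [Subgroup.mem_centralizer_singleton_iff] at hx
        exact hx
      rw [hZ, Subgroup.mem_bot] at this
      exact this
    have h1 : Subgroup.centralizer ((P : Subgroup G) : Set G) ≤ Subgroup.centralizer ({(w : G)} : Set G) :=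
      Subgroup.centralizer_le (Set.singleton_subset_iff.mpr hwP)
    have h2 : Subgroup.centralizer (((g • P : Sylow p G) : Subgroup G) : Set G) ≤
        Subgroup.centralizer ({(w : G)} : Set G) :=
      Subgroup.centralizer_le (Set.singleton_subset_iff.mpr hwQ)
    have h3 := huniq _ hC (g • P) P h2 h1
    exact hg (Sylow.smul_eq_iff_mem_normalizer.mp h3)
  · intro M hM hCM
    have h1 := hle_of M hM.1 hCM
    rcases eq_or_lt_of_le h1 with h | h
    · exact h
    · exact absurd (hM.2 N h) hNtop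

end Cfsg.Agent.Lib.Helper69
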