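import Mathlib
import Cfsg.Agent.Lib.Helper78.MaxClass2Nilpotent
import Cfsg.Agent.Lib.Helper75.CycMaxCount
import Cfsg.Agent.Lib.Helper03.PGroupFrattini
import Cfsg.Agent.Lib.Helper68.AbelianIndexP

set_option autoImplicit false

universe u

/-!
# 2-groups with a cyclic subgroup of index two

Setting: `c` generates a subgroup of index two and order `2 ^ (m' + 2)`, `x ∉ ⟨c⟩`,
`x c x⁻¹ = c ^ r`, `x x = c ^ s`.  We compute the number of cyclic subgroups of index two, decide
when the group has `|G : G'| = 4`, and derive the consequences for groups of maximal class.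
-/

namespace Cfsg.Agent.Lib.Helper69.CycMax2

open Subgroup
open scoped commutatorElement

variable {G : Type u} [Group G]

theorem conj_pow_eq (x c : G) (r k : ℕ) (h : x * c * x⁻¹ = c ^ r) :
    x * c ^ k * x⁻¹ = c ^ (r * k) := by
  rw [← conj_pow, h, ← pow_mul]

theorem sq_formula (x c : G) (r s k : ℕ) (h : x * c * x⁻¹ = c ^ r) (hs : x * x = c ^ s) :
    (x * c ^ k) * (x * c ^ k) = c ^ (s + k * (r + 1)) := by
  have h1 := conj_pow_eq x c r k h
  calc (x * c ^ k) * (x * c ^ k) = (x * c ^ k * x⁻¹) * (x * x) * c ^ k := by group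
    _ = c ^ (r * k) * c ^ s * c ^ k := by rw [h1, hs]
    _ = c ^ (s + k * (r + 1)) := by rw [← pow_add, ← pow_add]; congr 1; ring

theorem mem_or_exists [Finite G] (c x : G) (hidx : (zpowers c).index = 2) (hx : x ∉ zpowers c)
    (g : G) : g ∈ zpowers c ∨ ∃ k : ℕ, g = x * c ^ k := by
  rcases Cfsg.Agent.Lib.Helper78.mem_or_inv_mul_mem (zpowers c) hidx x hx g with h | h
  · exact Or.inl h
  · right
    rw [← mem_powers_iff_mem_zpowers] at h
    obtain ⟨k, hk⟩ := h
    refine ⟨k, ?_⟩
    have hk' : c ^ k = x⁻¹ * g := hk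
    rw [hk']; group

theorem card_eq [Finite G] (c : G) (m : ℕ) (hidx : (zpowers c).index = 2)
    (hord : orderOf c = 2 ^ m) : Nat.card G = 2 ^ (m + 1) := by
  have := (zpowers c).card_mul_index
  rw [hidx, Nat.card_zpowers, hord] at this
  rw [← this, pow_succ]

theorem card_zpowers_of_order [Finite G] (g : G) (m : ℕ) (hg : orderOf g = 2 ^ m) :
    Nat.card (zpowers g) = 2 ^ m := by
  rw [Nat.card_zpowers, hg]

theorem index_two_of_order [Finite G] (g : G) (m : ℕ) (hcard : Nat.card G = 2 ^ (m + 1))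
    (hg : orderOf g = 2 ^ m) : (zpowers g).index = 2 := by
  have := (zpowers g).card_mul_index
  rw [card_zpowers_of_order g m hg, hcard, pow_succ] at this
  exact Nat.eq_of_mul_eq_mul_left (pow_pos two_pos m) this

theorem card_of_index_two [Finite G] (M : Subgroup G) (m : ℕ) (hcard : Nat.card G = 2 ^ (m + 1))
    (hM : M.index = 2) : Nat.card M = 2 ^ m := by
  have := M.card_mul_index
  rw [hM, hcard, pow_succ] at this
  exact Nat.eq_of_mul_eq_mul_right two_pos this

theorem cyclic_max_eq_zpowers [Finite G] (M : Subgroup G) (m : ℕ)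
    (hcard : Nat.card G = 2 ^ (m + 1)) (hM : M.index = 2) (hc : IsCyclic M) :
    ∃ g : G, M = zpowers g ∧ orderOf g = 2 ^ m := by
  obtain ⟨g', hg'⟩ := hc.exists_generator
  obtain ⟨g, hgM, rfl⟩ : ∃ g : G, ∃ h : g ∈ M, g' = ⟨g, h⟩ := ⟨g'.1, g'.2, rfl⟩
  have hMeq : M = zpowers g := by
    apply le_antisymm
    · intro y hy
      obtain ⟨k, hk⟩ := Subgroup.mem_zpowers_iff.mp (hg' ⟨y, hy⟩)
      rw [Subgroup.mem_zpowers_iff]
      refine ⟨k, ?_⟩
      have := congrArg Subtype.val hk
      simpa using this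
    · exact Subgroup.zpowers_le.mpr hgM
  refine ⟨g, hMeq, ?_⟩
  rw [← Nat.card_zpowers, ← hMeq]
  exact card_of_index_two M m hcard hM

/-- the exponent `r` is odd. -/
theorem r_odd (c x : G) (m r : ℕ) (hm : 1 ≤ m) (hord : orderOf c = 2 ^ m)
    (h : x * c * x⁻¹ = c ^ r) : r % 2 = 1 := by
  by_contra hr
  have hr0 : r % 2 = 0 := by omega
  obtain ⟨t, rfl⟩ : ∃ t, r = 2 * t := ⟨r / 2, by omega⟩
  have h1 : orderOf (c ^ (2 * t)) = 2 ^ m := by
    rw [← h]
    have := (MulAut.conj x).orderOf_eq c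
    rw [MulAut.conj_apply] at this
    rw [this, hord]
  obtain ⟨m1, rfl⟩ : ∃ m1, m = m1 + 1 := ⟨m - 1, by omega⟩
  have h2 : (c ^ (2 * t)) ^ (2 ^ m1) = 1 := by
    rw [← pow_mul]
    have : 2 * t * 2 ^ m1 = 2 ^ (m1 + 1) * t := by ring
    rw [this, pow_mul, ← hord, pow_orderOf_eq_one, one_pow]
  have h3 := orderOf_dvd_of_pow_eq_one h2
  rw [h1] at h3
  have h4 := Nat.le_of_dvd (pow_pos two_pos m1) h3
  have : 2 ^ m1 < 2 ^ (m1 + 1) := Nat.pow_lt_pow_right (by norm_num) (by omega)
  omega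

theorem pow_eq_one_iff_four (c : G) (m' e : ℕ) (hord : orderOf c = 2 ^ (m' + 2)) :
    c ^ (e * 2 ^ m') = 1 ↔ 4 ∣ e := by
  rw [← orderOf_dvd_iff_pow_eq_one, hord]
  have : 2 ^ (m' + 2) = 4 * 2 ^ m' := by ring
  rw [this]
  exact Nat.mul_dvd_mul_iff_right (pow_pos two_pos m')

theorem pow_eq_one_iff_two (c : G) (m' e : ℕ) (hord : orderOf c = 2 ^ (m' + 2)) :
    c ^ (e * 2 ^ (m' + 1)) = 1 ↔ 2 ∣ e := by
  rw [← orderOf_dvd_iff_pow_eq_one, hord]
  have : 2 ^ (m' + 2) = 2 * 2 ^ (m' + 1) := by ring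
  rw [this]
  exact Nat.mul_dvd_mul_iff_right (pow_pos two_pos (m' + 1))

/-- order criterion for the elements outside `⟨c⟩`. -/
theorem orderOf_eq_iff (c x : G) (m' r s k : ℕ) (hord : orderOf c = 2 ^ (m' + 2))
    (h : x * c * x⁻¹ = c ^ r) (hs : x * x = c ^ s) :
    orderOf (x * c ^ k) = 2 ^ (m' + 2) ↔ (s + k * (r + 1)) % 4 = 2 := by
  haveI : Fact (Nat.Prime 2) := ⟨Nat.prime_two⟩
  set g := x * c ^ k with hg
  set e := s + k * (r + 1) with he
  have hg2 : g * g = c ^ e := sq_formula x c r s k h hs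
  have hpw : ∀ j : ℕ, g ^ (2 ^ (j + 1)) = c ^ (e * 2 ^ j) := by
    intro j
    rw [pow_succ', pow_mul, pow_two, hg2, ← pow_mul]
  constructor
  · intro ho
    have h1 : g ^ (2 ^ (m' + 1 + 1)) = 1 := by
      have : m' + 1 + 1 = m' + 2 := by ring
      rw [this, ← ho, pow_orderOf_eq_one]
    rw [hpw, pow_eq_one_iff_two c m' e hord] at h1
    have h2 : ¬ g ^ (2 ^ (m' + 1)) = 1 := by
      intro hcon
      have h3 := orderOf_dvd_of_pow_eq_one hcon
      rw [ho] at h3
      have h4 := Nat.le_of_dvd (pow_pos two_pos _) h3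
      have : 2 ^ (m' + 1) < 2 ^ (m' + 2) := Nat.pow_lt_pow_right (by norm_num) (by omega)
      omega
    rw [hpw, pow_eq_one_iff_four c m' e hord] at h2
    omega
  · intro hmod
    have h1 : ¬ g ^ (2 ^ (m' + 1)) = 1 := by
      rw [hpw, pow_eq_one_iff_four c m' e hord]; omega
    have h2 : g ^ (2 ^ (m' + 1 + 1)) = 1 := by
      rw [hpw, pow_eq_one_iff_two c m' e hord]; omega
    exact orderOf_eq_prime_pow h1 h2

/-- **Count of the cyclic subgroups of index two.** -/
theorem card_cyclic_max [Finite G] (c x : G) (m' r s : ℕ) (hidx : (zpowers c).index = 2)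
    (hx : x ∉ zpowers c) (hord : orderOf c = 2 ^ (m' + 2)) (h : x * c * x⁻¹ = c ^ r)
    (hs : x * x = c ^ s) :
    Nat.card {M : Subgroup G // M.index = 2 ∧ IsCyclic M} =
      1 + (if s % 4 = 2 then 1 else 0) + (if (s + (r + 1)) % 4 = 2 then 1 else 0) := by
  classical
  have hcard : Nat.card G = 2 ^ (m' + 2 + 1) := card_eq c (m' + 2) hidx hord
  have hrodd := r_odd c x (m' + 2) r (by omega) hord h
  obtain ⟨t, rfl⟩ : ∃ t, r = 2 * t + 1 := ⟨r / 2, by omega⟩
  have hP0 : orderOf x = 2 ^ (m' + 2) ↔ s % 4 = 2 := by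
    have := orderOf_eq_iff c x m' (2 * t + 1) s 0 hord h hs
    simpa using this
  have hP1 : orderOf (x * c) = 2 ^ (m' + 2) ↔ (s + (2 * t + 1 + 1)) % 4 = 2 := by
    have := orderOf_eq_iff c x m' (2 * t + 1) s 1 hord h hs
    simpa using this
  let S : Set (Subgroup G) := {M | M.index = 2 ∧ IsCyclic M}
  have hSC : zpowers c ∈ S := ⟨hidx, inferInstance⟩
  have hxc : x * c ∉ zpowers c := by
    intro hmem
    apply hx
    have : x = (x * c) * c⁻¹ := by group
    rw [this]
    exact (zpowers c).mul_mem hmem ((zpowers c).inv_mem (mem_zpowers c))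
  have hS0 : s % 4 = 2 → zpowers x ∈ S := fun hp =>
    ⟨index_two_of_order x (m' + 2) hcard (hP0.mpr hp), inferInstance⟩
  have hS1 : (s + (2 * t + 1 + 1)) % 4 = 2 → zpowers (x * c) ∈ S := fun hp =>
    ⟨index_two_of_order (x * c) (m' + 2) hcard (hP1.mpr hp), inferInstance⟩
  have hne0 : zpowers c ≠ zpowers x := by
    intro heq; apply hx; rw [heq]; exact mem_zpowers x
  have hne1 : zpowers c ≠ zpowers (x * c) := by
    intro heq; apply hxc; rw [heq]; exact mem_zpowers _
  have hne01 : s % 4 = 2 → zpowers x ≠ zpowers (x * c) := by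
    intro hp heq
    have h1 : x * c ∈ zpowers x := by rw [heq]; exact mem_zpowers _
    have h2 : c ∈ zpowers x := by
      have : c = x⁻¹ * (x * c) := by group
      rw [this]; exact (zpowers x).mul_mem ((zpowers x).inv_mem (mem_zpowers x)) h1
    have h3 : zpowers c ≤ zpowers x := zpowers_le.mpr h2
    have h4 : zpowers c = zpowers x := Subgroup.eq_of_le_of_card_ge h3 (by
      rw [card_zpowers_of_order x (m' + 2) (hP0.mpr hp), card_zpowers_of_order c (m' + 2) hord])
    exact hne0 h4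
  have hcl : ∀ M ∈ S, M = zpowers c ∨ (s % 4 = 2 ∧ M = zpowers x) ∨
      ((s + (2 * t + 1 + 1)) % 4 = 2 ∧ M = zpowers (x * c)) := by
    rintro M ⟨hMi, hMc⟩
    obtain ⟨g, hMg, hgo⟩ := cyclic_max_eq_zpowers M (m' + 2) hcard hMi hMc
    rcases mem_or_exists c x hidx hx g with hgC | ⟨k, hk⟩
    · left
      rw [hMg]
      exact Subgroup.eq_of_le_of_card_ge (zpowers_le.mpr hgC) (by
        rw [card_zpowers_of_order g (m' + 2) hgo, card_zpowers_of_order c (m' + 2) hord])
    · right
      have hcrit := (orderOf_eq_iff c x m' (2 * t + 1) s k hord h hs).mp (by rw [← hk]; exact hgo)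
      rcases Nat.even_or_odd' k with ⟨j, hj | hj⟩
      · left
        have hp : s % 4 = 2 := by
          rw [hj] at hcrit
          have : 2 * j * (2 * t + 1 + 1) = 4 * (j * (t + 1)) := by ring
          rw [this] at hcrit
          omega
        refine ⟨hp, ?_⟩
        have hZ0i := (hS0 hp).1
        have hcc : c * c ∈ zpowers x :=
          Cfsg.Agent.Lib.Helper78.sq_mem_of_index_two (zpowers x) hZ0i c
        have hgZ : g ∈ zpowers x := by
          rw [hk, hj, pow_mul, pow_two]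
          exact (zpowers x).mul_mem (mem_zpowers x) ((zpowers x).pow_mem hcc j)
        rw [hMg]
        exact Subgroup.eq_of_le_of_card_ge (zpowers_le.mpr hgZ) (by
          rw [card_zpowers_of_order g (m' + 2) hgo,
            card_zpowers_of_order x (m' + 2) (hP0.mpr hp)])
      · right
        have hp : (s + (2 * t + 1 + 1)) % 4 = 2 := by
          rw [hj] at hcrit
          have : (2 * j + 1) * (2 * t + 1 + 1) = 4 * (j * (t + 1)) + (2 * t + 1 + 1) := by ring
          rw [this] at hcrit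
          omega
        refine ⟨hp, ?_⟩
        have hZ1i := (hS1 hp).1
        have hcc : c * c ∈ zpowers (x * c) :=
          Cfsg.Agent.Lib.Helper78.sq_mem_of_index_two (zpowers (x * c)) hZ1i c
        have hgZ : g ∈ zpowers (x * c) := by
          have : x * c ^ (2 * j + 1) = (x * c) * (c * c) ^ j := by
            rw [pow_succ', pow_mul, pow_two, mul_assoc]
          rw [hk, hj, this]
          exact (zpowers (x * c)).mul_mem (mem_zpowers _) ((zpowers (x * c)).pow_mem hcc j)
        rw [hMg]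
        exact Subgroup.eq_of_le_of_card_ge (zpowers_le.mpr hgZ) (by
          rw [card_zpowers_of_order g (m' + 2) hgo,
            card_zpowers_of_order (x * c) (m' + 2) (hP1.mpr hp)])
  have hcardS : Nat.card {M : Subgroup G // M.index = 2 ∧ IsCyclic M} = S.ncard :=
    Nat.card_coe_set_eq S
  rw [hcardS]
  by_cases hp0 : s % 4 = 2 <;> by_cases hp1 : (s + (2 * t + 1 + 1)) % 4 = 2
  · have hSeq : S = {zpowers c, zpowers x, zpowers (x * c)} := by
      ext M; constructor
      · intro hM; rcases hcl M hM with h | ⟨_, h⟩ | ⟨_, h⟩ <;> simp [h]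
      · intro hM
        simp only [Set.mem_insert_iff, Set.mem_singleton_iff] at hM
        rcases hM with rfl | rfl | rfl
        exacts [hSC, hS0 hp0, hS1 hp1]
    rw [hSeq, if_pos hp0, if_pos hp1, Set.ncard_insert_of_notMem, Set.ncard_pair (hne01 hp0)]
    simp only [Set.mem_insert_iff, Set.mem_singleton_iff, not_or]
    exact ⟨hne0, hne1⟩
  · have hSeq : S = {zpowers c, zpowers x} := by
      ext M; constructor
      · intro hM; rcases hcl M hM with h | ⟨_, h⟩ | ⟨h', _⟩
        · simp [h]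
        · simp [h]
        · exact absurd h' hp1
      · intro hM
        simp only [Set.mem_insert_iff, Set.mem_singleton_iff] at hM
        rcases hM with rfl | rfl
        exacts [hSC, hS0 hp0]
    rw [hSeq, if_pos hp0, if_neg hp1, Set.ncard_pair hne0]
  · have hSeq : S = {zpowers c, zpowers (x * c)} := by
      ext M; constructor
      · intro hM; rcases hcl M hM with h | ⟨h', _⟩ | ⟨_, h⟩
        · simp [h]
        · exact absurd h' hp0
        · simp [h]
      · intro hM
        simp only [Set.mem_insert_iff, Set.mem_singleton_iff] at hM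
        rcases hM with rfl | rfl
        exacts [hSC, hS1 hp1]
    rw [hSeq, if_neg hp0, if_pos hp1, Set.ncard_pair hne1]
  · have hSeq : S = {zpowers c} := by
      ext M; constructor
      · intro hM; rcases hcl M hM with h | ⟨h', _⟩ | ⟨h', _⟩
        · simp [h]
        · exact absurd h' hp0
        · exact absurd h' hp1
      · intro hM
        simp only [Set.mem_singleton_iff] at hM
        rw [hM]; exact hSC
    rw [hSeq, if_neg hp0, if_neg hp1, Set.ncard_singleton]

theorem not_isCyclic_of_three (c x : G) (m' r : ℕ) (hord : orderOf c = 2 ^ (m' + 2))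
    (h : x * c * x⁻¹ = c ^ r) (hr : r % 4 = 3) : ¬ IsCyclic G := by
  intro hcyc
  have hcomm : x * c = c * x := (IsCyclic.isMulCommutative (α := G)).is_comm.comm x c
  obtain ⟨q, rfl⟩ : ∃ q, r = 4 * q + 3 := ⟨r / 4, by omega⟩
  have h1 : c ^ (4 * q + 3) = c := by rw [← h, hcomm]; group
  have h2 : c ^ (4 * q + 2) = 1 := by
    have : c ^ (4 * q + 3) = c ^ (4 * q + 2) * c := by rw [← pow_succ]
    rw [this] at h1
    exact mul_eq_right.mp h1
  have h3 := orderOf_dvd_of_pow_eq_one h2
  rw [hord] at h3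
  have h4 : (4 : ℕ) ∣ 2 ^ (m' + 2) := by
    have : 2 ^ (m' + 2) = 4 * 2 ^ m' := by ring
    rw [this]; exact dvd_mul_right 4 _
  have := dvd_trans h4 h3
  omega

/-- if `r ≡ 3 mod 4` then `G' = ⟨c²⟩` has index four. -/
theorem commutator_eq_of_three [Finite G] (c x : G) (m' r : ℕ) (hidx : (zpowers c).index = 2)
    (hord : orderOf c = 2 ^ (m' + 2)) (h : x * c * x⁻¹ = c ^ r) (hr : r % 4 = 3) :
    commutator G = zpowers (c ^ 2) ∧ (commutator G).index = 4 := by
  haveI : Fact (Nat.Prime 2) := ⟨Nat.prime_two⟩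
  have hcard : Nat.card G = 2 ^ (m' + 2 + 1) := card_eq c (m' + 2) hidx hord
  have hG : IsPGroup 2 G := IsPGroup.of_card hcard
  have hnc : ¬ IsCyclic G := not_isCyclic_of_three c x m' r hord h hr
  obtain ⟨q, rfl⟩ : ∃ q, r = 4 * q + 3 := ⟨r / 4, by omega⟩
  have hmem : c ^ 2 ∈ commutator G := by
    have h1 : ⁅x, c⁆ ∈ commutator G := by
      rw [_root_.commutator_def]
      exact Subgroup.commutator_mem_commutator (mem_top x) (mem_top c)
    have h2 : ⁅x, c⁆ = (c ^ 2) ^ (2 * q + 1) := by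
      rw [commutatorElement_def, h, ← pow_mul]
      have : 4 * q + 3 = 2 * (2 * q + 1) + 1 := by ring
      rw [this, pow_succ, mul_inv_cancel_right]
    rw [h2] at h1
    have hcop : (2 * q + 1).Coprime (orderOf (c ^ 2)) := by
      have hd : orderOf (c ^ 2) ∣ 2 ^ (m' + 2) := hord ▸ orderOf_pow_dvd 2
      obtain ⟨j, _, hj⟩ := (Nat.dvd_prime_pow Nat.prime_two).mp hd
      rw [hj]
      apply Nat.Coprime.pow_right
      rw [Nat.coprime_comm, Nat.Prime.coprime_iff_not_dvd Nat.prime_two]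
      omega
    obtain ⟨v, hv⟩ := exists_pow_eq_self_of_coprime hcop
    rw [← hv]
    exact (commutator G).pow_mem h1 v
  have hle : zpowers (c ^ 2) ≤ commutator G := zpowers_le.mpr hmem
  have hord2 : orderOf (c ^ 2) = 2 ^ (m' + 1) := by
    rw [orderOf_pow_of_dvd (by norm_num) (by rw [hord]; exact dvd_pow_self 2 (by omega)), hord]
    have : 2 ^ (m' + 2) = 2 ^ (m' + 1) * 2 := by ring
    rw [this, Nat.mul_div_cancel _ two_pos]
  have hzi : (zpowers (c ^ 2)).index = 4 := by
    have := (zpowers (c ^ 2)).card_mul_index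
    rw [Nat.card_zpowers, hord2, hcard] at this
    have h4 : 2 ^ (m' + 2 + 1) = 2 ^ (m' + 1) * 4 := by ring
    rw [h4] at this
    exact Nat.eq_of_mul_eq_mul_left (pow_pos two_pos _) this
  have hdvd : (commutator G).index ∣ 4 := hzi ▸ Subgroup.index_dvd_of_le hle
  obtain ⟨d, hd2, hd⟩ := Cfsg.Agent.Lib.Helper75.SubCount.frattini_index_of_not_cyclic hG hnc
  have hcf : commutator G ≤ frattini G :=
    Cfsg.Agent.Lib.Helper03.commutator_le_frattini_of_isPGroup hG
  have h4d : 4 ∣ (commutator G).index := by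
    have h1 : (frattini G).index ∣ (commutator G).index := Subgroup.index_dvd_of_le hcf
    rw [hd] at h1
    refine dvd_trans ?_ h1
    have : (4 : ℕ) = 2 ^ 2 := by norm_num
    rw [this]; exact pow_dvd_pow 2 hd2
  have hidx4 : (commutator G).index = 4 := Nat.dvd_antisymm hdvd h4d
  refine ⟨?_, hidx4⟩
  symm
  apply Subgroup.eq_of_le_of_card_ge hle
  have h1 := (commutator G).card_mul_index
  have h2 := (zpowers (c ^ 2)).card_mul_index
  rw [hidx4] at h1; rw [hzi] at h2
  omega

/-- if `r ≡ 1 mod 4` the group is not of maximal class. -/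
theorem not_maxclass_of_one [Finite G] (c x : G) (m' r : ℕ) (hidx : (zpowers c).index = 2)
    (hx : x ∉ zpowers c) (hord : orderOf c = 2 ^ (m' + 2)) (h : x * c * x⁻¹ = c ^ r)
    (hr : r % 4 = 1) : Group.nilpotencyClass G ≠ m' + 2 := by
  intro hcl
  have hcard : Nat.card G = 2 ^ (m' + 2 + 1) := card_eq c (m' + 2) hidx hord
  have hG : IsPGroup 2 G := IsPGroup.of_card hcard
  have h4 := Cfsg.Agent.Lib.Helper78.index_commutator_of_maximal_class (m' + 2 + 1) G (by omega)
    hcard (by simpa using hcl)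
  have h8 : 8 ≤ Nat.card G := by
    rw [hcard]
    calc 8 = 2 ^ 3 := by norm_num
      _ ≤ 2 ^ (m' + 2 + 1) := Nat.pow_le_pow_right two_pos (by omega)
  have hZ := Cfsg.Agent.Lib.Helper78.card_center_eq_two hG h4 h8
  obtain ⟨q, rfl⟩ : ∃ q, r = 4 * q + 1 := ⟨r / 4, by omega⟩
  have hw : c ^ (2 ^ m') ∈ Subgroup.center G := by
    apply Cfsg.Agent.Lib.Helper78.mem_center_of_comm (zpowers c) hidx x hx
    · intro a ha
      obtain ⟨j, rfl⟩ := Subgroup.mem_zpowers_iff.mp ha
      exact (((Commute.refl c).zpow_left j).pow_right (2 ^ m')).eq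
    · have h1 := conj_pow_eq x c (4 * q + 1) (2 ^ m') h
      have h2 : c ^ ((4 * q + 1) * 2 ^ m') = c ^ (2 ^ m') := by
        have : (4 * q + 1) * 2 ^ m' = 2 ^ (m' + 2) * q + 2 ^ m' := by ring
        rw [this, pow_add, pow_mul, ← hord, pow_orderOf_eq_one, one_pow, one_mul]
      rw [h2] at h1
      exact mul_inv_eq_iff_eq_mul.mp h1
  have hwo : orderOf (c ^ (2 ^ m')) = 4 := by
    rw [orderOf_pow_of_dvd (pow_pos two_pos m').ne' (by rw [hord]; exact pow_dvd_pow 2 (by omega)),
      hord]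
    have : 2 ^ (m' + 2) = 4 * 2 ^ m' := by ring
    rw [this, Nat.mul_div_cancel _ (pow_pos two_pos m')]
  have hdvd := Subgroup.orderOf_dvd_natCard (Subgroup.center G) hw
  rw [hwo, hZ] at hdvd
  omega

/-- in a noncyclic group, `x x = c ^ s` forces `s` even. -/
theorem s_even [Finite G] (c x : G) (m s : ℕ) (hidx : (zpowers c).index = 2)
    (hx : x ∉ zpowers c) (hord : orderOf c = 2 ^ m) (hs : x * x = c ^ s) (hnc : ¬ IsCyclic G) :
    s % 2 = 0 := by
  by_contra hodd
  apply hnc
  have hcop : s.Coprime (orderOf c) := by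
    rw [hord]
    apply Nat.Coprime.pow_right
    rw [Nat.coprime_comm, Nat.Prime.coprime_iff_not_dvd Nat.prime_two]
    omega
  obtain ⟨v, hv⟩ := exists_pow_eq_self_of_coprime hcop
  have hcx : c ∈ zpowers x := by
    rw [← hv, ← hs]
    exact (zpowers x).pow_mem ((zpowers x).mul_mem (mem_zpowers x) (mem_zpowers x)) v
  have hle : zpowers c ≤ zpowers x := zpowers_le.mpr hcx
  have hlt : zpowers c < zpowers x := lt_of_le_of_ne hle (by
    intro heq; apply hx; rw [heq]; exact mem_zpowers x)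
  have htop : zpowers x = ⊤ :=
    Cfsg.Agent.Lib.Helper68.eq_top_of_lt_of_index_prime Nat.prime_two _ _ hidx hlt
  exact ⟨⟨x, fun y => by
    have : y ∈ zpowers x := by rw [htop]; exact mem_top y
    exact this⟩⟩

theorem exists_exponents [Finite G] (c y : G) (hidx : (zpowers c).index = 2) :
    ∃ r s : ℕ, y * c * y⁻¹ = c ^ r ∧ y * y = c ^ s := by
  have h1 : y * c * y⁻¹ ∈ zpowers c :=
    Cfsg.Agent.Lib.Helper78.conj_mem_of_index_two (zpowers c) hidx y (mem_zpowers c)
  have h2 : y * y ∈ zpowers c := Cfsg.Agent.Lib.Helper78.sq_mem_of_index_two (zpowers c) hidx y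
  rw [← mem_powers_iff_mem_zpowers] at h1 h2
  obtain ⟨r, hr⟩ := h1
  obtain ⟨s, hs⟩ := h2
  exact ⟨r, s, hr.symm, hs.symm⟩

theorem exists_not_mem_of_index_two (C : Subgroup G) (hC : C.index = 2) : ∃ x : G, x ∉ C := by
  by_contra hcon
  push Not at hcon
  have : C = ⊤ := eq_top_iff.mpr (fun y _ => hcon y)
  rw [this, index_top] at hC
  omega

/-- **E(i)**: a noncyclic 2-group of order at least 8, not of maximal class, has an even number
of cyclic maximal subgroups. -/
theorem even_card_cyclic_max [Finite G] (n : ℕ) (hn : 3 ≤ n) (hcard : Nat.card G = 2 ^ n)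
    (hnc : ¬ IsCyclic G) (hcl : Group.nilpotencyClass G ≠ n - 1) :
    Even (Nat.card {M : Subgroup G // M.index = 2 ∧ IsCyclic M}) := by
  by_cases hex : ∃ M : Subgroup G, M.index = 2 ∧ IsCyclic M
  · obtain ⟨C, hCi, hCc⟩ := hex
    obtain ⟨m', rfl⟩ : ∃ m', n = m' + 2 + 1 := ⟨n - 3, by omega⟩
    obtain ⟨c, rfl, hord⟩ := cyclic_max_eq_zpowers C (m' + 2) hcard hCi hCc
    obtain ⟨x, hx⟩ := exists_not_mem_of_index_two _ hCi
    obtain ⟨r, s, hr, hs⟩ := exists_exponents c x hCi
    have hrodd := r_odd c x (m' + 2) r (by omega) hord hr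
    have hr1 : r % 4 = 1 := by
      by_contra hne
      have hr3 : r % 4 = 3 := by omega
      have h4 := (commutator_eq_of_three c x m' r hCi hord hr hr3).2
      exact hcl (Cfsg.Agent.Lib.Helper78.nilpotencyClass_of_index_four (m' + 2 + 1) G (by omega)
        hcard h4)
    have hse := s_even c x (m' + 2) s hCi hx hord hs hnc
    rw [card_cyclic_max c x m' r s hCi hx hord hr hs]
    by_cases hp0 : s % 4 = 2
    · have hp1 : ¬ (s + (r + 1)) % 4 = 2 := by omega
      rw [if_pos hp0, if_neg hp1]; decide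
    · have hp1 : (s + (r + 1)) % 4 = 2 := by omega
      rw [if_neg hp0, if_pos hp1]; decide
  · have : IsEmpty {M : Subgroup G // M.index = 2 ∧ IsCyclic M} := ⟨fun M => hex ⟨M.1, M.2⟩⟩
    rw [Nat.card_of_isEmpty]; exact Even.zero

/-- **MC1**: a 2-group of maximal class and order at least 8 has an odd number of cyclic
maximal subgroups. -/
theorem odd_card_cyclic_max [Finite G] (n : ℕ) (hn : 3 ≤ n) (hcard : Nat.card G = 2 ^ n)
    (hcl : Group.nilpotencyClass G = n - 1) :
    Odd (Nat.card {M : Subgroup G // M.index = 2 ∧ IsCyclic M}) := by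
  have hG : IsPGroup 2 G := IsPGroup.of_card hcard
  have h4 := Cfsg.Agent.Lib.Helper78.index_commutator_of_maximal_class n G hn hcard hcl
  have h8 : 8 ≤ Nat.card G := by
    rw [hcard]
    calc 8 = 2 ^ 3 := by norm_num
      _ ≤ 2 ^ n := Nat.pow_le_pow_right two_pos hn
  obtain ⟨C, hCc, hCi⟩ := Cfsg.Agent.Lib.Helper78.exists_cyclic_index_two hG h4 h8
  obtain ⟨m', rfl⟩ : ∃ m', n = m' + 2 + 1 := ⟨n - 3, by omega⟩
  obtain ⟨c, rfl, hord⟩ := cyclic_max_eq_zpowers C (m' + 2) hcard hCi hCc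
  obtain ⟨x, hx⟩ := exists_not_mem_of_index_two _ hCi
  obtain ⟨r, s, hr, hs⟩ := exists_exponents c x hCi
  have hrodd := r_odd c x (m' + 2) r (by omega) hord hr
  have hr3 : r % 4 = 3 := by
    by_contra hne
    have hr1 : r % 4 = 1 := by omega
    exact not_maxclass_of_one c x m' r hCi hx hord hr hr1 (by simpa using hcl)
  rw [card_cyclic_max c x m' r s hCi hx hord hr hs]
  by_cases hp0 : s % 4 = 2
  · have hp1 : (s + (r + 1)) % 4 = 2 := by omega
    rw [if_pos hp0, if_pos hp1]; decide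
  · have hp1 : ¬ (s + (r + 1)) % 4 = 2 := by omega
    rw [if_neg hp0, if_neg hp1]; decide

/-- **MC2**: the maximal subgroups of a 2-group of maximal class and order at least 16 are cyclic
or of maximal class. -/
theorem max_of_maxclass [Finite G] (n : ℕ) (hn : 4 ≤ n) (hcard : Nat.card G = 2 ^ n)
    (hcl : Group.nilpotencyClass G = n - 1) (N : Subgroup G) (hN : N.index = 2) :
    IsCyclic N ∨ Group.nilpotencyClass ↥N = n - 2 := by
  have hG : IsPGroup 2 G := IsPGroup.of_card hcard
  have h4 := Cfsg.Agent.Lib.Helper78.index_commutator_of_maximal_class n G (by omega) hcard hcl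
  have h8 : 8 ≤ Nat.card G := by
    rw [hcard]
    calc 8 = 2 ^ 3 := by norm_num
      _ ≤ 2 ^ n := Nat.pow_le_pow_right two_pos (by omega)
  obtain ⟨C, hCc, hCi⟩ := Cfsg.Agent.Lib.Helper78.exists_cyclic_index_two hG h4 h8
  obtain ⟨m'', rfl⟩ : ∃ m'', n = m'' + 1 + 2 + 1 := ⟨n - 4, by omega⟩
  obtain ⟨c, rfl, hord⟩ := cyclic_max_eq_zpowers C (m'' + 1 + 2) hcard hCi hCc
  by_cases hNC : N = zpowers c
  · left; rw [hNC]; infer_instance
  · right
    obtain ⟨y, hyN, hyC⟩ : ∃ y ∈ N, y ∉ zpowers c := by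
      by_contra hcon
      push Not at hcon
      have hle : N ≤ zpowers c := hcon
      exact hNC (Subgroup.eq_of_le_of_card_ge hle (by
        rw [card_of_index_two N _ hcard hN, card_zpowers_of_order c _ hord]))
    obtain ⟨r, s, hr, hs⟩ := exists_exponents c y hCi
    have hrodd := r_odd c y (m'' + 1 + 2) r (by omega) hord hr
    have hr3 : r % 4 = 3 := by
      by_contra hne
      have hr1 : r % 4 = 1 := by omega
      exact not_maxclass_of_one c y (m'' + 1) r hCi hyC hord hr hr1 (by simpa using hcl)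
    have hc2N : c ^ 2 ∈ N := by
      rw [pow_two]; exact Cfsg.Agent.Lib.Helper78.sq_mem_of_index_two N hN c
    have hord2 : orderOf (c ^ 2) = 2 ^ (m'' + 2) := by
      rw [orderOf_pow_of_dvd (by norm_num) (by rw [hord]; exact dvd_pow_self 2 (by omega)), hord]
      have : 2 ^ (m'' + 1 + 2) = 2 ^ (m'' + 2) * 2 := by ring
      rw [this, Nat.mul_div_cancel _ two_pos]
    have hord' : orderOf (⟨c ^ 2, hc2N⟩ : ↥N) = 2 ^ (m'' + 2) := by
      rw [Subgroup.orderOf_mk]; exact hord2
    have hcardN : Nat.card ↥N = 2 ^ (m'' + 2 + 1) := by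
      have := card_of_index_two N _ hcard hN
      rw [this]
    have hidx' : (zpowers (⟨c ^ 2, hc2N⟩ : ↥N)).index = 2 :=
      index_two_of_order _ (m'' + 2) hcardN hord'
    have hconj' : (⟨y, hyN⟩ : ↥N) * ⟨c ^ 2, hc2N⟩ * (⟨y, hyN⟩ : ↥N)⁻¹ = (⟨c ^ 2, hc2N⟩ : ↥N) ^ r := by
      apply Subtype.ext
      show y * c ^ 2 * y⁻¹ = (c ^ 2) ^ r
      rw [← conj_pow, hr, ← pow_mul, ← pow_mul, mul_comm]
    have h4' := (commutator_eq_of_three (⟨c ^ 2, hc2N⟩ : ↥N) ⟨y, hyN⟩ m'' r hidx' hord' hconj' hr3).2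
    have := Cfsg.Agent.Lib.Helper78.nilpotencyClass_of_index_four (m'' + 2 + 1) ↥N (by omega)
      hcardN h4'
    rw [this]
    omega

end Cfsg.Agent.Lib.Helper69.CycMax2
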