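import Mathlib
import Cfsg.Agent.Lib.Helper41.InvBDefs
import Cfsg.Agent.Lib.Helper79.InvB17b

/-!
# K-IB leaf 12 (392817): abelian minimal normal subgroup of exponent 2
-/

set_option autoImplicit false

namespace Cfsg.Agent.Lib.Helper69.InvB

open Cfsg.Agent.Lib.Helper41.InvB

variable {Γ : Type*} [Group Γ]

/-- `[N,t]` as the set of all `n * (t n t⁻¹)`, `n ∈ N` (a subgroup since `N` is abelian and normal). -/
def cW (N : Subgroup Γ) (hn : N.Normal) (hab : ∀ x ∈ N, ∀ y ∈ N, x * y = y * x) (t : Γ) :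
    Subgroup Γ where
  carrier := {x | ∃ n ∈ N, x = n * (t * n * t⁻¹)}
  one_mem' := ⟨1, N.one_mem, by simp⟩
  mul_mem' := by
    rintro _ _ ⟨n, hn', rfl⟩ ⟨n', hn'', rfl⟩
    refine ⟨n * n', N.mul_mem hn' hn'', ?_⟩
    have h1 : t * n * t⁻¹ ∈ N := hn.conj_mem n hn' t
    have h2 := hab _ h1 _ hn''
    calc n * (t * n * t⁻¹) * (n' * (t * n' * t⁻¹))
        = n * ((t * n * t⁻¹) * n') * (t * n' * t⁻¹) := by group
      _ = n * (n' * (t * n * t⁻¹)) * (t * n' * t⁻¹) := by rw [h2]
      _ = n * n' * (t * (n * n') * t⁻¹) := by group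
  inv_mem' := by
    rintro _ ⟨n, hn', rfl⟩
    refine ⟨n⁻¹, N.inv_mem hn', ?_⟩
    have h1 : t * n * t⁻¹ ∈ N := hn.conj_mem n hn' t
    have h2 := hab _ hn' _ h1
    calc (n * (t * n * t⁻¹))⁻¹ = ((t * n * t⁻¹) * n)⁻¹ := by rw [h2]
      _ = n⁻¹ * (t * n⁻¹ * t⁻¹) := by group

theorem mem_cW {N : Subgroup Γ} {hn : N.Normal} {hab : ∀ x ∈ N, ∀ y ∈ N, x * y = y * x} {t x : Γ} :
    x ∈ cW N hn hab t ↔ ∃ n ∈ N, x = n * (t * n * t⁻¹) := Iff.rfl

theorem cW_le (N : Subgroup Γ) (hn : N.Normal) (hab : ∀ x ∈ N, ∀ y ∈ N, x * y = y * x) (t : Γ) :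
    cW N hn hab t ≤ N := by
  rintro _ ⟨n, hn', rfl⟩
  exact N.mul_mem hn' (hn.conj_mem n hn' t)

section

variable {a : Γ} (ha : a * a = 1) {N : Subgroup Γ} (hn : N.Normal)
  (hab : ∀ x ∈ N, ∀ y ∈ N, x * y = y * x) (hexp : ∀ x ∈ N, x ^ 2 = 1)

include ha in
theorem a_inv : a⁻¹ = a := inv_eq_of_mul_eq_one_right ha

include hexp in
theorem inv_eq_self {x : Γ} (hx : x ∈ N) : x⁻¹ = x := by
  have := hexp x hx
  rw [pow_two] at this
  exact inv_eq_of_mul_eq_one_right this

include ha in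
theorem d_mul_d {t : Γ} (ht : t ∈ TG a) : t * a * (t * a) = 1 := by
  calc t * a * (t * a) = t * (a * t * a⁻¹) * (a * a) := by group
    _ = 1 := by rw [ht.2, ha]; group

include ha in
theorem d_inv {t : Γ} (ht : t ∈ TG a) : (t * a)⁻¹ = t * a :=
  inv_eq_of_mul_eq_one_right (d_mul_d ha ht)

include ha in
theorem d_conj_t {t : Γ} (ht : t ∈ TG a) : t * a * t * (t * a)⁻¹ = t⁻¹ := by
  calc t * a * t * (t * a)⁻¹ = t * (a * t * a⁻¹) * t⁻¹ := by group
    _ = t⁻¹ := by rw [ht.2]; group

include ha in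
/-- `d = t a` normalises `[N,t]`. -/
theorem conj_d_mem {t : Γ} (ht : t ∈ TG a) {x : Γ} (hx : x ∈ cW N hn hab t) :
    t * a * x * (t * a)⁻¹ ∈ cW N hn hab t := by
  obtain ⟨n, hn', rfl⟩ := hx
  have hn1 : t * a * n * (t * a)⁻¹ ∈ N := hn.conj_mem n hn' (t * a)
  have hn2 : t⁻¹ * (t * a * n * (t * a)⁻¹) * t ∈ N := by
    have := hn.conj_mem _ hn1 t⁻¹
    simpa using this
  refine ⟨t⁻¹ * (t * a * n * (t * a)⁻¹) * t, hn2, ?_⟩
  have hdt := d_conj_t ha ht
  have hc := hab _ hn1 _ hn2
  calc t * a * (n * (t * n * t⁻¹)) * (t * a)⁻¹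
      = (t * a * n * (t * a)⁻¹) * ((t * a * t * (t * a)⁻¹) * (t * a * n * (t * a)⁻¹)
          * (t * a * t * (t * a)⁻¹)⁻¹) := by group
    _ = (t * a * n * (t * a)⁻¹) * (t⁻¹ * (t * a * n * (t * a)⁻¹) * t) := by
        rw [hdt]; group
    _ = (t⁻¹ * (t * a * n * (t * a)⁻¹) * t) * (t * a * n * (t * a)⁻¹) := hc
    _ = t⁻¹ * (t * a * n * (t * a)⁻¹) * t * (t * (t⁻¹ * (t * a * n * (t * a)⁻¹) * t) * t⁻¹) := by
        group

include ha hexp in
/-- elements of `[N,t]` fixed by `d = t a` give new members `w t` of `TG a`. -/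
theorem mul_mem_TG {t : Γ} (ht : t ∈ TG a) {x : Γ} (hx : x ∈ cW N hn hab t)
    (hfix : t * a * x * (t * a)⁻¹ = x) : x * t ∈ TG a := by
  have hxN : x ∈ N := cW_le N hn hab t hx
  obtain ⟨n, hn', rfl⟩ := hx
  constructor
  · have h1 : n * (t * n * t⁻¹) * t = MulAut.conj n t := by
      rw [MulAut.conj_apply]
      have := inv_eq_self hexp hn'
      calc n * (t * n * t⁻¹) * t = n * t * n := by group
        _ = n * t * n⁻¹ := by rw [this]
    rw [h1, MulEquiv.orderOf_eq]
    exact ht.1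
  · have hxi := inv_eq_self hexp hxN
    have h2 : a * (n * (t * n * t⁻¹)) * a⁻¹ = t⁻¹ * (n * (t * n * t⁻¹)) * t := by
      have := hfix
      calc a * (n * (t * n * t⁻¹)) * a⁻¹
          = t⁻¹ * (t * a * (n * (t * n * t⁻¹)) * (t * a)⁻¹) * t := by group
        _ = t⁻¹ * (n * (t * n * t⁻¹)) * t := by rw [this]
    calc a * (n * (t * n * t⁻¹) * t) * a⁻¹
        = (a * (n * (t * n * t⁻¹)) * a⁻¹) * (a * t * a⁻¹) := by group
      _ = t⁻¹ * (n * (t * n * t⁻¹)) * t * t⁻¹ := by rw [h2, ht.2]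
      _ = t⁻¹ * (n * (t * n * t⁻¹))⁻¹ := by rw [hxi]; group
      _ = (n * (t * n * t⁻¹) * t)⁻¹ := by group

include ha in
/-- `x ↦ x * (d x d⁻¹)` lands in the `d`-fixed points of `[N,t]`. -/
theorem psi_fixed {t : Γ} (ht : t ∈ TG a) {x : Γ} (hx : x ∈ cW N hn hab t) :
    x * (t * a * x * (t * a)⁻¹) ∈ cW N hn hab t ∧
      t * a * (x * (t * a * x * (t * a)⁻¹)) * (t * a)⁻¹ = x * (t * a * x * (t * a)⁻¹) := by
  have h1 := conj_d_mem ha hn hab ht hx
  refine ⟨(cW N hn hab t).mul_mem hx h1, ?_⟩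
  have hxN : x ∈ N := cW_le N hn hab t hx
  have h1N : t * a * x * (t * a)⁻¹ ∈ N := cW_le N hn hab t h1
  have hc := hab _ h1N _ hxN
  have hdd := d_mul_d ha ht
  have hdi := d_inv ha ht
  calc t * a * (x * (t * a * x * (t * a)⁻¹)) * (t * a)⁻¹
      = (t * a * x * (t * a)⁻¹) * ((t * a * (t * a)) * x * ((t * a)⁻¹ * (t * a)⁻¹)) := by group
    _ = (t * a * x * (t * a)⁻¹) * x := by
        rw [hdi, hdd]; group
    _ = x * (t * a * x * (t * a)⁻¹) := hc

end

variable [Finite Γ]

/-- `|[N,t]| ≤ m²`. -/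
theorem card_cW_le {a : Γ} (ha : a * a = 1) {N : Subgroup Γ} (hn : N.Normal)
    (hab : ∀ x ∈ N, ∀ y ∈ N, x * y = y * x) (hexp : ∀ x ∈ N, x ^ 2 = 1) {t : Γ} (ht : t ∈ TG a)
    (m : ℕ) (hm : Nat.card (TG a) ≤ m) : Nat.card (cW N hn hab t) ≤ m * m := by
  classical
  let ψ : ↥(cW N hn hab t) →* Γ :=
    { toFun := fun w => (w : Γ) * (t * a * (w : Γ) * (t * a)⁻¹)
      map_one' := by simp
      map_mul' := by
        intro w w'
        have hwN : (w : Γ) ∈ N := cW_le N hn hab t w.2
        have hw'N : (w' : Γ) ∈ N := cW_le N hn hab t w'.2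
        have h1 : t * a * (w : Γ) * (t * a)⁻¹ ∈ N := hn.conj_mem _ hwN _
        have hc := hab _ h1 _ hw'N
        show ((w * w' : ↥(cW N hn hab t)) : Γ) * (t * a * ((w * w' : ↥(cW N hn hab t)) : Γ) * (t * a)⁻¹)
          = (w : Γ) * (t * a * (w : Γ) * (t * a)⁻¹) * ((w' : Γ) * (t * a * (w' : Γ) * (t * a)⁻¹))
        rw [Subgroup.coe_mul]
        calc (w : Γ) * (w' : Γ) * (t * a * ((w : Γ) * (w' : Γ)) * (t * a)⁻¹)
            = (w : Γ) * ((w' : Γ) * (t * a * (w : Γ) * (t * a)⁻¹)) * (t * a * (w' : Γ) * (t * a)⁻¹) := by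
              group
          _ = (w : Γ) * ((t * a * (w : Γ) * (t * a)⁻¹) * (w' : Γ)) * (t * a * (w' : Γ) * (t * a)⁻¹) := by
              rw [hc]
          _ = (w : Γ) * (t * a * (w : Γ) * (t * a)⁻¹) * ((w' : Γ) * (t * a * (w' : Γ) * (t * a)⁻¹)) := by
              group }
  have hψ : ∀ w : ↥(cW N hn hab t), ψ w = (w : Γ) * (t * a * (w : Γ) * (t * a)⁻¹) := fun _ => rfl
  haveI : Finite ↥(TG a) := Subtype.finite
  -- kernel
  have hker : Nat.card ψ.ker ≤ m := by
    refine le_trans ?_ hm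
    have hfix : ∀ w : ψ.ker, t * a * ((w : ↥(cW N hn hab t)) : Γ) * (t * a)⁻¹ = ((w : ↥(cW N hn hab t)) : Γ) := by
      intro w
      have h1 : ψ (w : ↥(cW N hn hab t)) = 1 := w.2
      rw [hψ] at h1
      have hwN : ((w : ↥(cW N hn hab t)) : Γ) ∈ N := cW_le N hn hab t (w : ↥(cW N hn hab t)).2
      have h2 := inv_eq_self hexp hwN
      have h3 : t * a * ((w : ↥(cW N hn hab t)) : Γ) * (t * a)⁻¹ = (((w : ↥(cW N hn hab t)) : Γ))⁻¹ :=
        (inv_eq_of_mul_eq_one_right h1).symm
      rw [h3, h2]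
    refine Nat.card_le_card_of_injective
      (fun w : ψ.ker => (⟨((w : ↥(cW N hn hab t)) : Γ) * t,
        mul_mem_TG ha hn hab hexp ht (w : ↥(cW N hn hab t)).2 (hfix w)⟩ : ↥(TG a))) ?_
    intro w w' h
    have h1 : ((w : ↥(cW N hn hab t)) : Γ) * t = ((w' : ↥(cW N hn hab t)) : Γ) * t :=
      congrArg Subtype.val h
    have h2 := mul_right_cancel h1
    exact Subtype.ext (Subtype.ext h2)
  -- range
  have hrange : Nat.card ψ.range ≤ m := by
    refine le_trans ?_ hm
    have hmem : ∀ v : ψ.range, (v : Γ) ∈ cW N hn hab t ∧ t * a * (v : Γ) * (t * a)⁻¹ = (v : Γ) := by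
      rintro ⟨v, w, rfl⟩
      exact psi_fixed ha hn hab ht w.2
    refine Nat.card_le_card_of_injective
      (fun v : ψ.range => (⟨(v : Γ) * t,
        mul_mem_TG ha hn hab hexp ht (hmem v).1 (hmem v).2⟩ : ↥(TG a))) ?_
    intro v v' h
    have h1 : (v : Γ) * t = (v' : Γ) * t := congrArg Subtype.val h
    exact Subtype.ext (mul_right_cancel h1)
  have hcard : Nat.card ↥(cW N hn hab t) = Nat.card ψ.ker * Nat.card ψ.range := by
    rw [← Subgroup.index_ker, Subgroup.card_mul_index]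
  rw [hcard]
  exact Nat.mul_le_mul hker hrange

theorem minNormal_abelian_two (a : Γ) (hg : Gen a) (hZ : Subgroup.center Γ = ⊥) (N : Subgroup Γ)
    (hN : IsMinNormal N) (hab : ∀ x ∈ N, ∀ y ∈ N, x * y = y * x)
    (hexp : ∀ x ∈ N, x ^ 2 = 1) (m : ℕ) (hm : Nat.card (TG a) ≤ m) :
    Drop a N ∧ Nat.card N ≤ m ^ (2 * m) := by
  classical
  obtain ⟨ha, hgen⟩ := hg
  obtain ⟨hn, hN1, hmin⟩ := hN
  have hai := a_inv ha
  -- some [N,t] is nontrivial
  have hex : ∃ t ∈ TG a, cW N hn hab t ≠ ⊥ := by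
    by_contra hcon
    push Not at hcon
    -- every t ∈ TG a centralises N
    have hcent : ∀ t ∈ TG a, ∀ n ∈ N, t * n = n * t := by
      intro t ht n hn'
      have h1 : n * (t * n * t⁻¹) ∈ cW N hn hab t := ⟨n, hn', rfl⟩
      rw [hcon t ht, Subgroup.mem_bot] at h1
      have h2 := inv_eq_self hexp hn'
      have h3 : t * n * t⁻¹ = n := by
        have := (inv_eq_of_mul_eq_one_right h1).symm
        rw [this, h2]
      calc t * n = (t * n * t⁻¹) * t := by group
        _ = n * t := by rw [h3]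
    -- a fixed point of a in N
    obtain ⟨n0, hn0, hn01, hn0a⟩ : ∃ n0 ∈ N, n0 ≠ 1 ∧ a * n0 = n0 * a := by
      obtain ⟨n, hn', hn1⟩ : ∃ n ∈ N, n ≠ 1 := by
        by_contra h
        push Not at h
        exact hN1 ((Subgroup.eq_bot_iff_forall N).mpr h)
      by_cases h0 : n * (a * n * a⁻¹) = 1
      · refine ⟨n, hn', hn1, ?_⟩
        have h2 := inv_eq_self hexp hn'
        have h3 : a * n * a⁻¹ = n := by
          have := (inv_eq_of_mul_eq_one_right h0).symm
          rw [this, h2]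
        calc a * n = (a * n * a⁻¹) * a := by group
          _ = n * a := by rw [h3]
      · have hanN : a * n * a⁻¹ ∈ N := hn.conj_mem n hn' a
        refine ⟨n * (a * n * a⁻¹), N.mul_mem hn' hanN, h0, ?_⟩
        have hc := hab _ hanN _ hn'
        have hy2 : a * (a * n * a⁻¹) * a⁻¹ = n := by
          calc a * (a * n * a⁻¹) * a⁻¹ = (a * a) * n * (a * a)⁻¹ := by group
            _ = n := by rw [ha]; group
        have hconj : a * (n * (a * n * a⁻¹)) * a⁻¹ = n * (a * n * a⁻¹) := by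
          calc a * (n * (a * n * a⁻¹)) * a⁻¹
              = (a * n * a⁻¹) * (a * (a * n * a⁻¹) * a⁻¹) := by group
            _ = (a * n * a⁻¹) * n := by rw [hy2]
            _ = n * (a * n * a⁻¹) := hc
        calc a * (n * (a * n * a⁻¹)) = (a * (n * (a * n * a⁻¹)) * a⁻¹) * a := by group
          _ = n * (a * n * a⁻¹) * a := by rw [hconj]
    -- n0 is central
    have hle : Subgroup.closure (TG a ∪ {a}) ≤ Subgroup.centralizer {n0} := by
      rw [Subgroup.closure_le]
      rintro g (hgT | hga)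
      · rw [SetLike.mem_coe, Subgroup.mem_centralizer_iff]
        intro y hy
        rw [Set.mem_singleton_iff] at hy
        subst hy
        exact (hcent g hgT y hn0).symm
      · rw [Set.mem_singleton_iff] at hga
        subst hga
        rw [SetLike.mem_coe, Subgroup.mem_centralizer_iff]
        intro y hy
        rw [Set.mem_singleton_iff] at hy
        subst hy
        exact hn0a.symm
    rw [hgen] at hle
    have hcen : n0 ∈ Subgroup.center Γ := by
      rw [Subgroup.mem_center_iff]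
      intro g
      have := hle (Subgroup.mem_top g)
      rw [Subgroup.mem_centralizer_iff] at this
      exact (this n0 rfl).symm
    rw [hZ, Subgroup.mem_bot] at hcen
    exact hn01 hcen
  obtain ⟨t0, ht0, hW0⟩ := hex
  refine ⟨?_, ?_⟩
  · -- Drop
    obtain ⟨x, hx, hx1⟩ : ∃ x ∈ cW N hn hab t0, x ≠ 1 := by
      by_contra h
      push Not at h
      exact hW0 ((Subgroup.eq_bot_iff_forall _).mpr h)
    have hxN : x ∈ N := cW_le N hn hab t0 hx
    obtain ⟨w, hw, hw1, hwfix⟩ : ∃ w ∈ cW N hn hab t0, w ≠ 1 ∧ t0 * a * w * (t0 * a)⁻¹ = w := by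
      by_cases h0 : x * (t0 * a * x * (t0 * a)⁻¹) = 1
      · refine ⟨x, hx, hx1, ?_⟩
        have h2 := inv_eq_self hexp hxN
        have := (inv_eq_of_mul_eq_one_right h0).symm
        rw [this, h2]
      · obtain ⟨h1, h2⟩ := psi_fixed ha hn hab ht0 hx
        exact ⟨_, h1, h0, h2⟩
    have hwN : w ∈ N := cW_le N hn hab t0 hw
    refine ⟨t0, ht0, w * t0, mul_mem_TG ha hn hab hexp ht0 hw hwfix, ?_, ?_⟩
    · intro h
      apply hw1
      have : 1 * t0 = w * t0 := by rw [one_mul]; exact h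
      exact (mul_right_cancel this).symm
    · have := hn.conj_mem w hwN t0⁻¹
      simpa [mul_assoc] using this
  · -- the bound
    have hTfin : (TG a).Finite := Set.toFinite _
    let s : Finset (Subgroup Γ) := hTfin.toFinset.image (fun t => cW N hn hab t)
    have hs : ∀ R ∈ s, R ≤ N ∧ N ≤ Subgroup.normalizer (R : Set Γ) := by
      intro R hR
      obtain ⟨t, _, rfl⟩ := Finset.mem_image.mp hR
      refine ⟨cW_le N hn hab t, ?_⟩
      intro n hn'
      rw [Subgroup.mem_normalizer_iff]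
      intro x
      constructor
      · intro hx
        have hxN := cW_le N hn hab t hx
        have hc := hab _ hn' _ hxN
        have : n * x * n⁻¹ = x := by rw [hc]; group
        rw [this]; exact hx
      · intro hx
        have hxN := cW_le N hn hab t hx
        have hxN' : x ∈ N := by
          have := hn.conj_mem _ hxN n⁻¹
          simpa [mul_assoc] using this
        have hc := hab _ hn' _ hxN'
        have : n * x * n⁻¹ = x := by rw [hc]; group
        rw [this] at hx; exact hx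
    obtain ⟨_, hcard⟩ := Cfsg.Agent.Lib.Helper79.InvB.card_finset_sup_le N s hs
    -- the join is normal in Γ
    have hML : s.sup id ≤ N := Finset.sup_le (fun R hR => (hs R hR).1)
    have hWle : ∀ t ∈ TG a, cW N hn hab t ≤ s.sup id := by
      intro t ht
      have : cW N hn hab t ∈ s := Finset.mem_image.mpr ⟨t, hTfin.mem_toFinset.mpr ht, rfl⟩
      exact Finset.le_sup (f := id) this
    -- conjugation by generators maps the join into itself
    have hgenconj : ∀ g ∈ TG a ∪ {a}, ∀ x ∈ s.sup id, g * x * g⁻¹ ∈ s.sup id := by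
      intro g hgm
      have hle : s.sup id ≤ (s.sup id).comap (MulAut.conj g).toMonoidHom := by
        refine Finset.sup_le ?_
        intro R hR
        obtain ⟨t, htm, rfl⟩ := Finset.mem_image.mp hR
        have ht : t ∈ TG a := hTfin.mem_toFinset.mp htm
        intro x hx
        rw [Subgroup.mem_comap]
        show MulAut.conj g x ∈ s.sup id
        rw [MulAut.conj_apply]
        rcases hgm with hgT | hga
        · -- g ∈ TG a
          have hxN := cW_le N hn hab t hx
          have hxi := inv_eq_self hexp hxN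
          have h1 : x * (g * x * g⁻¹) ∈ cW N hn hab g := ⟨x, hxN, rfl⟩
          have h2 : g * x * g⁻¹ = x * (x * (g * x * g⁻¹)) := by
            have hxx : x * x = 1 := by
              have := hexp x hxN
              rwa [pow_two] at this
            rw [← mul_assoc, hxx, one_mul]
          rw [h2]
          exact (s.sup id).mul_mem (hWle t ht hx) (hWle g hgT h1)
        · rw [Set.mem_singleton_iff] at hga
          rw [hga]
          obtain ⟨n, hn', rfl⟩ := hx
          have hti : t⁻¹ ∈ TG a := inv_mem_TG ht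
          have hanN : a * n * a⁻¹ ∈ N := hn.conj_mem n hn' a
          have h1 : a * (n * (t * n * t⁻¹)) * a⁻¹
              = (a * n * a⁻¹) * (t⁻¹ * (a * n * a⁻¹) * t⁻¹⁻¹) := by
            calc a * (n * (t * n * t⁻¹)) * a⁻¹
                = (a * n * a⁻¹) * ((a * t * a⁻¹) * (a * n * a⁻¹) * (a * t * a⁻¹)⁻¹) := by group
              _ = (a * n * a⁻¹) * (t⁻¹ * (a * n * a⁻¹) * t⁻¹⁻¹) := by rw [ht.2]
          rw [h1]
          exact hWle t⁻¹ hti ⟨a * n * a⁻¹, hanN, rfl⟩
      intro x hx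
      have := hle hx
      rw [Subgroup.mem_comap] at this
      simpa [MulAut.conj_apply] using this
    have hnormal : (s.sup id).Normal := by
      have hle : Subgroup.closure (TG a ∪ {a}) ≤ Subgroup.normalizer ((s.sup id : Subgroup Γ) : Set Γ) := by
        rw [Subgroup.closure_le]
        intro g hgm
        have hginv : g⁻¹ ∈ TG a ∪ {a} := by
          rcases hgm with hgT | hga
          · exact Or.inl (inv_mem_TG hgT)
          · rw [Set.mem_singleton_iff] at hga
            subst hga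
            rw [hai]
            exact Or.inr rfl
        rw [SetLike.mem_coe, Subgroup.mem_normalizer_iff]
        intro x
        constructor
        · exact hgenconj g hgm x
        · intro hx
          have := hgenconj g⁻¹ hginv _ hx
          simpa [mul_assoc] using this
      rw [hgen] at hle
      refine ⟨fun x hx g => ?_⟩
      have := hle (Subgroup.mem_top g)
      rw [Subgroup.mem_normalizer_iff] at this
      exact (this x).mp hx
    have hMN : s.sup id = N := by
      rcases hmin _ hnormal hML with h | h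
      · exfalso
        apply hW0
        rw [eq_bot_iff, ← h]
        exact hWle t0 ht0
      · exact h
    rw [hMN] at hcard
    have hm1 : 1 ≤ m := by
      haveI : Finite ↥(TG a) := Subtype.finite
      haveI : Nonempty ↥(TG a) := ⟨⟨1, one_mem_TG a⟩⟩
      exact le_trans Nat.card_pos hm
    have hscard : s.card ≤ m := by
      refine le_trans Finset.card_image_le ?_
      refine le_trans (le_of_eq ?_) hm
      rw [Nat.card_coe_set_eq, Set.ncard_eq_toFinset_card _ hTfin]
    have hprod : ∏ R ∈ s, Nat.card R ≤ (m * m) ^ s.card := by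
      refine Finset.prod_le_pow_card _ _ _ ?_
      intro R hR
      obtain ⟨t, htm, rfl⟩ := Finset.mem_image.mp hR
      exact card_cW_le ha hn hab hexp (hTfin.mem_toFinset.mp htm) m hm
    calc Nat.card N ≤ ∏ R ∈ s, Nat.card R := hcard
      _ ≤ (m * m) ^ s.card := hprod
      _ ≤ (m * m) ^ m := Nat.pow_le_pow_right (Nat.mul_pos hm1 hm1) hscard
      _ = m ^ (2 * m) := by rw [← pow_two, ← pow_mul]

end Cfsg.Agent.Lib.Helper69.InvB
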