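import Mathlib
import Cfsg.Agent.Lib.Helper75.Kulakoff

set_option autoImplicit false

universe u

/-!
# Enumeration formula for subgroups of a `p`-group (Kulakoff step, general form)

`enum_formula`: for a noncyclic group `G` of order `p ^ n` and `0 < a`, `a + 2 ≤ n`,
`s_a(G) + p ≡ ∑_{M maximal} s_a(M) [MOD p ^ 2]`.

`two_step`: the case `p = 2` with the maximal subgroups split in two kinds.
-/

namespace Cfsg.Agent.Lib.Helper69.KulStep

open Cfsg.Agent.Lib.Helper75 Cfsg.Agent.Lib.Helper75.SubCount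

theorem card_index_prime {G : Type u} [Group G] [Finite G] (p : ℕ) [hp : Fact p.Prime] (n : ℕ)
    (hcard : Nat.card G = p ^ n) (hn : 1 ≤ n) (M : Subgroup G) (hM : M.index = p) :
    Nat.card M = p ^ (n - 1) := by
  have h1 := M.card_mul_index
  rw [hM, hcard] at h1
  have h2 : p ^ n = p ^ (n - 1) * p := by rw [← pow_succ]; congr 1; omega
  rw [h2] at h1
  exact Nat.eq_of_mul_eq_mul_right hp.out.pos h1

theorem card_max_modEq {G : Type u} [Group G] [Finite G] (p : ℕ) [hp : Fact p.Prime]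
    (hG : IsPGroup p G) (hnc : ¬ IsCyclic G) :
    Nat.card {M : Subgroup G // M.index = p} ≡ 1 + p [MOD p ^ 2] := by
  have hpp : p.Prime := hp.out
  obtain ⟨d, hd2, hd⟩ := frattini_index_of_not_cyclic hG hnc
  have := (card_max_above hG (frattini G) le_rfl d hd).2 hd2
  have e : {M : Subgroup G // frattini G ≤ M ∧ M.index = p} ≃ {M : Subgroup G // M.index = p} := by
    apply Equiv.subtypeEquivRight
    intro M
    constructor
    · rintro ⟨_, h⟩; exact h
    · intro h; exact ⟨frattini_le_of_index_prime hpp M h, h⟩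
  rwa [Nat.card_congr e] at this

theorem enum_formula (p : ℕ) [hp : Fact p.Prime] (n : ℕ)
    (G : Type u) [Group G] [Finite G] (hcard : Nat.card G = p ^ n) (hnc : ¬ IsCyclic G)
    (a : ℕ) (ha : 0 < a) (han : a + 2 ≤ n) [Fintype {M : Subgroup G // M.index = p}] :
    sN p a G + p ≡ ∑ M : {M : Subgroup G // M.index = p}, sN p a ↥M.1 [MOD p ^ 2] := by
  classical
  have hpp : p.Prime := hp.out
  have hG : IsPGroup p G := IsPGroup.of_card hcard
  obtain ⟨d, hd2, hd⟩ := frattini_index_of_not_cyclic hG hnc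
  let 𝔖 := {U : Subgroup G // Nat.card U = p ^ a}
  let Γ₁ := {M : Subgroup G // M.index = p}
  let Γ₂ := {D : Subgroup G // frattini G ≤ D ∧ D.index = p ^ 2}
  have : Fintype 𝔖 := Fintype.ofFinite _
  have : Fintype Γ₂ := Fintype.ofFinite _
  have hUtop : ∀ U : 𝔖, U.1 ≠ ⊤ := by
    intro U h
    have := U.2
    rw [h, Subgroup.card_top, hcard] at this
    have := Nat.pow_right_injective hpp.two_le this
    omega
  have hA : ∀ U : 𝔖, Nat.card {M : Γ₁ // U.1 ≤ M.1} ≡
      1 + p * Nat.card {D : Γ₂ // U.1 ≤ D.1} [MOD p ^ 2] := by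
    intro U
    have h := card_max_over_modEq hG U.1 (hUtop U)
    have e1 : {M : Γ₁ // U.1 ≤ M.1} ≃ {M : Subgroup G // U.1 ≤ M ∧ M.index = p} :=
      (Equiv.subtypeSubtypeEquivSubtypeInter (fun M : Subgroup G => M.index = p)
        (fun M => U.1 ≤ M)).trans (Equiv.subtypeEquivRight (fun M => and_comm))
    have e2 : {D : Γ₂ // U.1 ≤ D.1} ≃
        {D : Subgroup G // U.1 ≤ D ∧ frattini G ≤ D ∧ D.index = p ^ 2} :=
      (Equiv.subtypeSubtypeEquivSubtypeInter
        (fun D : Subgroup G => frattini G ≤ D ∧ D.index = p ^ 2)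
        (fun D => U.1 ≤ D)).trans (Equiv.subtypeEquivRight (fun D => and_comm))
    rw [Nat.card_congr e1, Nat.card_congr e2]
    exact h
  have hdc1 : ∑ M : Γ₁, Nat.card {U : 𝔖 // U.1 ≤ M.1} = ∑ U : 𝔖, Nat.card {M : Γ₁ // U.1 ≤ M.1} :=
    sum_card_comm (fun (M : Γ₁) (U : 𝔖) => U.1 ≤ M.1)
  have hdc2 : ∑ D : Γ₂, Nat.card {U : 𝔖 // U.1 ≤ D.1} = ∑ U : 𝔖, Nat.card {D : Γ₂ // U.1 ≤ D.1} :=
    sum_card_comm (fun (D : Γ₂) (U : 𝔖) => U.1 ≤ D.1)
  have hΓ₂ : Nat.card Γ₂ ≡ 1 [MOD p] := card_above_modEq_one p (frattini G) d 2 hd hd2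
  have hC : ∑ U : 𝔖, Nat.card {D : Γ₂ // U.1 ≤ D.1} ≡ 1 [MOD p] := by
    rw [← hdc2]
    have h1 : ∑ D : Γ₂, Nat.card {U : 𝔖 // U.1 ≤ D.1} ≡ ∑ _D : Γ₂, 1 [MOD p] := by
      apply sum_modEq
      intro D
      rw [card_le_eq p a D.1]
      apply Cfsg.Agent.Lib.Helper71.card_subgroups_modEq_one
      have h1 := D.1.card_mul_index
      rw [D.2.2, hcard] at h1
      have h2 : p ^ n = p ^ (n - 2) * p ^ 2 := by rw [← pow_add]; congr 1; omega
      rw [h2] at h1
      have h3 : Nat.card D.1 = p ^ (n - 2) := Nat.eq_of_mul_eq_mul_right (pow_pos hpp.pos 2) h1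
      rw [h3]
      exact pow_dvd_pow p (by omega)
    refine h1.trans ?_
    rw [Finset.sum_const, Finset.card_univ, smul_eq_mul, mul_one, ← Nat.card_eq_fintype_card]
    exact hΓ₂
  have hB : ∑ U : 𝔖, Nat.card {M : Γ₁ // U.1 ≤ M.1} ≡ Nat.card 𝔖 + p [MOD p ^ 2] := by
    have h1 := sum_modEq _ _ _ hA
    refine h1.trans ?_
    rw [Finset.sum_add_distrib, Finset.sum_const, Finset.card_univ, smul_eq_mul, mul_one,
      ← Nat.card_eq_fintype_card, ← Finset.mul_sum]
    apply Nat.ModEq.add_left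
    have := Nat.ModEq.mul_left' p hC
    rwa [← pow_two, mul_one] at this
  have hsum : ∑ M : Γ₁, Nat.card {U : 𝔖 // U.1 ≤ M.1} = ∑ M : Γ₁, sN p a ↥M.1 := by
    apply Finset.sum_congr rfl
    intro M _
    exact card_le_eq p a M.1
  rw [← hdc1, hsum] at hB
  exact hB.symm

/-- The `p = 2` evaluation of the enumeration formula. -/
theorem two_step (n : ℕ) (G : Type u) [Group G] [Finite G] (hcard : Nat.card G = 2 ^ n)
    (hnc : ¬ IsCyclic G) (a : ℕ) (ha : 0 < a) (han : a + 2 ≤ n) (bad : Subgroup G → Prop)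
    (hbad : ∀ M : Subgroup G, M.index = 2 → bad M → sN 2 a ↥M ≡ 1 [MOD 4])
    (hgood : ∀ M : Subgroup G, M.index = 2 → ¬ bad M → sN 2 a ↥M ≡ 3 [MOD 4]) :
    sN 2 a G ≡ 3 + 2 * Nat.card {M : Subgroup G // M.index = 2 ∧ bad M} [MOD 4] := by
  classical
  haveI : Fact (Nat.Prime 2) := ⟨Nat.prime_two⟩
  have hG : IsPGroup 2 G := IsPGroup.of_card hcard
  let Γ₁ := {M : Subgroup G // M.index = 2}
  have : Fintype Γ₁ := Fintype.ofFinite _
  have hform := enum_formula 2 n G hcard hnc a ha han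
  have hr : Nat.card Γ₁ ≡ 3 [MOD 4] := card_max_modEq 2 hG hnc
  have hD1 : ∀ M : Γ₁, sN 2 a ↥M.1 ≡ 3 + 2 * (if bad M.1 then 1 else 0) [MOD 4] := by
    intro M
    by_cases hb : bad M.1
    · rw [if_pos hb]
      exact (hbad M.1 M.2 hb).trans (by decide)
    · rw [if_neg hb]
      exact hgood M.1 M.2 hb
  have h1 := sum_modEq _ _ _ hD1
  rw [Finset.sum_add_distrib, ← Finset.mul_sum, Finset.sum_boole, Finset.sum_const,
    Finset.card_univ, smul_eq_mul] at h1
  have h2 : (Finset.univ.filter (fun M : Γ₁ => bad M.1)).card =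
      Nat.card {M : Γ₁ // bad M.1} := by
    rw [Nat.card_eq_fintype_card, Fintype.card_subtype]
  have h3 : Nat.card {M : Γ₁ // bad M.1} = Nat.card {M : Subgroup G // M.index = 2 ∧ bad M} :=
    Nat.card_congr (Equiv.subtypeSubtypeEquivSubtypeInter
      (fun M : Subgroup G => M.index = 2) (fun M => bad M))
  rw [Nat.cast_id, h2, h3, ← Nat.card_eq_fintype_card] at h1
  have h4 := hform.trans h1
  set N := Nat.card {M : Subgroup G // M.index = 2 ∧ bad M} with hN
  set r := Nat.card Γ₁ with hrdef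
  set s := sN 2 a G with hs
  unfold Nat.ModEq at h4 hr ⊢
  norm_num at h4 hr ⊢
  omega

end Cfsg.Agent.Lib.Helper69.KulStep
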