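import Mathlib
import Cfsg.Agent.Lib.Helper69.CycMax2
import Cfsg.Agent.Lib.Helper75.EnumPrinciple
import Cfsg.Agent.Lib.Helper78.AbelianIndexTwo
import Cfsg.Agent.Lib.Helper26.NormalP3
import Cfsg.Agent.S4023

set_option autoImplicit false

universe u

/-!
# Maximal subgroups of maximal class in a 2-group not of maximal class

`even_card_maxclass_max`: a group of order `2 ^ n ≥ 16` whose class is not `n - 1` has an even
number of maximal subgroups of class `n - 2`.
-/

namespace Cfsg.Agent.Lib.Helper69.MaxClassEven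

open Subgroup
open scoped commutatorElement
open Cfsg.Agent.Lib.Helper69.CycMax2

theorem card_subtype_split {α : Type*} [Finite α] (p q : α → Prop) :
    Nat.card {x // p x} = Nat.card {x // p x ∧ q x} + Nat.card {x // p x ∧ ¬ q x} := by
  classical
  rw [← Nat.card_sum]
  apply Nat.card_congr
  exact ((Equiv.sumCompl (fun x : {x // p x} => q x.1)).symm.trans
    (Equiv.sumCongr (Equiv.subtypeSubtypeEquivSubtypeInter p q)
      (Equiv.subtypeSubtypeEquivSubtypeInter p (fun x => ¬ q x))))

/-- groups of order 16 with derived subgroup of order 2 have an even number of nonabelian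
maximal subgroups. -/
theorem q16 {Q : Type u} [Group Q] [Finite Q] (hcard : Nat.card Q = 16)
    (h8 : (commutator Q).index = 8) :
    Even (Nat.card {A : Subgroup Q // A.index = 2 ∧ ¬ ∀ a ∈ A, ∀ b ∈ A, a * b = b * a}) := by
  classical
  haveI : Fact (Nat.Prime 2) := ⟨Nat.prime_two⟩
  have hcard' : Nat.card Q = 2 ^ 4 := by rw [hcard]; norm_num
  have hQ : IsPGroup 2 Q := IsPGroup.of_card hcard'
  have hc2 : Nat.card (commutator Q) = 2 := by
    have := (commutator Q).card_mul_index
    rw [h8, hcard] at this; omega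
  have hna : ∃ u v : Q, u * v ≠ v * u := by
    by_contra hcon
    push Not at hcon
    have : commutator Q = ⊥ := by
      rw [_root_.commutator_def, eq_bot_iff, Subgroup.commutator_le]
      intro a _ b _
      rw [Subgroup.mem_bot, commutatorElement_eq_one_iff_mul_comm]
      exact hcon a b
    rw [this, Subgroup.card_bot] at hc2; omega
  obtain ⟨A₀, hA₀d, hA₀c⟩ := Cfsg.Agent.S4023.exists_abelian_large hQ (by rw [hcard'])
  have hA₀card : Nat.card A₀ = 8 := by
    have h1 : Nat.card A₀ ∣ 16 := hcard ▸ Subgroup.card_subgroup_dvd_card A₀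
    have h2 : Nat.card A₀ ≠ 16 := by
      intro h16
      have htop : A₀ = ⊤ := Subgroup.eq_top_of_card_eq A₀ (by rw [h16, hcard])
      obtain ⟨u, v, huv⟩ := hna
      exact huv (hA₀c u (htop ▸ mem_top u) v (htop ▸ mem_top v))
    have h3 : 8 ∣ Nat.card A₀ := by simpa using hA₀d
    obtain ⟨k, hk⟩ := h3
    have h4 : Nat.card A₀ ≤ 16 := Nat.le_of_dvd (by norm_num) h1
    have h5 : 0 < Nat.card A₀ := Nat.card_pos
    omega
  have hA₀i : A₀.index = 2 := by
    have := A₀.card_mul_index; rw [hA₀card, hcard] at this; omega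
  have hZ4 : Nat.card (Subgroup.center Q) = 4 := by
    have := Cfsg.Agent.Lib.Helper78.card_eq_card_center_mul_card_commutator A₀ hA₀c hA₀i hna
    rw [hA₀card, hc2] at this; omega
  have hZi : (Subgroup.center Q).index = 2 ^ 2 := by
    have := (Subgroup.center Q).card_mul_index; rw [hZ4, hcard] at this; omega
  have hchar : ∀ A : Subgroup Q, A.index = 2 →
      ((∀ a ∈ A, ∀ b ∈ A, a * b = b * a) ↔ Subgroup.center Q ≤ A) := by
    intro A hA
    constructor
    · intro hab
      exact Cfsg.Agent.Lib.Helper78.center_le_of_index_two A hab hA hna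
    · intro hle
      have hAcard : Nat.card A = 8 := by
        have := A.card_mul_index; rw [hA, hcard] at this; omega
      exact Cfsg.Agent.Lib.Helper26.comm_of_card_eq_prime_mul (p := 2) (Subgroup.center Q) A hle
        (fun n _ a ha => Subgroup.mem_center_iff.mp ha n) (by rw [hAcard, hZ4])
  have hab_count :
      Nat.card {A : Subgroup Q // Subgroup.center Q ≤ A ∧ A.index = 2 ^ 1} ≡ 1 [MOD 2] :=
    Cfsg.Agent.Lib.Helper75.SubCount.card_above_modEq_one 2 (Subgroup.center Q) 2 1 hZi
      (by norm_num)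
  have htot : Nat.card {A : Subgroup Q // (⊥ : Subgroup Q) ≤ A ∧ A.index = 2 ^ 1} ≡ 1 [MOD 2] :=
    Cfsg.Agent.Lib.Helper75.SubCount.card_above_modEq_one 2 ⊥ 4 1
      (by rw [Subgroup.index_bot, hcard']) (by norm_num)
  have e1 : {A : Subgroup Q // Subgroup.center Q ≤ A ∧ A.index = 2 ^ 1} ≃
      {A : Subgroup Q // A.index = 2 ∧ ∀ a ∈ A, ∀ b ∈ A, a * b = b * a} := by
    apply Equiv.subtypeEquivRight
    intro A
    rw [pow_one]
    constructor
    · rintro ⟨h1, h2⟩; exact ⟨h2, (hchar A h2).mpr h1⟩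
    · rintro ⟨h1, h2⟩; exact ⟨(hchar A h1).mp h2, h1⟩
  have e2 : {A : Subgroup Q // (⊥ : Subgroup Q) ≤ A ∧ A.index = 2 ^ 1} ≃
      {A : Subgroup Q // A.index = 2} := by
    apply Equiv.subtypeEquivRight
    intro A
    rw [pow_one]
    exact ⟨fun h => h.2, fun h => ⟨bot_le, h⟩⟩
  rw [Nat.card_congr e1] at hab_count
  rw [Nat.card_congr e2] at htot
  have hsplit := card_subtype_split (fun A : Subgroup Q => A.index = 2)
    (fun A => ∀ a ∈ A, ∀ b ∈ A, a * b = b * a)
  rw [hsplit] at htot
  unfold Nat.ModEq at hab_count htot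
  rw [Nat.even_iff]
  omega

theorem mem_zpowers_zpow_of_odd {G : Type*} [Group G] (g : G) (t : ℕ) (hord : orderOf g = 2 ^ t)
    (j : ℤ) (hj : j % 2 = 1) : g ∈ zpowers (g ^ j) := by
  obtain ⟨i, hi⟩ : ∃ i, j = 2 * i + 1 := ⟨j / 2, by omega⟩
  have h1 : IsCoprime j (2 : ℤ) := ⟨1, -i, by rw [hi]; ring⟩
  have h2 : IsCoprime j ((2 : ℤ) ^ t) := h1.pow_right
  obtain ⟨u, v, huv⟩ := h2
  have h3 : g ^ ((2 : ℤ) ^ t) = 1 := by
    have : ((2 : ℤ) ^ t) = ((2 ^ t : ℕ) : ℤ) := by push_cast; rfl
    rw [this, zpow_natCast, ← hord, pow_orderOf_eq_one]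
  have : g = (g ^ j) ^ u := by
    calc g = g ^ (1 : ℤ) := (zpow_one g).symm
      _ = g ^ (u * j + v * 2 ^ t) := by rw [huv]
      _ = (g ^ j) ^ u * (g ^ ((2 : ℤ) ^ t)) ^ v := by
          rw [zpow_add, mul_comm u j, zpow_mul, mul_comm v, zpow_mul]
      _ = (g ^ j) ^ u := by rw [h3, one_zpow, mul_one]
  have hmem : (g ^ j) ^ u ∈ zpowers (g ^ j) := zpow_mem (mem_zpowers (g ^ j)) u
  rwa [← this] at hmem

theorem not_mem_zpowers_sq {G : Type*} [Group G] (g : G) (t : ℕ) (hord : orderOf g = 2 ^ (t + 1)) :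
    g ∉ zpowers (g ^ 2) := by
  intro hmem
  obtain ⟨j, hj⟩ := Subgroup.mem_zpowers_iff.mp hmem
  have h1 : g ^ (2 * j - 1) = 1 := by
    rw [zpow_sub, zpow_one, zpow_mul]
    have : g ^ (2 : ℤ) = g ^ 2 := zpow_natCast g 2
    rw [this, hj, mul_inv_cancel]
  have h2 := orderOf_dvd_iff_zpow_eq_one.mpr h1
  rw [hord] at h2
  have h3 : (2 : ℤ) ∣ ((2 ^ (t + 1) : ℕ) : ℤ) := by
    push_cast
    exact dvd_pow_self 2 (by omega)
  have := dvd_trans h3 h2
  omega

/-- **E(iii)**: a group of order `2 ^ n ≥ 16` which is not of maximal class has an even number of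
maximal subgroups of maximal class. -/
theorem even_card_maxclass_max {G : Type u} [Group G] [Finite G] (n : ℕ) (hn : 4 ≤ n)
    (hcard : Nat.card G = 2 ^ n) (hcl : Group.nilpotencyClass G ≠ n - 1) :
    Even (Nat.card {M : Subgroup G // M.index = 2 ∧ Group.nilpotencyClass ↥M = n - 2}) := by
  classical
  haveI : Fact (Nat.Prime 2) := ⟨Nat.prime_two⟩
  by_cases hex : ∃ M : Subgroup G, M.index = 2 ∧ Group.nilpotencyClass ↥M = n - 2
  swap
  · have : IsEmpty {M : Subgroup G // M.index = 2 ∧ Group.nilpotencyClass ↥M = n - 2} :=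
      ⟨fun M => hex ⟨M.1, M.2⟩⟩
    rw [Nat.card_of_isEmpty]; exact Even.zero
  obtain ⟨M₀, hM₀i, hM₀c⟩ := hex
  obtain ⟨k, rfl⟩ : ∃ k, n = k + 2 + 1 + 1 := ⟨n - 4, by omega⟩
  have hG : IsPGroup 2 G := IsPGroup.of_card hcard
  have hM₀card : Nat.card M₀ = 2 ^ (k + 2 + 1) := card_of_index_two M₀ (k + 2 + 1) hcard hM₀i
  have h4₀ : (commutator ↥M₀).index = 4 :=
    Cfsg.Agent.Lib.Helper78.index_commutator_of_maximal_class (k + 2 + 1) ↥M₀ (by omega) hM₀card
      (by simpa using hM₀c)
  have h8₀ : 8 ≤ Nat.card ↥M₀ := by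
    rw [hM₀card]
    calc 8 = 2 ^ 3 := by norm_num
      _ ≤ 2 ^ (k + 2 + 1) := Nat.pow_le_pow_right two_pos (by omega)
  obtain ⟨C₀, hC₀c, hC₀i⟩ :=
    Cfsg.Agent.Lib.Helper78.exists_cyclic_index_two (hG.to_subgroup M₀) h4₀ h8₀
  obtain ⟨c₀, rfl, hord₀⟩ := cyclic_max_eq_zpowers C₀ (k + 2) hM₀card hC₀i hC₀c
  obtain ⟨y, hy⟩ := exists_not_mem_of_index_two _ hC₀i
  obtain ⟨r, s, hr, hs⟩ := exists_exponents c₀ y hC₀i
  have hrodd := r_odd c₀ y (k + 2) r (by omega) hord₀ hr
  have hr3 : r % 4 = 3 := by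
    by_contra hne
    have hr1 : r % 4 = 1 := by omega
    exact not_maxclass_of_one c₀ y k r hC₀i hy hord₀ hr hr1 (by simpa using hM₀c)
  have hcomm₀ := (commutator_eq_of_three c₀ y k r hC₀i hord₀ hr hr3).1
  obtain ⟨g, hg⟩ : ∃ g : G, g = (c₀ : G) ^ 2 := ⟨_, rfl⟩
  have hgord : orderOf g = 2 ^ (k + 1) := by
    have h1 : orderOf (c₀ ^ 2) = 2 ^ (k + 1) := by
      rw [orderOf_pow_of_dvd (by norm_num) (by rw [hord₀]; exact dvd_pow_self 2 (by omega)), hord₀]
      have : 2 ^ (k + 2) = 2 ^ (k + 1) * 2 := by ring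
      rw [this, Nat.mul_div_cancel _ two_pos]
    rw [← h1, ← Subgroup.orderOf_coe, hg]
    rfl
  have hD : (commutator ↥M₀).map M₀.subtype = zpowers g := by
    rw [hcomm₀, MonoidHom.map_zpowers, hg]
    rfl
  have hmaple : ∀ M : Subgroup G, (commutator ↥M).map M.subtype ≤ commutator G := by
    intro M
    rw [_root_.commutator_def, _root_.commutator_def, Subgroup.map_commutator]
    exact Subgroup.commutator_mono le_top le_top
  have hDle : zpowers g ≤ commutator G := hD ▸ hmaple M₀
  have hgcard : Nat.card (zpowers g) = 2 ^ (k + 1) := by rw [Nat.card_zpowers, hgord]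
  have hgi : (zpowers g).index = 8 := by
    have := (zpowers g).card_mul_index
    rw [hgcard, hcard] at this
    have h8 : 2 ^ (k + 2 + 1 + 1) = 2 ^ (k + 1) * 8 := by ring
    rw [h8] at this
    exact Nat.eq_of_mul_eq_mul_left (pow_pos two_pos _) this
  have hGnc : ¬ IsCyclic G := by
    intro hcyc
    have : commutator ↥M₀ = ⊥ := by
      rw [_root_.commutator_def, eq_bot_iff, Subgroup.commutator_le]
      intro a _ b _
      rw [Subgroup.mem_bot, commutatorElement_eq_one_iff_mul_comm]
      exact Subtype.ext ((IsCyclic.isMulCommutative (α := G)).is_comm.comm a.1 b.1)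
    rw [this, Subgroup.index_bot] at h4₀
    omega
  have hci : (commutator G).index = 8 := by
    have hdvd : (commutator G).index ∣ 8 := hgi ▸ Subgroup.index_dvd_of_le hDle
    have hne4 : (commutator G).index ≠ 4 := fun h4 =>
      hcl (Cfsg.Agent.Lib.Helper78.nilpotencyClass_of_index_four (k + 2 + 1 + 1) G (by omega)
        hcard h4)
    obtain ⟨d, hd2, hd⟩ := Cfsg.Agent.Lib.Helper75.SubCount.frattini_index_of_not_cyclic hG hGnc
    have hcf : commutator G ≤ frattini G :=
      Cfsg.Agent.Lib.Helper03.commutator_le_frattini_of_isPGroup hG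
    have h4d : 4 ∣ (commutator G).index := by
      have h1 : (frattini G).index ∣ (commutator G).index := Subgroup.index_dvd_of_le hcf
      rw [hd] at h1
      refine dvd_trans ?_ h1
      have : (4 : ℕ) = 2 ^ 2 := by norm_num
      rw [this]; exact pow_dvd_pow 2 hd2
    have hle8 := Nat.le_of_dvd (by norm_num) hdvd
    have hpos : 0 < (commutator G).index := Nat.pos_of_dvd_of_pos hdvd (by norm_num)
    obtain ⟨j, hj⟩ := h4d
    omega
  have hcomm : commutator G = zpowers g := by
    symm
    apply Subgroup.eq_of_le_of_card_ge hDle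
    have h1 := (commutator G).card_mul_index
    have h2 := (zpowers g).card_mul_index
    rw [hci] at h1; rw [hgi] at h2
    omega
  -- the subgroup `K`
  have hKn : (zpowers (g ^ 2)).Normal := by
    constructor
    intro k' hk' h
    obtain ⟨i, rfl⟩ := Subgroup.mem_zpowers_iff.mp hk'
    have hconj : h * g * h⁻¹ ∈ zpowers g := by
      have hgc : g ∈ commutator G := hcomm ▸ mem_zpowers g
      have := (inferInstance : (commutator G).Normal).conj_mem g hgc h
      rwa [hcomm] at this
    obtain ⟨j, hj⟩ := Subgroup.mem_zpowers_iff.mp hconj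
    rw [← conj_zpow]
    apply zpow_mem
    rw [← conj_pow, ← hj, Subgroup.mem_zpowers_iff]
    refine ⟨j, ?_⟩
    rw [← zpow_natCast, ← zpow_natCast, ← zpow_mul, ← zpow_mul, mul_comm]
  obtain ⟨K, hK⟩ : ∃ K : Subgroup G, K = zpowers (g ^ 2) := ⟨_, rfl⟩
  haveI : K.Normal := hK ▸ hKn
  have hKle : K ≤ commutator G := by
    rw [hcomm, hK]; exact zpowers_le.mpr (pow_mem (mem_zpowers g) 2)
  have hKi : K.index = 16 := by
    have hg2 : orderOf (g ^ 2) = 2 ^ k := by
      rw [orderOf_pow_of_dvd (by norm_num) (by rw [hgord]; exact dvd_pow_self 2 (by omega)), hgord]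
      have : 2 ^ (k + 1) = 2 ^ k * 2 := by ring
      rw [this, Nat.mul_div_cancel _ two_pos]
    have := K.card_mul_index
    rw [hK, Nat.card_zpowers, hg2, hcard] at this
    have h16 : 2 ^ (k + 2 + 1 + 1) = 2 ^ k * 16 := by ring
    rw [h16] at this
    rw [hK]
    exact Nat.eq_of_mul_eq_mul_left (pow_pos two_pos _) this
  have hπs : Function.Surjective (QuotientGroup.mk' K) := QuotientGroup.mk'_surjective K
  have hQcard : Nat.card (G ⧸ K) = 16 := by rw [← Subgroup.index_eq_card, hKi]
  have hQcomm : (commutator (G ⧸ K)).index = 8 := by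
    have : commutator (G ⧸ K) = (commutator G).map (QuotientGroup.mk' K) := by
      rw [_root_.commutator_def, _root_.commutator_def, Subgroup.map_commutator,
        Subgroup.map_top_of_surjective _ hπs]
    rw [this, Subgroup.index_map_eq _ hπs (by rw [QuotientGroup.ker_mk']; exact hKle), hci]
  have hQ := q16 hQcard hQcomm
  have hKM : ∀ M : Subgroup G, M.index = 2 → K ≤ M := fun M hM =>
    hKle.trans ((Cfsg.Agent.Lib.Helper03.commutator_le_frattini_of_isPGroup hG).trans
      (Cfsg.Agent.Lib.Helper75.SubCount.frattini_le_of_index_prime Nat.prime_two M hM))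
  -- the key equivalence
  have key : ∀ M : Subgroup G, M.index = 2 →
      (Group.nilpotencyClass ↥M = k + 2 + 1 + 1 - 2 ↔
        ¬ ∀ a ∈ M.map (QuotientGroup.mk' K), ∀ b ∈ M.map (QuotientGroup.mk' K), a * b = b * a) := by
    intro M hM
    have hMcard : Nat.card M = 2 ^ (k + 2 + 1) := card_of_index_two M (k + 2 + 1) hcard hM
    have hDM : (commutator ↥M).map M.subtype ≤ zpowers g := hcomm ▸ hmaple M
    have hDMcard : Nat.card ((commutator ↥M).map M.subtype) = Nat.card (commutator ↥M) :=
      Subgroup.card_map_of_injective M.subtype_injective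
    have hab_iff : (∀ a ∈ M.map (QuotientGroup.mk' K), ∀ b ∈ M.map (QuotientGroup.mk' K),
        a * b = b * a) ↔ ∀ a ∈ M, ∀ b ∈ M, ⁅a, b⁆ ∈ K := by
      constructor
      · intro hab a ha b hb
        have := hab _ (Subgroup.mem_map_of_mem (QuotientGroup.mk' K) ha) _
          (Subgroup.mem_map_of_mem (QuotientGroup.mk' K) hb)
        rw [← QuotientGroup.eq_one_iff (N := K)]
        show (QuotientGroup.mk' K) ⁅a, b⁆ = 1
        rw [map_commutatorElement, commutatorElement_eq_one_iff_mul_comm]
        exact this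
      · intro hK' a' ha' b' hb'
        obtain ⟨a, ha, rfl⟩ := ha'
        obtain ⟨b, hb, rfl⟩ := hb'
        have := hK' a ha b hb
        rw [← QuotientGroup.eq_one_iff (N := K)] at this
        have h2 : ⁅(QuotientGroup.mk' K) a, (QuotientGroup.mk' K) b⁆ = 1 := by
          rw [← map_commutatorElement]; exact this
        exact commutatorElement_eq_one_iff_mul_comm.mp h2
    constructor
    · intro hclM hab
      rw [hab_iff] at hab
      have h4M := Cfsg.Agent.Lib.Helper78.index_commutator_of_maximal_class (k + 2 + 1) ↥M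
        (by omega) hMcard (by simpa using hclM)
      have hc : Nat.card (commutator ↥M) = 2 ^ (k + 1) := by
        have := (commutator ↥M).card_mul_index
        rw [h4M, hMcard] at this
        have h' : 2 ^ (k + 2 + 1) = 2 ^ (k + 1) * 4 := by ring
        rw [h'] at this
        exact Nat.eq_of_mul_eq_mul_right (by norm_num) this
      have heq : (commutator ↥M).map M.subtype = zpowers g :=
        Subgroup.eq_of_le_of_card_ge hDM (by rw [hDMcard, hc, hgcard])
      have hgK : g ∈ K := by
        have h1 : g ∈ (commutator ↥M).map M.subtype := heq ▸ mem_zpowers g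
        have h2 : (commutator ↥M).map M.subtype ≤ K := by
          rw [_root_.commutator_def, Subgroup.map_commutator, Subgroup.commutator_le]
          intro a ha b hb
          have haM : a ∈ M := by obtain ⟨a', _, rfl⟩ := ha; exact a'.2
          have hbM : b ∈ M := by obtain ⟨b', _, rfl⟩ := hb; exact b'.2
          exact hab a haM b hbM
        exact h2 h1
      rw [hK] at hgK
      exact not_mem_zpowers_sq g k hgord hgK
    · intro hnab
      rw [hab_iff] at hnab
      push Not at hnab
      obtain ⟨a, ha, b, hb, hab⟩ := hnab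
      have h1 : ⁅a, b⁆ ∈ zpowers g := by
        rw [← hcomm, _root_.commutator_def]
        exact Subgroup.commutator_mem_commutator (mem_top a) (mem_top b)
      obtain ⟨j, hj⟩ := Subgroup.mem_zpowers_iff.mp h1
      have hjodd : j % 2 = 1 := by
        by_contra hje
        apply hab
        obtain ⟨i, hi⟩ : ∃ i, j = 2 * i := ⟨j / 2, by omega⟩
        rw [← hj, hi, zpow_mul, hK]
        apply zpow_mem
        have : g ^ (2 : ℤ) = g ^ 2 := zpow_natCast g 2
        rw [this]
        exact mem_zpowers _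
      have hg_mem : g ∈ zpowers ⁅a, b⁆ := by
        rw [← hj]; exact mem_zpowers_zpow_of_odd g (k + 1) hgord j hjodd
      have h2 : ⁅a, b⁆ ∈ (commutator ↥M).map M.subtype := by
        refine ⟨⁅(⟨a, ha⟩ : ↥M), ⟨b, hb⟩⁆, ?_, ?_⟩
        · rw [SetLike.mem_coe, _root_.commutator_def]
          exact Subgroup.commutator_mem_commutator (mem_top _) (mem_top _)
        · rw [map_commutatorElement]; rfl
      have h3 : zpowers g ≤ (commutator ↥M).map M.subtype :=
        zpowers_le.mpr ((zpowers_le.mpr h2) hg_mem)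
      have heq : (commutator ↥M).map M.subtype = zpowers g := le_antisymm hDM h3
      have hc : Nat.card (commutator ↥M) = 2 ^ (k + 1) := by rw [← hDMcard, heq, hgcard]
      have h4M : (commutator ↥M).index = 4 := by
        have := (commutator ↥M).card_mul_index
        rw [hc, hMcard] at this
        have h' : 2 ^ (k + 2 + 1) = 2 ^ (k + 1) * 4 := by ring
        rw [h'] at this
        exact Nat.eq_of_mul_eq_mul_left (pow_pos two_pos _) this
      have := Cfsg.Agent.Lib.Helper78.nilpotencyClass_of_index_four (k + 2 + 1) ↥M (by omega)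
        hMcard h4M
      rw [this]
      omega
  have e : {M : Subgroup G // M.index = 2 ∧ Group.nilpotencyClass ↥M = k + 2 + 1 + 1 - 2} ≃
      {A : Subgroup (G ⧸ K) // A.index = 2 ∧ ¬ ∀ a ∈ A, ∀ b ∈ A, a * b = b * a} :=
    { toFun := fun M => ⟨M.1.map (QuotientGroup.mk' K), by
          rw [Subgroup.index_map_eq _ hπs (by rw [QuotientGroup.ker_mk']; exact hKM M.1 M.2.1)]
          exact M.2.1, (key M.1 M.2.1).mp M.2.2⟩
      invFun := fun A =>
        have hi : (A.1.comap (QuotientGroup.mk' K)).index = 2 := by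
          rw [Subgroup.index_comap_of_surjective _ hπs]; exact A.2.1
        ⟨A.1.comap (QuotientGroup.mk' K), hi, (key _ hi).mpr (by
          rw [Subgroup.map_comap_eq_self_of_surjective hπs]; exact A.2.2)⟩
      left_inv := fun M => Subtype.ext (Subgroup.comap_map_eq_self (by
        rw [QuotientGroup.ker_mk']; exact hKM M.1 M.2.1))
      right_inv := fun A => Subtype.ext (Subgroup.map_comap_eq_self_of_surjective hπs A.1) }
  rw [Nat.card_congr e]
  exact hQ

end Cfsg.Agent.Lib.Helper69.MaxClassEven
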