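import Mathlib

/-!
# K-NQ-P2 (keystone 278702, S2787): `O_p(PSL₂(F)) = 1` for `|F| = p^n` odd

Uniform matrix proof (no Sylow theory, no simplicity): every `k` in the preimage of a normal
`p`-subgroup has `k ^ p ^ j = ± 1`, hence `tr k = ± 2`; the trace of the commutator with an upper
unitriangular matrix is `2 + c² t²`, which forces `c = 0`; by symmetry `b = 0`, and then `k = ± 1`.
-/

set_option autoImplicit false

namespace Cfsg.Agent.Lib.Helper69.NQ

open Matrix

variable {F : Type*} [Field F]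

/-- upper unitriangular matrix -/
def uu (t : F) : Matrix.SpecialLinearGroup (Fin 2) F :=
  ⟨!![1, t; 0, 1], by simp [Matrix.det_fin_two_of]⟩

/-- the Weyl element -/
def ww : Matrix.SpecialLinearGroup (Fin 2) F :=
  ⟨!![0, 1; -1, 0], by simp [Matrix.det_fin_two_of]⟩

theorem uu_coe (t : F) : ((uu t : Matrix.SpecialLinearGroup (Fin 2) F) :
    Matrix (Fin 2) (Fin 2) F) = !![1, t; 0, 1] := rfl

theorem ww_coe : ((ww : Matrix.SpecialLinearGroup (Fin 2) F) :
    Matrix (Fin 2) (Fin 2) F) = !![0, 1; -1, 0] := rfl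

theorem det_eq (g : Matrix.SpecialLinearGroup (Fin 2) F) :
    g.1 0 0 * g.1 1 1 - g.1 0 1 * g.1 1 0 = 1 := by
  have := g.det_coe
  rwa [Matrix.det_fin_two] at this

theorem trace_comm_uu (g : Matrix.SpecialLinearGroup (Fin 2) F) (t : F) :
    Matrix.trace ((g * uu t * g⁻¹ * (uu t)⁻¹ : Matrix.SpecialLinearGroup (Fin 2) F) :
      Matrix (Fin 2) (Fin 2) F) = 2 + (g.1 1 0) ^ 2 * t ^ 2 := by
  have hdet := det_eq g
  simp only [Matrix.SpecialLinearGroup.coe_mul, Matrix.SpecialLinearGroup.coe_inv, uu_coe,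
    Matrix.adjugate_fin_two, Matrix.trace_fin_two, Matrix.mul_apply, Fin.sum_univ_two]
  simp
  linear_combination (2 : F) * hdet

theorem ww_conj_apply (g : Matrix.SpecialLinearGroup (Fin 2) F) :
    ((ww * g * ww⁻¹ : Matrix.SpecialLinearGroup (Fin 2) F) : Matrix (Fin 2) (Fin 2) F) 1 0 =
      - g.1 0 1 := by
  simp only [Matrix.SpecialLinearGroup.coe_mul, Matrix.SpecialLinearGroup.coe_inv, ww_coe,
    Matrix.adjugate_fin_two, Matrix.mul_apply, Fin.sum_univ_two]
  simp

theorem trace_sq (g : Matrix.SpecialLinearGroup (Fin 2) F) :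
    Matrix.trace ((g.1) ^ 2) = (Matrix.trace g.1) ^ 2 - 2 := by
  have hdet := det_eq g
  simp only [pow_two, Matrix.trace_fin_two, Matrix.mul_apply, Fin.sum_univ_two]
  linear_combination (-2 : F) * hdet

/-- if a power `p ^ j` of `k` is central then `tr k = ± 2` -/
theorem trace_sq_eq_four {p : ℕ} [Fact p.Prime] [CharP F p]
    (k : Matrix.SpecialLinearGroup (Fin 2) F) (j : ℕ)
    (hk : k ^ p ^ j ∈ Subgroup.center (Matrix.SpecialLinearGroup (Fin 2) F)) :
    (Matrix.trace k.1) ^ 2 = 4 := by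
  rw [Matrix.SpecialLinearGroup.mem_center_iff] at hk
  obtain ⟨r, hr, hrk⟩ := hk
  have hr2 : r ^ 2 = 1 := by simpa using hr
  have hM : (k.1) ^ p ^ j = Matrix.scalar (Fin 2) r := by
    rw [hrk, Matrix.SpecialLinearGroup.coe_pow]
  have h1 : ((k.1) ^ 2) ^ p ^ j = 1 := by
    rw [← pow_mul, mul_comm, pow_mul, hM, ← map_pow, hr2, map_one]
  have h2 : ((k.1) ^ 2 - 1) ^ p ^ j = 0 := by
    rw [sub_pow_char_pow_of_commute p j (Commute.one_right _), h1, one_pow, sub_self]
  have h3 : IsNilpotent ((k.1) ^ 2 - 1) := ⟨p ^ j, h2⟩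
  have h4 := (Matrix.isNilpotent_trace_of_isNilpotent h3).eq_zero
  rw [Matrix.trace_sub, trace_sq, Matrix.trace_one] at h4
  simp only [Fintype.card_fin] at h4
  push_cast at h4
  linear_combination h4

theorem charP_of_card [Fintype F] {p : ℕ} [hp : Fact p.Prime] (n : ℕ)
    (hF : Fintype.card F = p ^ n) : CharP F p := by
  obtain ⟨p', hp'⟩ := CharP.exists F
  obtain ⟨n', hp'prime, hcard⟩ := FiniteField.card F p'
  have hdvd : p' ∣ p ^ n := by
    rw [← hF, hcard]
    exact dvd_pow_self p' n'.ne_zero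
  have : p' = p := (Nat.prime_dvd_prime_iff_eq hp'prime hp.out).mp (hp'prime.dvd_of_dvd_pow hdvd)
  rw [← this]
  exact hp'

theorem psl2_normal_pgroup_eq_bot {F : Type*} [Field F] [Fintype F] {p : ℕ} [Fact p.Prime] (n : ℕ)
    (hF : Fintype.card F = p ^ n) (hodd : Odd (Fintype.card F))
    (N : Subgroup (Matrix.ProjectiveSpecialLinearGroup (Fin 2) F)) (hN : N.Normal) (hNp : IsPGroup p N) :
    N = ⊥ := by
  have : CharP F p := charP_of_card n hF
  have h2 : (2 : F) ≠ 0 := by
    intro h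
    have hchar : ringChar F = 2 := by
      have h' : ((2 : ℕ) : F) = 0 := by exact_mod_cast h
      have hdvd := ringChar.dvd h'
      rcases (Nat.dvd_prime Nat.prime_two).mp hdvd with h1 | h1
      · exfalso
        have := CharP.ringChar_ne_one (R := F)
        exact this h1
      · exact h1
    have := FiniteField.even_card_iff_char_two.mp hchar
    rcases hodd with ⟨m, hm⟩
    omega
  set π : Matrix.SpecialLinearGroup (Fin 2) F →* Matrix.ProjectiveSpecialLinearGroup (Fin 2) F :=
    QuotientGroup.mk' (Subgroup.center (Matrix.SpecialLinearGroup (Fin 2) F)) with hπ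
  have hker : ∀ g : Matrix.SpecialLinearGroup (Fin 2) F,
      π g = 1 ↔ g ∈ Subgroup.center (Matrix.SpecialLinearGroup (Fin 2) F) := by
    intro g
    exact QuotientGroup.eq_one_iff g
  have htr : ∀ g : Matrix.SpecialLinearGroup (Fin 2) F, π g ∈ N → (Matrix.trace g.1) ^ 2 = 4 := by
    intro g hg
    obtain ⟨j, hj⟩ := hNp ⟨π g, hg⟩
    have h1 : (π g) ^ p ^ j = 1 := by simpa using congrArg Subtype.val hj
    apply trace_sq_eq_four g j
    rw [← hker, map_pow, h1]
  have hc : ∀ g : Matrix.SpecialLinearGroup (Fin 2) F, π g ∈ N → g.1 1 0 = 0 := by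
    intro g hg
    by_contra hc0
    have hcomm : ∀ t : F, (g.1 1 0) ^ 2 * t ^ 2 = 0 ∨ (g.1 1 0) ^ 2 * t ^ 2 = -4 := by
      intro t
      have hk : π (g * uu t * g⁻¹ * (uu t)⁻¹) ∈ N := by
        have : π (g * uu t * g⁻¹ * (uu t)⁻¹) = π g * (π (uu t) * (π g)⁻¹ * (π (uu t))⁻¹) := by
          simp [mul_assoc]
        rw [this]
        exact N.mul_mem hg (hN.conj_mem _ (N.inv_mem hg) _)
      have h4 := htr _ hk
      rw [trace_comm_uu] at h4
      have h' : ((g.1 1 0) ^ 2 * t ^ 2) * ((g.1 1 0) ^ 2 * t ^ 2 + 4) = 0 := by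
        linear_combination h4
      rcases mul_eq_zero.mp h' with h0 | h0
      · left; exact h0
      · right; linear_combination h0
    set c := g.1 1 0 with hcdef
    have hc2 : c ^ 2 ≠ 0 := pow_ne_zero 2 hc0
    have e1 : c ^ 2 = -4 := by
      rcases hcomm 1 with h | h
      · exfalso; apply hc2; simpa using h
      · simpa using h
    have e2 : c ^ 2 * 4 = -4 := by
      rcases hcomm 2 with h | h
      · exfalso
        have : c ^ 2 * 2 ^ 2 ≠ 0 := mul_ne_zero hc2 (pow_ne_zero 2 h2)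
        exact this h
      · linear_combination h
    have h12 : (12 : F) = 0 := by linear_combination 4 * e1 - e2
    rcases hcomm c with h | h
    · apply hc2
      have : c ^ 2 * c ^ 2 = 0 := h
      exact mul_self_eq_zero.mp this
    · have h20 : (20 : F) = 0 := by linear_combination h - (c ^ 2 - 4) * e1
      have h8 : (2 : F) ^ 3 = 0 := by linear_combination h20 - h12
      exact h2 ((pow_eq_zero_iff (by norm_num)).mp h8)
  have hb : ∀ g : Matrix.SpecialLinearGroup (Fin 2) F, π g ∈ N → g.1 0 1 = 0 := by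
    intro g hg
    have hk : π (ww * g * ww⁻¹) ∈ N := by
      have : π (ww * g * ww⁻¹) = π ww * π g * (π ww)⁻¹ := by simp
      rw [this]
      exact hN.conj_mem _ hg _
    have := hc _ hk
    rw [ww_conj_apply] at this
    exact neg_eq_zero.mp this
  rw [eq_bot_iff]
  intro x hx
  obtain ⟨g, rfl⟩ := QuotientGroup.mk_surjective x
  have hg : π g ∈ N := hx
  rw [Subgroup.mem_bot]
  change π g = 1
  rw [hker, Matrix.SpecialLinearGroup.mem_center_iff]
  have hb0 := hb g hg
  have hc0 := hc g hg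
  have ht := htr g hg
  have hdet := det_eq g
  rw [Matrix.trace_fin_two] at ht
  rw [hb0, hc0] at hdet
  have had : g.1 0 0 = g.1 1 1 := by
    have : (g.1 0 0 - g.1 1 1) ^ 2 = 0 := by linear_combination ht - 4 * hdet
    exact sub_eq_zero.mp ((pow_eq_zero_iff (by norm_num)).mp this)
  refine ⟨g.1 0 0, ?_, ?_⟩
  · simp only [Fintype.card_fin]
    linear_combination hdet + g.1 0 0 * had
  · ext i j
    fin_cases i <;> fin_cases j <;> simp [hb0, hc0, had]

end Cfsg.Agent.Lib.Helper69.NQ
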