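import Cfsg.Agent.Lib.Helper69.OElK0b
import Cfsg.Agent.Lib.Helper28.OhPA2
import Cfsg.Agent.Lib.Helper38.OhP.Defs

/-!
# K-OEl-K0 (keystone 598812, pack S5988/S5990, architect helper49): `card_aniso_pairs`

The number of anisotropic pairs of a nondegenerate quadratic space of dimension `2 D` over a finite field, any characteristic.
Route: `OElK0a` (anisotropic partners of a nonsingular vector, by counting singular vectors on affine lines as sums),
`OElK0b` (the summed identity), `Helper28.OhP.count_type` (the number of singular vectors).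
-/

set_option autoImplicit false
set_option linter.unusedVariables false
set_option linter.unusedSectionVars false
set_option maxHeartbeats 1600000

namespace Cfsg.Agent.Lib.Helper69.OEl

open Module Cfsg.Agent.Lib.Helper98.Elus Cfsg.Agent.Lib.Helper98.Sy Cfsg.Agent.Lib.Helper38.OhP

universe u
variable {F : Type u} [Field F] {V : Type u} [AddCommGroup V] [Module F V]

/-- LEAF K0 of K-OEl; the predicate `AP Q u w` of the spec is written out -/
theorem card_aniso_pairs [Fintype F] [FiniteDimensional F V] (Q : QuadraticForm F V)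
    (O : Submodule F V) (hO : NonDeg (pB Q) O) (D : ℕ) (hD1 : 1 ≤ D) (hD : finrank F O = 2 * D) :
    (PlusQ Q O → 2 * Nat.card {p : V × V // p.1 ∈ O ∧ p.2 ∈ O ∧
        (∀ s t : F, Q (s • p.1 + t • p.2) = 0 → s = 0 ∧ t = 0)} =
      Fintype.card F ^ (2 * D - 1) * ((Fintype.card F ^ D - 1) * (Fintype.card F ^ (D - 1) - 1)) *
        ((Fintype.card F - 1) * (Fintype.card F - 1))) ∧
    (¬ PlusQ Q O → 2 * Nat.card {p : V × V // p.1 ∈ O ∧ p.2 ∈ O ∧
        (∀ s t : F, Q (s • p.1 + t • p.2) = 0 → s = 0 ∧ t = 0)} =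
      Fintype.card F ^ (2 * D - 1) * ((Fintype.card F ^ D + 1) * (Fintype.card F ^ (D - 1) + 1)) *
        ((Fintype.card F - 1) * (Fintype.card F - 1))) := by
  classical
  have : Finite V := Module.finite_of_finite F
  let _ : Fintype O := Fintype.ofFinite O
  obtain ⟨k, rfl⟩ : ∃ k, D = k + 1 := ⟨D - 1, by omega⟩
  set q := Fintype.card F with hq
  have hq1 : 1 ≤ q := Fintype.card_pos
  set R : QuadraticForm F O := Cfsg.Agent.Lib.Helper28.OhP.resQ Q O with hR
  have hRa : ∀ w : O, R w = Q (w : V) := fun w => rfl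
  -- nondegeneracy
  have hnd : ∀ z : O, z ≠ 0 → ∃ v : O, QuadraticMap.polar R z v ≠ 0 := by
    intro z hz
    by_contra hcon
    push Not at hcon
    apply hz
    apply Subtype.ext
    apply hO (z : V) z.2
    intro v hv
    have := hcon ⟨v, hv⟩
    rw [pB_apply]
    exact this
  -- the cardinality of `O`
  have hcard : Fintype.card O = q * q * (q ^ k * q ^ k) := by
    rw [Module.card_eq_pow_finrank (K := F) (V := O), hD, ← hq]
    ring
  obtain ⟨X, S, h1, h2, h3⟩ := aniso_pairs_abstract R hnd (q ^ k * q ^ k) hcard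
  -- the number of singular vectors
  obtain ⟨e, he, hplus, hcnt⟩ := Cfsg.Agent.Lib.Helper28.OhP.count_type Q O hO k hD
  have hZ : Cfsg.Agent.Lib.Helper28.OhP.cnt Q O 0 =
      (Finset.univ.filter (fun z : O => R z = 0)).card := by
    unfold Cfsg.Agent.Lib.Helper28.OhP.cnt
    rw [Nat.card_eq_fintype_card, Fintype.card_subtype]
    apply congrArg Finset.card
    apply Finset.filter_congr
    intro z _
    exact Iff.rfl
  rw [hZ, ← hq] at hcnt
  -- the pairs
  have hT : Nat.card {p : V × V // p.1 ∈ O ∧ p.2 ∈ O ∧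
      (∀ s t : F, Q (s • p.1 + t • p.2) = 0 → s = 0 ∧ t = 0)} =
      (Finset.univ.filter (fun p : O × O =>
        ∀ s t : F, R (s • p.1 + t • p.2) = 0 → s = 0 ∧ t = 0)).card := by
    rw [← Fintype.card_subtype, ← Nat.card_eq_fintype_card]
    apply Nat.card_congr
    refine ⟨fun p => ⟨(⟨p.1.1, p.2.1⟩, ⟨p.1.2, p.2.2.1⟩), p.2.2.2⟩,
      fun p => ⟨((p.1.1 : V), (p.1.2 : V)), p.1.1.2, p.1.2.2, p.2⟩, ?_, ?_⟩
    · intro p
      rfl
    · intro p
      rfl
  rw [hT]
  set T := (Finset.univ.filter (fun p : O × O =>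
      ∀ s t : F, R (s • p.1 + t • p.2) = 0 → s = 0 ∧ t = 0)).card with hTdef
  set Z := (Finset.univ.filter (fun z : O => R z = 0)).card with hZdef
  rw [hcard] at h1 h2
  push_cast at h1 h2 h3
  -- the powers
  have hp1 : q ^ (2 * (k + 1) - 1) = q * (q ^ k * q ^ k) := by
    have : 2 * (k + 1) - 1 = 2 * k + 1 := by omega
    rw [this]
    ring
  have hp2 : q ^ (k + 1) = q * q ^ k := by ring
  have hp3 : k + 1 - 1 = k := by omega
  have hx1 : 1 ≤ q ^ k := Nat.one_le_pow _ _ hq1
  have hx2 : 1 ≤ q * q ^ k := Nat.one_le_iff_ne_zero.mpr (by positivity)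
  rw [hp1, hp2, hp3]
  -- eliminate `S`, `X`
  have hX : X = 2 * (q : ℤ) * ((q : ℤ) ^ k * (q : ℤ) ^ k) - (Z : ℤ) - (q : ℤ) ^ k * (q : ℤ) ^ k := by linarith
  subst hX
  subst h2
  constructor
  · intro hpl
    have he1 : e = 1 := hplus.mpr hpl
    subst he1
    have key : (2 * (T : ℤ)) = (q : ℤ) * ((q : ℤ) ^ k * (q : ℤ) ^ k) *
        (((q : ℤ) * (q : ℤ) ^ k - 1) * ((q : ℤ) ^ k - 1)) * (((q : ℤ) - 1) * ((q : ℤ) - 1)) := by
      rw [hcnt] at h1
      linear_combination h1
    have : ((2 * T : ℕ) : ℤ) = ((q * (q ^ k * q ^ k) * ((q * q ^ k - 1) * (q ^ k - 1)) *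
        ((q - 1) * (q - 1)) : ℕ) : ℤ) := by
      push_cast [Nat.cast_sub hx1, Nat.cast_sub hx2, Nat.cast_sub hq1]
      exact key
    exact_mod_cast this
  · intro hnpl
    have he1 : e = -1 := by
      rcases he with h | h
      · exact absurd (hplus.mp h) hnpl
      · exact h
    subst he1
    have key : (2 * (T : ℤ)) = (q : ℤ) * ((q : ℤ) ^ k * (q : ℤ) ^ k) *
        (((q : ℤ) * (q : ℤ) ^ k + 1) * ((q : ℤ) ^ k + 1)) * (((q : ℤ) - 1) * ((q : ℤ) - 1)) := by
      rw [hcnt] at h1
      linear_combination h1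
    have : ((2 * T : ℕ) : ℤ) = ((q * (q ^ k * q ^ k) * ((q * q ^ k + 1) * (q ^ k + 1)) *
        ((q - 1) * (q - 1)) : ℕ) : ℤ) := by
      push_cast [Nat.cast_sub hq1]
      exact key
    exact_mod_cast this

end Cfsg.Agent.Lib.Helper69.OEl
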