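import Mathlib

/-!
# K-OEl-K0 (keystone 598812, pack S5988/S5990, architect helper49), part A: anisotropic partners of a nonsingular vector

Abstract finite quadratic space `(W, R)` over a finite field `F` (any characteristic).  For `u` with `R u ≠ 0`:
`2 #{w | ⟨u, w⟩ anisotropic} + q #{z | R z = 0 ∧ polar z u = 0} + q #{z | R z = 0} = 2 #W`.
-/

set_option autoImplicit false
set_option linter.unusedVariables false
set_option linter.unusedSectionVars false

namespace Cfsg.Agent.Lib.Helper69.OEl

open Finset

universe u
variable {F : Type u} [Field F] [Fintype F] [DecidableEq F]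
variable {W : Type u} [AddCommGroup W] [Module F W] [Fintype W] [DecidableEq W]

/-- the expansion of `R (w + s u)` -/
theorem map_add_smul (R : QuadraticForm F W) (w u : W) (s : F) :
    R (w + s • u) = R w + s * QuadraticMap.polar R w u + s * s * R u := by
  have h1 : R (w + s • u) = R w + R (s • u) + QuadraticMap.polar R w (s • u) := by
    unfold QuadraticMap.polar
    ring
  rw [h1, QuadraticMap.map_smul, QuadraticMap.polar_smul_right, smul_eq_mul, smul_eq_mul]
  ring

/-- the number of singular vectors on the affine line `w + F u` -/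
noncomputable def nLine (R : QuadraticForm F W) (u w : W) : ℕ :=
  (univ.filter (fun s : F => R (w + s • u) = 0)).card

theorem nLine_le_two (R : QuadraticForm F W) (u w : W) (hu : R u ≠ 0) : nLine R u w ≤ 2 := by
  classical
  unfold nLine
  set p : Polynomial F := Polynomial.C (R u) * Polynomial.X ^ 2 +
    Polynomial.C (QuadraticMap.polar R w u) * Polynomial.X + Polynomial.C (R w) with hp
  have hdeg : p.natDegree = 2 := by
    rw [hp]
    exact Polynomial.natDegree_quadratic hu
  have hp0 : p ≠ 0 := by
    intro h
    rw [h, Polynomial.natDegree_zero] at hdeg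
    omega
  have hsub : univ.filter (fun s : F => R (w + s • u) = 0) ⊆ p.roots.toFinset := by
    intro s hs
    rw [mem_filter] at hs
    rw [Multiset.mem_toFinset, Polynomial.mem_roots hp0, Polynomial.IsRoot.def, hp]
    simp only [Polynomial.eval_add, Polynomial.eval_mul, Polynomial.eval_C, Polynomial.eval_pow,
      Polynomial.eval_X]
    have := hs.2
    rw [map_add_smul] at this
    linear_combination this
  calc (univ.filter (fun s : F => R (w + s • u) = 0)).card ≤ p.roots.toFinset.card :=
        card_le_card hsub
    _ ≤ Multiset.card p.roots := Multiset.toFinset_card_le _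
    _ ≤ p.natDegree := Polynomial.card_roots' p
    _ = 2 := hdeg

/-- `⟨u, w⟩` is anisotropic iff the line `w + F u` has no singular vector -/
theorem aniso_iff_nLine (R : QuadraticForm F W) (u w : W) (hu : R u ≠ 0) :
    (∀ s t : F, R (s • u + t • w) = 0 → s = 0 ∧ t = 0) ↔ nLine R u w = 0 := by
  unfold nLine
  rw [card_eq_zero, filter_eq_empty_iff]
  constructor
  · intro h s _ hs
    have := h s 1 (by rw [one_smul, add_comm]; exact hs)
    exact one_ne_zero this.2
  · intro h s t hst
    by_cases ht : t = 0
    · subst ht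
      rw [zero_smul, add_zero, QuadraticMap.map_smul, smul_eq_mul] at hst
      rcases mul_eq_zero.mp hst with h1 | h1
      · exact ⟨mul_self_eq_zero.mp h1, rfl⟩
      · exact absurd h1 hu
    · exfalso
      apply h (mem_univ (t⁻¹ * s))
      have h1 : w + (t⁻¹ * s) • u = t⁻¹ • (s • u + t • w) := by
        rw [smul_add, smul_smul, smul_smul, inv_mul_cancel₀ ht, one_smul, add_comm]
      rw [h1, QuadraticMap.map_smul, hst, smul_zero]

/-- `Σ_w n(w) = q Z` -/
theorem sum_nLine (R : QuadraticForm F W) (u : W) :
    ∑ w : W, nLine R u w = Fintype.card F * (univ.filter (fun z : W => R z = 0)).card := by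
  classical
  unfold nLine
  have h1 : ∑ w : W, (univ.filter (fun s : F => R (w + s • u) = 0)).card =
      (univ.filter (fun p : W × F => R (p.1 + p.2 • u) = 0)).card := by
    rw [card_filter, Fintype.sum_prod_type]
    apply Finset.sum_congr rfl
    intro w _
    rw [card_filter]
  rw [h1]
  have h2 : (univ.filter (fun p : W × F => R (p.1 + p.2 • u) = 0)).card =
      (univ.filter (fun p : W × F => R p.1 = 0)).card := by
    apply Finset.card_bij (fun p _ => (p.1 + p.2 • u, p.2))
    · intro p hp
      rw [mem_filter] at hp ⊢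
      exact ⟨mem_univ _, hp.2⟩
    · intro p _ p' _ h
      have h2 : p.2 = p'.2 := (Prod.ext_iff.mp h).2
      have h3 : p.1 + p.2 • u = p'.1 + p'.2 • u := (Prod.ext_iff.mp h).1
      rw [h2] at h3
      exact Prod.ext (add_right_cancel h3) h2
    · intro p hp
      rw [mem_filter] at hp
      refine ⟨(p.1 - p.2 • u, p.2), ?_, ?_⟩
      · rw [mem_filter]
        refine ⟨mem_univ _, ?_⟩
        show R (p.1 - p.2 • u + p.2 • u) = 0
        rw [sub_add_cancel]
        exact hp.2
      · show (p.1 - p.2 • u + p.2 • u, p.2) = p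
        rw [sub_add_cancel]
  rw [h2]
  have h3 : univ.filter (fun p : W × F => R p.1 = 0) =
      (univ.filter (fun z : W => R z = 0)) ×ˢ (univ : Finset F) := by
    ext p
    simp
  rw [h3, card_product, card_univ, mul_comm]

/-- `Σ_w n(w) (n(w) - 1) = q #{z | R z = 0 ∧ polar z u ≠ 0}` -/
theorem sum_nLine_offDiag (R : QuadraticForm F W) (u : W) (hu : R u ≠ 0) :
    ∑ w : W, (nLine R u w * nLine R u w - nLine R u w) =
      Fintype.card F * (univ.filter (fun z : W => R z = 0 ∧ QuadraticMap.polar R z u ≠ 0)).card := by
  classical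
  unfold nLine
  have h1 : ∀ w : W, (univ.filter (fun s : F => R (w + s • u) = 0)).card *
      (univ.filter (fun s : F => R (w + s • u) = 0)).card -
      (univ.filter (fun s : F => R (w + s • u) = 0)).card =
      (univ.filter (fun p : F × F => R (w + p.1 • u) = 0 ∧ R (w + p.2 • u) = 0 ∧ p.1 ≠ p.2)).card := by
    intro w
    rw [← offDiag_card]
    congr 1
    ext p
    simp only [mem_offDiag, mem_filter, mem_univ, true_and]
  rw [Finset.sum_congr rfl (fun w _ => h1 w)]
  have h2 : ∑ w : W, (univ.filter (fun p : F × F =>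
      R (w + p.1 • u) = 0 ∧ R (w + p.2 • u) = 0 ∧ p.1 ≠ p.2)).card =
      (univ.filter (fun x : W × (F × F) =>
        R (x.1 + x.2.1 • u) = 0 ∧ R (x.1 + x.2.2 • u) = 0 ∧ x.2.1 ≠ x.2.2)).card := by
    simp only [card_filter]
    rw [Fintype.sum_prod_type]
  rw [h2]
  -- `(w, s, s') ↦ (z, s) = (w + s u, s)`, with `t = s' - s = - polar z u / R u` determined
  have h3 : (univ.filter (fun x : W × (F × F) =>
        R (x.1 + x.2.1 • u) = 0 ∧ R (x.1 + x.2.2 • u) = 0 ∧ x.2.1 ≠ x.2.2)).card =
      (univ.filter (fun y : W × F => R y.1 = 0 ∧ QuadraticMap.polar R y.1 u ≠ 0)).card := by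
    apply Finset.card_bij (fun x _ => (x.1 + x.2.1 • u, x.2.1))
    · intro x hx
      rw [mem_filter] at hx ⊢
      obtain ⟨-, hx1, hx2, hx3⟩ := hx
      refine ⟨mem_univ _, hx1, ?_⟩
      intro hpol
      -- `R (z + t u) = t (polar z u + t R u)`
      have h4 : x.1 + x.2.2 • u = (x.1 + x.2.1 • u) + (x.2.2 - x.2.1) • u := by
        rw [sub_smul]
        abel
      rw [h4, map_add_smul, hx1, hpol] at hx2
      have h5 : (x.2.2 - x.2.1) * (x.2.2 - x.2.1) * R u = 0 := by linear_combination hx2
      rcases mul_eq_zero.mp h5 with h6 | h6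
      · exact hx3 (sub_eq_zero.mp (mul_self_eq_zero.mp h6)).symm
      · exact hu h6
    · intro x hx x' hx' h
      rw [mem_filter] at hx hx'
      obtain ⟨-, hx1, hx2, hx3⟩ := hx
      obtain ⟨-, hx1', hx2', hx3'⟩ := hx'
      have e2 : x.2.1 = x'.2.1 := (Prod.ext_iff.mp h).2
      have e1 : x.1 + x.2.1 • u = x'.1 + x'.2.1 • u := (Prod.ext_iff.mp h).1
      have e3 : x.1 = x'.1 := by
        rw [e2] at e1
        exact add_right_cancel e1
      -- the second parameter is determined
      have key : ∀ (w : W) (s s' : F), R (w + s • u) = 0 → R (w + s' • u) = 0 → s ≠ s' →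
          (s' - s) * R u = - QuadraticMap.polar R (w + s • u) u := by
        intro w s s' hs hs' hne
        have h4 : w + s' • u = (w + s • u) + (s' - s) • u := by
          rw [sub_smul]
          abel
        rw [h4, map_add_smul, hs] at hs'
        have h5 : (s' - s) * (QuadraticMap.polar R (w + s • u) u + (s' - s) * R u) = 0 := by
          linear_combination hs'
        rcases mul_eq_zero.mp h5 with h6 | h6
        · exact absurd (sub_eq_zero.mp h6).symm hne
        · linear_combination h6
      have k1 := key x.1 x.2.1 x.2.2 hx1 hx2 hx3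
      have k2 := key x'.1 x'.2.1 x'.2.2 hx1' hx2' hx3'
      rw [← e3, ← e2] at k2
      have e4 : x.2.2 = x'.2.2 := by
        have : (x.2.2 - x.2.1) * R u = (x'.2.2 - x.2.1) * R u := by rw [k1, k2]
        have := mul_right_cancel₀ hu this
        linear_combination this
      exact Prod.ext e3 (Prod.ext e2 e4)
    · intro y hy
      rw [mem_filter] at hy
      obtain ⟨-, hy1, hy2⟩ := hy
      set t : F := - QuadraticMap.polar R y.1 u / R u with ht
      have ht0 : t ≠ 0 := by
        rw [ht]
        exact div_ne_zero (neg_ne_zero.mpr hy2) hu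
      refine ⟨(y.1 - y.2 • u, (y.2, y.2 + t)), ?_, ?_⟩
      · rw [mem_filter]
        refine ⟨mem_univ _, ?_, ?_, ?_⟩
        · show R (y.1 - y.2 • u + y.2 • u) = 0
          rw [sub_add_cancel]
          exact hy1
        · show R (y.1 - y.2 • u + (y.2 + t) • u) = 0
          have h4 : y.1 - y.2 • u + (y.2 + t) • u = y.1 + t • u := by
            rw [add_smul]
            abel
          rw [h4, map_add_smul, hy1, ht]
          field_simp
          ring
        · show y.2 ≠ y.2 + t
          intro h
          apply ht0
          linear_combination -h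
      · show (y.1 - y.2 • u + y.2 • u, y.2) = y
        rw [sub_add_cancel]
  rw [h3]
  have h4 : univ.filter (fun y : W × F => R y.1 = 0 ∧ QuadraticMap.polar R y.1 u ≠ 0) =
      (univ.filter (fun z : W => R z = 0 ∧ QuadraticMap.polar R z u ≠ 0)) ×ˢ (univ : Finset F) := by
    ext p
    simp
  rw [h4, card_product, card_univ, mul_comm]

/-- PART A: `2 #{w | ⟨u, w⟩ anisotropic} + q Z_u + q Z = 2 #W` -/
theorem two_mul_card_aniso_partners (R : QuadraticForm F W) (u : W) (hu : R u ≠ 0) :
    2 * (univ.filter (fun w : W => ∀ s t : F, R (s • u + t • w) = 0 → s = 0 ∧ t = 0)).card +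
      Fintype.card F * (univ.filter (fun z : W => R z = 0 ∧ QuadraticMap.polar R z u = 0)).card +
      Fintype.card F * (univ.filter (fun z : W => R z = 0)).card = 2 * Fintype.card W := by
  classical
  have hA : (univ.filter (fun w : W => ∀ s t : F, R (s • u + t • w) = 0 → s = 0 ∧ t = 0)) =
      univ.filter (fun w : W => nLine R u w = 0) := by
    ext w
    simp only [mem_filter, mem_univ, true_and]
    exact aniso_iff_nLine R u w hu
  rw [hA]
  -- pointwise: `2 [n = 0] + 2 n = 2 + (n n - n)` for `n ≤ 2`
  have hpt : ∀ w : W, 2 * (if nLine R u w = 0 then 1 else 0) + 2 * nLine R u w =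
      2 + (nLine R u w * nLine R u w - nLine R u w) := by
    intro w
    have := nLine_le_two R u w hu
    interval_cases h : nLine R u w <;> simp
  have hsum : 2 * (univ.filter (fun w : W => nLine R u w = 0)).card + 2 * ∑ w : W, nLine R u w =
      2 * Fintype.card W + ∑ w : W, (nLine R u w * nLine R u w - nLine R u w) := by
    rw [card_filter, Finset.mul_sum, Finset.mul_sum, ← Finset.sum_add_distrib]
    rw [Finset.sum_congr rfl (fun w _ => hpt w), Finset.sum_add_distrib]
    simp [mul_comm]
  rw [sum_nLine, sum_nLine_offDiag R u hu] at hsum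
  -- `Z = Z_u + #{polar ≠ 0}`
  have hsplit : (univ.filter (fun z : W => R z = 0)).card =
      (univ.filter (fun z : W => R z = 0 ∧ QuadraticMap.polar R z u = 0)).card +
      (univ.filter (fun z : W => R z = 0 ∧ QuadraticMap.polar R z u ≠ 0)).card := by
    rw [← card_union_of_disjoint]
    · congr 1
      ext z
      simp only [mem_filter, mem_univ, true_and, mem_union]
      tauto
    · rw [disjoint_left]
      intro z hz hz'
      rw [mem_filter] at hz hz'
      exact hz'.2.2 hz.2.2
  rw [hsplit] at hsum ⊢
  nlinarith [hsum]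

end Cfsg.Agent.Lib.Helper69.OEl
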