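import Cfsg.Agent.Lib.Helper69.OElK0a

/-!
# K-OEl-K0 (keystone 598812), part B: the singular vectors orthogonal to a nonsingular vector, summed up; the abstract count
-/

set_option autoImplicit false
set_option linter.unusedVariables false
set_option linter.unusedSectionVars false

namespace Cfsg.Agent.Lib.Helper69.OEl

open Finset

universe u
variable {F : Type u} [Field F] [Fintype F] [DecidableEq F]
variable {W : Type u} [AddCommGroup W] [Module F W] [Fintype W] [DecidableEq W]

/-- the fibres of a nonzero functional all have `#W / q` elements -/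
theorem card_fibre_mul (φ : W →ₗ[F] F) (hφ : ∃ v, φ v ≠ 0) (c : F) :
    Fintype.card F * (univ.filter (fun w : W => φ w = c)).card = Fintype.card W := by
  classical
  obtain ⟨v, hv⟩ := hφ
  set u₀ : W := (φ v)⁻¹ • v with hu₀
  have h1 : φ u₀ = 1 := by
    rw [hu₀, map_smul, smul_eq_mul, inv_mul_cancel₀ hv]
  have hfib : ∀ a : F, (univ.filter (fun w : W => φ w = a)).card =
      (univ.filter (fun w : W => φ w = c)).card := by
    intro a
    apply Finset.card_bij (fun w _ => w + (c - a) • u₀)
    · intro w hw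
      rw [mem_filter] at hw ⊢
      refine ⟨mem_univ _, ?_⟩
      rw [map_add, map_smul, h1, hw.2, smul_eq_mul, mul_one]
      ring
    · intro w _ w' _ h
      exact add_right_cancel h
    · intro w hw
      rw [mem_filter] at hw
      refine ⟨w - (c - a) • u₀, ?_, by rw [sub_add_cancel]⟩
      rw [mem_filter]
      refine ⟨mem_univ _, ?_⟩
      rw [map_sub, map_smul, h1, hw.2, smul_eq_mul, mul_one]
      ring
  have h2 := Finset.card_eq_sum_card_fiberwise (s := (univ : Finset W)) (t := (univ : Finset F))
    (f := fun w => φ w) (fun w _ => mem_univ _)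
  rw [card_univ] at h2
  rw [h2, Finset.sum_congr rfl (fun a _ => hfib a), Finset.sum_const, card_univ, smul_eq_mul]

/-- for a singular `z`: `#{u | polar z u ≠ 0} = q #{v | R v = 0 ∧ polar z v ≠ 0}` -/
theorem card_polar_ne_zero (R : QuadraticForm F W) (z : W) (hz : R z = 0) :
    (univ.filter (fun u : W => QuadraticMap.polar R z u ≠ 0)).card =
      Fintype.card F * (univ.filter (fun v : W => R v = 0 ∧ QuadraticMap.polar R z v ≠ 0)).card := by
  classical
  have hzz : QuadraticMap.polar R z z = 0 := by
    rw [QuadraticMap.polar_self, hz, smul_zero]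
  have hpol : ∀ (v : W) (s : F), QuadraticMap.polar R z (v + s • z) = QuadraticMap.polar R z v := by
    intro v s
    rw [QuadraticMap.polar_add_right, QuadraticMap.polar_smul_right, hzz, smul_zero, add_zero]
  have hR : ∀ (v : W) (s : F), R (v + s • z) = R v + s * QuadraticMap.polar R z v := by
    intro v s
    rw [map_add_smul, hz, mul_zero, add_zero, QuadraticMap.polar_comm]
  have h3 : Fintype.card F * (univ.filter (fun v : W => R v = 0 ∧ QuadraticMap.polar R z v ≠ 0)).card =
      ((univ.filter (fun v : W => R v = 0 ∧ QuadraticMap.polar R z v ≠ 0)) ×ˢ (univ : Finset F)).card := by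
    rw [card_product, card_univ, mul_comm]
  rw [h3]
  symm
  apply Finset.card_bij (fun p _ => p.1 + p.2 • z)
  · intro p hp
    rw [mem_product, mem_filter] at hp
    rw [mem_filter]
    refine ⟨mem_univ _, ?_⟩
    rw [hpol]
    exact hp.1.2.2
  · intro p hp p' hp' h
    rw [mem_product, mem_filter] at hp hp'
    have h1 : QuadraticMap.polar R z p.1 = QuadraticMap.polar R z p'.1 := by
      rw [← hpol p.1 p.2, ← hpol p'.1 p'.2]
      exact congrArg _ h
    have h2 := congrArg R h
    rw [hR, hR, hp.1.2.1, hp'.1.2.1, zero_add, zero_add, ← h1] at h2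
    have h4 : p.2 = p'.2 := mul_right_cancel₀ hp.1.2.2 h2
    have h5 : p.1 = p'.1 := by
      rw [h4] at h
      exact add_right_cancel h
    exact Prod.ext h5 h4
  · intro u hu
    rw [mem_filter] at hu
    set a : F := R u / QuadraticMap.polar R z u with ha
    refine ⟨(u - a • z, a), ?_, by show u - a • z + a • z = u; rw [sub_add_cancel]⟩
    rw [mem_product, mem_filter]
    refine ⟨⟨mem_univ _, ?_, ?_⟩, mem_univ _⟩
    · show R (u - a • z) = 0
      have : u - a • z = u + (-a) • z := by rw [neg_smul, sub_eq_add_neg]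
      rw [this, hR, ha]
      field_simp [hu.2]
      ring
    · show QuadraticMap.polar R z (u - a • z) ≠ 0
      have : u - a • z = u + (-a) • z := by rw [neg_smul, sub_eq_add_neg]
      rw [this, hpol]
      exact hu.2

/-- double counting: `Σ_{u, R u ≠ 0} Z_u = Σ_{z, R z = 0} #{u | R u ≠ 0 ∧ polar z u = 0}` -/
theorem sum_Zu_comm (R : QuadraticForm F W) :
    ∑ u ∈ univ.filter (fun u : W => R u ≠ 0),
        (univ.filter (fun z : W => R z = 0 ∧ QuadraticMap.polar R z u = 0)).card =
      ∑ z ∈ univ.filter (fun z : W => R z = 0),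
        (univ.filter (fun u : W => R u ≠ 0 ∧ QuadraticMap.polar R z u = 0)).card := by
  classical
  simp only [card_filter, Finset.sum_filter]
  have h1 : ∀ u : W, (if R u ≠ 0 then ∑ i : W, (if R i = 0 ∧ QuadraticMap.polar R i u = 0 then 1 else 0) else 0) =
      ∑ i : W, (if R u ≠ 0 ∧ R i = 0 ∧ QuadraticMap.polar R i u = 0 then 1 else 0) := by
    intro u
    by_cases hu : R u ≠ 0
    · simp [hu]
    · simp [hu]
  have h2 : ∀ z : W, (if R z = 0 then ∑ i : W, (if R i ≠ 0 ∧ QuadraticMap.polar R z i = 0 then 1 else 0) else 0) =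
      ∑ i : W, (if R i ≠ 0 ∧ R z = 0 ∧ QuadraticMap.polar R z i = 0 then 1 else 0) := by
    intro z
    by_cases hz : R z = 0
    · simp [hz]
    · simp [hz]
  rw [Finset.sum_congr rfl (fun u _ => h1 u), Finset.sum_congr rfl (fun z _ => h2 z), Finset.sum_comm]

/-- the abstract count, over `ℤ`: `P = #W`, `Z = #{z | R z = 0}`, `T = #{(u, w) | ⟨u, w⟩ anisotropic}`, `P = q² Y`:
`2 T + q S + q Z (P - Z) = 2 P (P - Z)` with `S = (P - Z) + (Z - 1) X`, `X + Z + Y = 2 q Y`. -/
theorem aniso_pairs_abstract (R : QuadraticForm F W)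
    (hnd : ∀ z : W, z ≠ 0 → ∃ v, QuadraticMap.polar R z v ≠ 0) (Y : ℕ)
    (hY : Fintype.card W = Fintype.card F * Fintype.card F * Y) :
    ∃ X S : ℤ,
      2 * ((univ.filter (fun p : W × W =>
          ∀ s t : F, R (s • p.1 + t • p.2) = 0 → s = 0 ∧ t = 0)).card : ℤ) +
        (Fintype.card F : ℤ) * S +
        (Fintype.card F : ℤ) * ((univ.filter (fun z : W => R z = 0)).card : ℤ) *
          ((Fintype.card W : ℤ) - ((univ.filter (fun z : W => R z = 0)).card : ℤ)) =
        2 * (Fintype.card W : ℤ) * ((Fintype.card W : ℤ) - ((univ.filter (fun z : W => R z = 0)).card : ℤ)) ∧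
      S = ((Fintype.card W : ℤ) - ((univ.filter (fun z : W => R z = 0)).card : ℤ)) +
        (((univ.filter (fun z : W => R z = 0)).card : ℤ) - 1) * X ∧
      X + ((univ.filter (fun z : W => R z = 0)).card : ℤ) + (Y : ℤ) = 2 * (Fintype.card F : ℤ) * (Y : ℤ) := by
  classical
  set q := Fintype.card F with hq
  set P := Fintype.card W with hP
  set Z := (univ.filter (fun z : W => R z = 0)).card with hZ
  have hq0 : 0 < q := Fintype.card_pos
  -- the pairs, fibred over `u`
  have hT : (univ.filter (fun p : W × W =>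
      ∀ s t : F, R (s • p.1 + t • p.2) = 0 → s = 0 ∧ t = 0)).card =
      ∑ u ∈ univ.filter (fun u : W => R u ≠ 0),
        (univ.filter (fun w : W => ∀ s t : F, R (s • u + t • w) = 0 → s = 0 ∧ t = 0)).card := by
    simp only [card_filter]
    rw [Fintype.sum_prod_type, Finset.sum_filter]
    apply Finset.sum_congr rfl
    intro u _
    by_cases hu : R u ≠ 0
    · rw [if_pos hu]
    · rw [if_neg hu]
      apply Finset.sum_eq_zero
      intro w _
      rw [if_neg]
      intro h
      have := h 1 0 (by rw [one_smul, zero_smul, add_zero]; exact not_not.mp hu)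
      exact one_ne_zero this.1
  -- the number of nonsingular vectors
  have hns : (univ.filter (fun u : W => R u ≠ 0)).card + Z = P := by
    rw [hZ, hP, ← card_univ (α := W), add_comm]
    exact Finset.card_filter_add_card_filter_not (s := (univ : Finset W)) (fun z : W => R z = 0)
  -- part A, summed
  have hA : ∀ u ∈ univ.filter (fun u : W => R u ≠ 0),
      (2 * ((univ.filter (fun w : W => ∀ s t : F, R (s • u + t • w) = 0 → s = 0 ∧ t = 0)).card : ℤ)) =
        2 * (P : ℤ) - (q : ℤ) * (Z : ℤ) -
          (q : ℤ) * ((univ.filter (fun z : W => R z = 0 ∧ QuadraticMap.polar R z u = 0)).card : ℤ) := by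
    intro u hu
    rw [mem_filter] at hu
    have := two_mul_card_aniso_partners R u hu.2
    rw [← hq, ← hZ, ← hP] at this
    have h' : ((2 * (univ.filter (fun w : W => ∀ s t : F, R (s • u + t • w) = 0 → s = 0 ∧ t = 0)).card +
      q * (univ.filter (fun z : W => R z = 0 ∧ QuadraticMap.polar R z u = 0)).card + q * Z : ℕ) : ℤ) =
      ((2 * P : ℕ) : ℤ) := by rw [this]
    push_cast at h'
    linarith
  -- the sum of the `Z_u`
  set S : ℕ := ∑ u ∈ univ.filter (fun u : W => R u ≠ 0),
    (univ.filter (fun z : W => R z = 0 ∧ QuadraticMap.polar R z u = 0)).card with hS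
  -- the value of `X`
  have hP2 : P = q * (q * Y) := by rw [hY]; ring
  have hX : ∀ z : W, z ≠ 0 → R z = 0 →
      ((univ.filter (fun u : W => R u ≠ 0 ∧ QuadraticMap.polar R z u = 0)).card : ℤ) + (Z : ℤ) + (Y : ℤ) =
        2 * (q : ℤ) * (Y : ℤ) := by
    intro z hz0 hz
    have h1 := card_fibre_mul (QuadraticMap.polarBilin R z) (by
      obtain ⟨v, hv⟩ := hnd z hz0
      exact ⟨v, by rw [QuadraticMap.polarBilin_apply_apply]; exact hv⟩) 0
    simp only [QuadraticMap.polarBilin_apply_apply] at h1
    rw [← hq, ← hP, hP2] at h1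
    have h1' : (univ.filter (fun w : W => QuadraticMap.polar R z w = 0)).card = q * Y :=
      Nat.eq_of_mul_eq_mul_left hq0 h1
    have h2 := card_polar_ne_zero R z hz
    rw [← hq] at h2
    have h3 : (univ.filter (fun u : W => QuadraticMap.polar R z u ≠ 0)).card + q * Y = P := by
      rw [← h1', hP, ← card_univ (α := W), add_comm]
      exact Finset.card_filter_add_card_filter_not (s := (univ : Finset W))
        (fun u : W => QuadraticMap.polar R z u = 0)
    -- `#{v sing, polar ≠ 0} = q Y - Y`
    have h4 : (univ.filter (fun v : W => R v = 0 ∧ QuadraticMap.polar R z v ≠ 0)).card + Y = q * Y := by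
      rw [h2, hP2] at h3
      have : q * ((univ.filter (fun v : W => R v = 0 ∧ QuadraticMap.polar R z v ≠ 0)).card + Y) =
          q * (q * Y) := by rw [mul_add]; exact h3
      exact Nat.eq_of_mul_eq_mul_left hq0 this
    -- splitting `{polar = 0}` and `{R = 0}`
    have h5 : (univ.filter (fun u : W => R u ≠ 0 ∧ QuadraticMap.polar R z u = 0)).card +
        (univ.filter (fun u : W => R u = 0 ∧ QuadraticMap.polar R z u = 0)).card = q * Y := by
      rw [← h1', ← card_union_of_disjoint]
      · congr 1
        ext u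
        simp only [mem_union, mem_filter, mem_univ, true_and]
        tauto
      · rw [disjoint_left]
        intro u hu hu'
        rw [mem_filter] at hu hu'
        exact hu.2.1 hu'.2.1
    have h6 : (univ.filter (fun u : W => R u = 0 ∧ QuadraticMap.polar R z u = 0)).card +
        (univ.filter (fun v : W => R v = 0 ∧ QuadraticMap.polar R z v ≠ 0)).card = Z := by
      rw [hZ, ← card_union_of_disjoint]
      · congr 1
        ext u
        simp only [mem_union, mem_filter, mem_univ, true_and]
        tauto
      · rw [disjoint_left]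
        intro u hu hu'
        rw [mem_filter] at hu hu'
        exact hu'.2.2 hu.2.2
    have h4' : (((univ.filter (fun v : W => R v = 0 ∧ QuadraticMap.polar R z v ≠ 0)).card + Y : ℕ) : ℤ) =
      ((q * Y : ℕ) : ℤ) := by rw [h4]
    have h5' : (((univ.filter (fun u : W => R u ≠ 0 ∧ QuadraticMap.polar R z u = 0)).card +
        (univ.filter (fun u : W => R u = 0 ∧ QuadraticMap.polar R z u = 0)).card : ℕ) : ℤ) =
        ((q * Y : ℕ) : ℤ) := by rw [h5]
    have h6' : (((univ.filter (fun u : W => R u = 0 ∧ QuadraticMap.polar R z u = 0)).card +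
        (univ.filter (fun v : W => R v = 0 ∧ QuadraticMap.polar R z v ≠ 0)).card : ℕ) : ℤ) = (Z : ℤ) := by
      rw [h6]
    push_cast at h4' h5' h6'
    linarith
  refine ⟨2 * (q : ℤ) * (Y : ℤ) - (Z : ℤ) - (Y : ℤ), (S : ℤ), ?_, ?_, by ring⟩
  · -- the summed identity
    rw [hT]
    push_cast
    rw [Finset.mul_sum, Finset.sum_congr rfl hA, Finset.sum_sub_distrib, Finset.sum_const, ← Finset.mul_sum]
    have hS' : ((S : ℕ) : ℤ) = ∑ u ∈ univ.filter (fun u : W => R u ≠ 0),
        ((univ.filter (fun z : W => R z = 0 ∧ QuadraticMap.polar R z u = 0)).card : ℤ) := by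
      rw [hS]
      push_cast
      rfl
    rw [← hS']
    have hns' : (((univ.filter (fun u : W => R u ≠ 0)).card + Z : ℕ) : ℤ) = (P : ℤ) := by rw [hns]
    push_cast at hns'
    have : ((univ.filter (fun u : W => R u ≠ 0)).card : ℤ) = (P : ℤ) - (Z : ℤ) := by linarith
    rw [nsmul_eq_mul, this]
    ring
  · -- the value of `S`
    rw [hS, sum_Zu_comm]
    -- split off `z = 0`
    have h0 : (0 : W) ∈ univ.filter (fun z : W => R z = 0) := by
      rw [mem_filter]
      exact ⟨mem_univ _, map_zero R⟩
    rw [← Finset.add_sum_erase _ _ h0]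
    have hz0 : (univ.filter (fun u : W => R u ≠ 0 ∧ QuadraticMap.polar R (0 : W) u = 0)).card =
        (univ.filter (fun u : W => R u ≠ 0)).card := by
      congr 1
      ext u
      simp [QuadraticMap.polar_zero_left]
    rw [hz0]
    have hrest : ∀ z ∈ (univ.filter (fun z : W => R z = 0)).erase 0,
        ((univ.filter (fun u : W => R u ≠ 0 ∧ QuadraticMap.polar R z u = 0)).card : ℤ) =
          2 * (q : ℤ) * (Y : ℤ) - (Z : ℤ) - (Y : ℤ) := by
      intro z hz
      rw [mem_erase, mem_filter] at hz
      have := hX z hz.1 hz.2.2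
      linarith
    push_cast
    rw [Finset.sum_congr rfl hrest, Finset.sum_const, card_erase_of_mem h0, nsmul_eq_mul]
    have hZ1 : 1 ≤ Z := by
      rw [hZ]
      exact Finset.card_pos.mpr ⟨0, h0⟩
    have hns' : (((univ.filter (fun u : W => R u ≠ 0)).card + Z : ℕ) : ℤ) = (P : ℤ) := by rw [hns]
    push_cast at hns'
    rw [← hZ, Nat.cast_sub hZ1]
    push_cast
    linarith

end Cfsg.Agent.Lib.Helper69.OEl
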