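import Cfsg.Agent.Lib.Helper69.OPbDefs
import Cfsg.Agent.Lib.Helper13.OPb15
import Cfsg.Agent.Lib.Helper63.OPb0
import Cfsg.Agent.Lib.Helper63.OhA
import Cfsg.Agent.Lib.Helper87.OMb11
import Cfsg.Agent.Lib.Helper59.OMb12
import Cfsg.Agent.Lib.Helper51.OMb13
import Cfsg.Agent.Lib.Helper78.OMb14
import Cfsg.Agent.Lib.Helper32.OMb0b
import Cfsg.Agent.Lib.Helper50.MinusLang
import Cfsg.Agent.Lib.Helper50.GeoBridge
import Cfsg.Agent.Lib.Helper50.StdForms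
import Cfsg.Agent.Lib.Helper98.Os1

/-!
# K-OMb-15 (keystone 599115, pack S5991, architect helper32): `case_p_minus_even`

`d` even: a unipotent element of `Ω⁻_(2d)(q)` of Jordan type `(1, 3, 2^(d-2))` whose fixed vectors have norm in a prescribed
square class fixes no member of the isometry class of `W₀`.  Glue of K-OMb LEAVES 11-14 and `exists_unipotent_minus`.
-/

set_option autoImplicit false
set_option linter.unusedVariables false
set_option maxHeartbeats 1600000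

namespace Cfsg.Agent.Lib.Helper69.OMb

open Module Cfsg.Agent.Lib.Helper98.Elus Cfsg.Agent.Lib.Helper98.Sy Cfsg.Agent.Lib.Helper98.Oh
  Cfsg.Agent.Lib.Helper69.OPb

universe u
variable {F : Type u} [Field F] {V : Type u} [AddCommGroup V] [Module F V]

/-- the abstract core: the class of the Gram determinant of an invariant nondegenerate subspace of dimension `≡ 1 (mod 4)` is forced by
the norms of the fixed vectors -/
theorem core_even [Fintype F] (h2 : (2 : F) ≠ 0) [FiniteDimensional F V] (B : LinearMap.BilinForm F V)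
    (hS : ∀ a b, B a b = B b a) (u : V →ₗ[F] V) (hiso : Iso B u) (d : ℕ)
    (hker1 : finrank F (LinearMap.ker (u - 1)) = d)
    (hker2 : finrank F (LinearMap.ker ((u - 1) ^ 2)) + 1 = 2 * d)
    (hV : NonDeg B ⊤)
    (htypes : ∀ W : Submodule F V, NonDeg B W → Inv u W → ∃ ν : Multiset ℕ,
        ν ≤ 1 ::ₘ 3 ::ₘ Multiset.replicate (d - 2) 2 ∧ ν.sum = finrank F W ∧
        (∀ e : ℕ, Even e → Even (ν.count e)) ∧
        ∀ j : ℕ, finrank F ↥(W ⊓ LinearMap.ker ((u - 1) ^ j)) = (ν.map (fun e => min e j)).sum)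
    (W₁z : Submodule F V) (hmod : finrank F W₁z % 4 = 1)
    {ι : Type} [Fintype ι] [DecidableEq ι] (b₀ : Basis ι F W₁z) (ζ : F) (hζ : ¬ IsSquare ζ)
    (v₀ : V) (hv₀ : u v₀ = v₀)
    (hτ : B v₀ v₀ = ζ * (Matrix.of fun i j => B (b₀ i : V) (b₀ j : V)).det)
    (hg₀ : (Matrix.of fun i j => B (b₀ i : V) (b₀ j : V)).det ≠ 0)
    (W₁ : Submodule F V) (hW₁inv : Inv u W₁) (hW₁nd : NonDeg B W₁) (hcls : IsoCls B W₁ W₁z) : False := by
  classical
  obtain ⟨N, hN⟩ : ∃ N : V →ₗ[F] V, N = u - 1 := ⟨_, rfl⟩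
  rw [← hN] at hker1 hker2
  have hNa : ∀ x, N x = u x - x := fun x => by
    rw [hN, LinearMap.sub_apply, Module.End.one_apply]
  have hNort : ∀ x y, N y = 0 → B (N x) y = 0 := by
    intro x y hy
    have hy' : u y = y := by
      rw [hNa] at hy
      exact sub_eq_zero.mp hy
    rw [hNa, map_sub, LinearMap.sub_apply]
    nth_rewrite 1 [← hy']
    rw [hiso, sub_self]
  -- LEAF 11 on the whole space
  have hktop : 2 * finrank F ↥((⊤ : Submodule F V) ⊓ LinearMap.ker N) =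
      finrank F ↥((⊤ : Submodule F V) ⊓ LinearMap.ker (N ^ 2)) + 1 := by
    rw [top_inf_eq, top_inf_eq, hker1]
    omega
  obtain ⟨w, -, hw0, hww, hall⟩ := Cfsg.Agent.Lib.Helper87.OMb.exists_fixed_norm h2 B hS N hNort ⊤
    (fun _ _ => Submodule.mem_top) hV hktop
  obtain ⟨α₀, hα₀⟩ := hall v₀ Submodule.mem_top (by rw [hNa, hv₀, sub_self])
  -- the type of `W₁`
  obtain ⟨ν, hν1, hν2, hν3, hν4⟩ := htypes W₁ hW₁nd hW₁inv
  have hfin : finrank F W₁ = finrank F W₁z := Cfsg.Agent.Lib.Helper63.OPb.isoCls_finrank hcls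
  obtain ⟨j, rfl⟩ := Cfsg.Agent.Lib.Helper78.OMb.type_of_mod_four d ν hν1 hν3 (by rw [hν2, hfin]; exact hmod)
  have hd1 : finrank F W₁ = 4 * j + 1 := by
    rw [← hν2, Multiset.sum_cons, Multiset.sum_replicate, smul_eq_mul]
    ring
  have hk1 : finrank F ↥(W₁ ⊓ LinearMap.ker (u - 1)) = 2 * j + 1 := by
    have := hν4 1
    rw [pow_one] at this
    rw [this, Multiset.map_cons, Multiset.map_replicate, Multiset.sum_cons, Multiset.sum_replicate, smul_eq_mul]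
    norm_num
    ring
  have hk2 : finrank F ↥(W₁ ⊓ LinearMap.ker ((u - 1) ^ 2)) = 4 * j + 1 := by
    have := hν4 2
    rw [this, Multiset.map_cons, Multiset.map_replicate, Multiset.sum_cons, Multiset.sum_replicate, smul_eq_mul]
    norm_num
    ring
  -- LEAF 11 on `W₁`
  have hWN : ∀ w ∈ W₁, N w ∈ W₁ := fun w hw => by
    rw [hNa]
    exact W₁.sub_mem (hW₁inv w hw) hw
  obtain ⟨w₁, hw₁W, hw₁0, hw₁w₁, -⟩ := Cfsg.Agent.Lib.Helper87.OMb.exists_fixed_norm h2 B hS N hNort W₁ hWN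
    hW₁nd (by rw [hN, hk1, hk2]; ring)
  have hw₁fix : u w₁ = w₁ := by
    have := hw₁0
    rw [hNa] at this
    exact sub_eq_zero.mp this
  -- the basis of `W₁`
  obtain ⟨e, he⟩ := Cfsg.Agent.Lib.Helper63.OPb.isoCls_polar h2 hS hcls
  let b : Basis ι F W₁ := b₀.map e.symm
  have hgram : (Matrix.of fun i j => B (b i : V) (b j : V)) =
      Matrix.of fun i j => B (b₀ i : V) (b₀ j : V) := by
    ext i j
    simp only [Matrix.of_apply]
    rw [← he (b i) (b j)]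
    simp [b]
  have hsq := Cfsg.Agent.Lib.Helper59.OMb.gram_isSquare_of_type_one_two h2 B hS u hiso W₁ hW₁inv hW₁nd j hd1 hk1
    hk2 w₁ hw₁W hw₁fix hw₁w₁ b
  rw [hgram] at hsq
  obtain ⟨α₁, hα₁⟩ := hall w₁ Submodule.mem_top hw₁0
  obtain ⟨s, hs⟩ := hsq
  set g₀ := (Matrix.of fun i j => B (b₀ i : V) (b₀ j : V)).det with hg₀def
  have hα₁0 : α₁ ≠ 0 := by
    rintro rfl
    apply hw₁w₁
    rw [hα₁]
    ring
  have key : ζ * (α₁ * g₀) ^ 2 = (s * α₀) ^ 2 := by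
    linear_combination (α₀ ^ 2) * hs + (-α₀ ^ 2 * g₀) * hα₁ + (α₁ ^ 2 * g₀) * hα₀ - (α₁ ^ 2 * g₀) * hτ
  apply hζ
  refine ⟨s * α₀ / (α₁ * g₀), ?_⟩
  have hne : α₁ * g₀ ≠ 0 := mul_ne_zero hα₁0 hg₀
  field_simp
  linear_combination key

/-- LEAF 15 of K-OMb, exact form -/
theorem case_p_minus_even [Fintype F] {p : ℕ} [Fact p.Prime] [CharP F p] (hodd : Odd (Fintype.card F))
    (d m : ℕ) (hd : 4 ≤ d) (hde : Even d) (hm : Odd m) (hmd : m < d) (a b : F) (hab : ∀ x y : F, x ^ 2 + a * x * y + b * y ^ 2 = 0 → x = 0 ∧ y = 0)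
    (W₀ : Submodule F (((Fin (d - 1) ⊕ Fin (d - 1)) ⊕ Fin 2) → F))
    (hW₀ : Module.finrank F ↥W₀ = m ∧ Cfsg.Geo.IsNondegenerateOn (QuadraticMap.polar (Cfsg.quadFormMinus (d - 1) F a b)) W₀) :
    ∃ x : GL ((Fin (d - 1) ⊕ Fin (d - 1)) ⊕ Fin 2) F, x ∈ Cfsg.Geo.omegaGL (Cfsg.quadFormMinus (d - 1) F a b) ∧
      ((x ^ p : GL ((Fin (d - 1) ⊕ Fin (d - 1)) ⊕ Fin 2) F) : Matrix ((Fin (d - 1) ⊕ Fin (d - 1)) ⊕ Fin 2) ((Fin (d - 1) ⊕ Fin (d - 1)) ⊕ Fin 2) F) = (1 : F) • (1 : Matrix ((Fin (d - 1) ⊕ Fin (d - 1)) ⊕ Fin 2) ((Fin (d - 1) ⊕ Fin (d - 1)) ⊕ Fin 2) F) ∧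
      (∀ z : F, (x : Matrix ((Fin (d - 1) ⊕ Fin (d - 1)) ⊕ Fin 2) ((Fin (d - 1) ⊕ Fin (d - 1)) ⊕ Fin 2) F) ≠ z • (1 : Matrix ((Fin (d - 1) ⊕ Fin (d - 1)) ⊕ Fin 2) ((Fin (d - 1) ⊕ Fin (d - 1)) ⊕ Fin 2) F)) ∧
      ∀ W : Submodule F (((Fin (d - 1) ⊕ Fin (d - 1)) ⊕ Fin 2) → F), Module.finrank F ↥W = m →
        Cfsg.Geo.IsNondegenerateOn (QuadraticMap.polar (Cfsg.quadFormMinus (d - 1) F a b)) W →
        Cfsg.Geo.AreIsometricFor (Cfsg.quadFormMinus (d - 1) F a b) W W₀ →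
        ¬ W.map (Matrix.toLin' (x : Matrix ((Fin (d - 1) ⊕ Fin (d - 1)) ⊕ Fin 2) ((Fin (d - 1) ⊕ Fin (d - 1)) ⊕ Fin 2) F)) ≤ W := by
  classical
  have h2 : (2 : F) ≠ 0 := Cfsg.Agent.Lib.Helper50.two_ne_zero_of_odd_card rfl hodd
  have hp : p.Prime := Fact.out
  have hp2 : p ≠ 2 := by
    rintro rfl
    apply h2
    have := CharP.cast_eq_zero F 2
    exact_mod_cast this
  have hp3 : 3 ≤ p := by
    have := hp.two_le
    omega
  obtain ⟨Q, hQ⟩ : ∃ Q : QuadraticForm F (((Fin (d - 1) ⊕ Fin (d - 1)) ⊕ Fin 2) → F),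
      Q = Cfsg.Agent.Lib.Helper50.QMinus (d - 1) F a b := ⟨_, rfl⟩
  have hQcoe : (⇑Q : (((Fin (d - 1) ⊕ Fin (d - 1)) ⊕ Fin 2) → F) → F) = Cfsg.quadFormMinus (d - 1) F a b := by
    rw [hQ]
    rfl
  rw [← hQcoe] at hW₀ ⊢
  obtain ⟨B, hB⟩ : ∃ B : LinearMap.BilinForm F (((Fin (d - 1) ⊕ Fin (d - 1)) ⊕ Fin 2) → F),
      B = QuadraticMap.polarBilin Q := ⟨_, rfl⟩
  have hBa : ∀ v w, B v w = QuadraticMap.polar (⇑Q) v w := by
    intro v w
    rw [hB, QuadraticMap.polarBilin_apply_apply]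
  have hS : ∀ v w, B v w = B w v := by
    rw [hB]
    exact Cfsg.Agent.Lib.Helper13.OPb.polarBilin_symm Q
  have hR : B.IsRefl := fun v w h => by rw [hS]; exact h
  have hV : NonDeg B ⊤ := by
    rw [hB, hQ]
    exact Cfsg.Agent.Lib.Helper13.OPb.nonDeg_top_of_nondegenerate _
      (Cfsg.Agent.Lib.Helper50.QMinus_nondeg_of_anis (d - 1) a b hab)
  have hnd_iff : ∀ W : Submodule F (((Fin (d - 1) ⊕ Fin (d - 1)) ⊕ Fin 2) → F),
      NonDeg B W ↔ Cfsg.Geo.IsNondegenerateOn (QuadraticMap.polar ⇑Q) W := by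
    intro W
    rw [hB]
    exact Cfsg.Agent.Lib.Helper13.OPb.nonDeg_polarBilin_iff Q W
  have hcls_iff : ∀ W W' : Submodule F (((Fin (d - 1) ⊕ Fin (d - 1)) ⊕ Fin 2) → F),
      IsoCls B W W' ↔ Cfsg.Geo.AreIsometricFor ⇑Q W W' := by
    intro W W'
    rw [hB]
    exact Cfsg.Agent.Lib.Helper13.OPb.isoCls_polarBilin_iff h2 Q W W'
  have hdim : finrank F (((Fin (d - 1) ⊕ Fin (d - 1)) ⊕ Fin 2) → F) = 2 * d := by
    rw [Module.finrank_fintype_fun_eq_card, Cfsg.Agent.Lib.Helper50.card_minus_index]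
    omega
  have hW₀nd : NonDeg B W₀ := (hnd_iff W₀).mpr hW₀.2
  -- orthogonal complements
  have horth : ∀ W : Submodule F (((Fin (d - 1) ⊕ Fin (d - 1)) ⊕ Fin 2) → F), NonDeg B W →
      NonDeg B (B.orthogonal W) ∧ finrank F W + finrank F ↥(B.orthogonal W) = 2 * d := by
    intro W hW
    obtain ⟨-, -, h3, h4⟩ := Cfsg.Agent.Lib.Helper98.Os.compl_props hR W ⊤ hW le_top hV
    rw [inf_top_eq] at h3 h4
    rw [finrank_top, hdim] at h4
    exact ⟨h3, h4⟩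
  obtain ⟨c, hc⟩ := hde
  -- the reference subspace `W₁z`
  obtain ⟨W₁z, hW₁znd, hW₁zmod, hW₁zdef⟩ : ∃ W₁z : Submodule F (((Fin (d - 1) ⊕ Fin (d - 1)) ⊕ Fin 2) → F),
      NonDeg B W₁z ∧ finrank F W₁z % 4 = 1 ∧
        ((m % 4 = 1 ∧ W₁z = W₀) ∨ (m % 4 = 3 ∧ W₁z = B.orthogonal W₀)) := by
    obtain ⟨t, ht⟩ := hm
    rcases Nat.even_or_odd t with ⟨t', ht'⟩ | ⟨t', ht'⟩
    · refine ⟨W₀, hW₀nd, ?_, Or.inl ⟨by omega, rfl⟩⟩
      rw [hW₀.1]
      omega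
    · obtain ⟨h3, h4⟩ := horth W₀ hW₀nd
      refine ⟨B.orthogonal W₀, h3, ?_, Or.inr ⟨by omega, rfl⟩⟩
      rw [hW₀.1] at h4
      omega
  obtain ⟨b₀, hb₀⟩ : ∃ b₀ : Basis (Fin (finrank F W₁z)) F W₁z, b₀ = Module.finBasis F W₁z := ⟨_, rfl⟩
  have hg₀ := Cfsg.Agent.Lib.Helper63.Oh.gram_det_ne_zero B hS W₁z hW₁znd b₀
  obtain ⟨ζ, hζ⟩ := FiniteField.exists_nonsquare (F := F) (by
    intro h
    apply h2
    have : CharP F 2 := by rw [← h]; exact ringChar.charP F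
    have := CharP.cast_eq_zero F 2
    exact_mod_cast this)
  have hζ0 : ζ ≠ 0 := by
    rintro rfl
    exact hζ ⟨0, by ring⟩
  -- the unipotent element
  obtain ⟨x, hxΩ, hxp, hxns, hchain, htypes, hfixed⟩ := Cfsg.Agent.Lib.Helper32.OMb.exists_unipotent_minus (p := p) hp2 d a b hab
    (Multiset.replicate (d - 2) 2) 0 1
    (by
      intro e he
      rw [Multiset.eq_of_mem_replicate he]
      omega)
    (by
      intro e he
      rw [Multiset.count_replicate]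
      split_ifs
      · exact ⟨c - 1, by omega⟩
      · exact Even.zero)
    (by omega) (by omega)
    (by rw [Multiset.sum_replicate, smul_eq_mul]; omega)
    ⟨3, by simp, by omega⟩
    (ζ * (Matrix.of fun i j => B (b₀ i : _) (b₀ j : _)).det) (mul_ne_zero hζ0 hg₀)
  rw [← hQcoe] at hxΩ htypes hfixed
  refine ⟨x, hxΩ, hxp, hxns, ?_⟩
  intro W hWd hWnd hWiso hWinv
  obtain ⟨u, hu⟩ : ∃ u : (((Fin (d - 1) ⊕ Fin (d - 1)) ⊕ Fin 2) → F) →ₗ[F] (((Fin (d - 1) ⊕ Fin (d - 1)) ⊕ Fin 2) → F),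
      u = Matrix.toLin' (x : Matrix ((Fin (d - 1) ⊕ Fin (d - 1)) ⊕ Fin 2) ((Fin (d - 1) ⊕ Fin (d - 1)) ⊕ Fin 2) F) := ⟨_, rfl⟩
  rw [← hu] at hchain htypes hfixed hWinv
  have hxiso : x ∈ Cfsg.isometryGroup F ⇑Q := ((Cfsg.Agent.Lib.Helper50.mem_omegaGL_iff _ x).mp hxΩ).1
  have hiso : Iso B u := by
    rw [hB, hu]
    exact Cfsg.Agent.Lib.Helper13.OPb.iso_toLin'_of_mem Q x hxiso
  have hup : u ^ p = 1 := by
    rw [hu, ← Matrix.toLin'_pow, ← Units.val_pow_eq_pow_val, hxp, one_smul, Matrix.toLin'_one]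
    rfl
  have hinv_iff : ∀ W : Submodule F (((Fin (d - 1) ⊕ Fin (d - 1)) ⊕ Fin 2) → F), Inv u W ↔ W.map u ≤ W := by
    intro W
    rw [hu]
    exact Cfsg.Agent.Lib.Helper13.OPb.inv_toLin'_iff _ W
  have hker1 : finrank F (LinearMap.ker (u - 1)) = d := by
    have := hchain 1
    rw [pow_one] at this
    rw [this, Multiset.map_cons, Multiset.map_cons, Multiset.map_replicate, Multiset.sum_cons, Multiset.sum_cons,
      Multiset.sum_replicate, smul_eq_mul]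
    norm_num
    omega
  have hker2 : finrank F (LinearMap.ker ((u - 1) ^ 2)) + 1 = 2 * d := by
    have := hchain 2
    rw [this, Multiset.map_cons, Multiset.map_cons, Multiset.map_replicate, Multiset.sum_cons, Multiset.sum_cons,
      Multiset.sum_replicate, smul_eq_mul]
    norm_num
    omega
  have htypes' : ∀ W : Submodule F (((Fin (d - 1) ⊕ Fin (d - 1)) ⊕ Fin 2) → F), NonDeg B W → Inv u W → ∃ ν : Multiset ℕ,
        ν ≤ 1 ::ₘ 3 ::ₘ Multiset.replicate (d - 2) 2 ∧ ν.sum = finrank F W ∧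
        (∀ e : ℕ, Even e → Even (ν.count e)) ∧
        ∀ j : ℕ, finrank F ↥(W ⊓ LinearMap.ker ((u - 1) ^ j)) = (ν.map (fun e => min e j)).sum := by
    intro W hW hWi
    exact htypes W ((hnd_iff W).mp hW) ((hinv_iff W).mp hWi)
  obtain ⟨v₀, hv₀, hv₀τ⟩ := hfixed rfl (by omega) (by
    intro e he
    rw [Multiset.eq_of_mem_replicate he]
    omega)
  rw [← hBa] at hv₀τ
  have hWnd' : NonDeg B W := (hnd_iff W).mpr hWnd
  have hWinv' : Inv u W := (hinv_iff W).mpr hWinv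
  have hWcls : IsoCls B W W₀ := (hcls_iff W W₀).mpr hWiso
  rcases hW₁zdef with ⟨-, rfl⟩ | ⟨-, rfl⟩
  · exact core_even h2 B hS u hiso d hker1 hker2 hV htypes' _ hW₁zmod b₀ ζ hζ v₀ hv₀ hv₀τ hg₀ W hWinv' hWnd' hWcls
  · exact core_even h2 B hS u hiso d hker1 hker2 hV htypes' _ hW₁zmod b₀ ζ hζ v₀ hv₀ hv₀τ hg₀ (B.orthogonal W)
      (Cfsg.Agent.Lib.Helper98.Sy.inv_orth p hp.pos u hup hiso W hWinv') (horth W hWnd').1
      (Cfsg.Agent.Lib.Helper51.OMb.isoCls_orthogonal h2 B hS hV W W₀ hWcls)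

end Cfsg.Agent.Lib.Helper69.OMb
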