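import Cfsg.Agent.Lib.Helper04.OPb11Core
import Cfsg.Agent.Lib.Helper05.OPb7
import Cfsg.Agent.Lib.Helper13.OPb15
import Cfsg.Agent.Lib.Helper27.OPb10Core
import Cfsg.Agent.Lib.Helper42.OPb5a
import Cfsg.Agent.Lib.Helper53.OPb2
import Cfsg.Agent.Lib.Helper57.OPb18
import Cfsg.Agent.Lib.Helper60.OPb8
import Cfsg.Agent.Lib.Helper62.OPb4
import Cfsg.Agent.Lib.Helper63.OPb0
import Cfsg.Agent.Lib.Helper65.OPb3
import Cfsg.Agent.Lib.Helper79.OPb19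
import Cfsg.Agent.Lib.Helper85.OPb5b
import Cfsg.Agent.Lib.Helper61.OPb1
import Cfsg.Agent.Lib.Helper84.OPb9
import Cfsg.Agent.Lib.Helper40.OPb16
import Cfsg.Agent.Lib.Helper98.Oh1
import Cfsg.Agent.Lib.Helper21.OPb14

/-!
# S5989 (architect helper69): assembly of the K-OPb leaves into the concrete case statements
-/

set_option autoImplicit false
set_option maxHeartbeats 1600000

namespace Cfsg.Agent.Lib.Helper69.OPbAsm

open Module Cfsg.Agent.Lib.Helper98.Elus Cfsg.Agent.Lib.Helper98.Sy Cfsg.Agent.Lib.Helper98.Oh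
  Cfsg.Agent.Lib.Helper69.OPb

universe u
variable {F : Type u} [Field F] {V : Type u} [AddCommGroup V] [Module F V]

/-- LEAF 11, exact form -/
theorem exists_isometry_fix [Fintype F] (h2 : (2 : F) ≠ 0) [FiniteDimensional F V]
    (B : LinearMap.BilinForm F V) (hS : ∀ a b, B a b = B b a) (hV : NonDeg B ⊤)
    (p f : ℕ) [Fact p.Prime] (hF : Fintype.card F = p ^ f)
    (r : ℕ) [Fact r.Prime] (hpr : p ≠ r) (hr2 : r ≠ 2) (hrF : (r : F) ≠ 0)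
    (N k : ℕ) (hN : 1 ≤ N) (hk : 0 < k)
    (hdim : finrank F V = N * cOf (orderOf ((Fintype.card F : ℕ) : ZMod r)) + k) :
    ∃ y : V →ₗ[F] V, Iso B y ∧ y ^ r = 1 ∧ y ≠ 1 ∧ finrank F (V0 y) = k :=
  Cfsg.Agent.Lib.Helper04.OPb.exists_isometry_fix_of h2 B hS hV
    (fun B' hS' hV' hlt => Cfsg.Agent.Lib.Helper61.OPb.exists_sub_isoOnto h2 B hS ⊤ hV B' hS' hV' hlt)
    p f hF r hpr hr2 hrF N k hN hk hdim

/-- LEAF 10, exact form -/
theorem exists_fixed_semisimple [Fintype F] (h2 : (2 : F) ≠ 0) [FiniteDimensional F V]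
    (B : LinearMap.BilinForm F V) (hS : ∀ a b, B a b = B b a) (hV : NonDeg B ⊤)
    (p f : ℕ) [Fact p.Prime] (hF : Fintype.card F = p ^ f)
    (r : ℕ) [Fact r.Prime] (hpr : p ≠ r) (hr2 : r ≠ 2) (hrF : (r : F) ≠ 0) (y : V →ₗ[F] V)
    (hy : y ^ r = 1) (hiso : Iso B y)
    (m : ℕ) (hm : Odd m) (hmn : m < finrank F V)
    (W₀ : Submodule F V) (hW₀ : NonDeg B W₀) (hW₀d : finrank F W₀ = m)
    (hcond : m % cOf (orderOf ((Fintype.card F : ℕ) : ZMod r)) <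
        finrank F V % cOf (orderOf ((Fintype.card F : ℕ) : ZMod r)) ∨
      (finrank F V % cOf (orderOf ((Fintype.card F : ℕ) : ZMod r)) = 0 ∧
        ¬ (Plus B ⊤ ↔ (Odd (orderOf ((Fintype.card F : ℕ) : ZMod r)) ∨
          Even (finrank F V / cOf (orderOf ((Fintype.card F : ℕ) : ZMod r))))))) :
    ∃ W : Submodule F V, Inv y W ∧ NonDeg B W ∧ IsoCls B W W₀ :=
  Cfsg.Agent.Lib.Helper27.OPb.exists_fixed_semisimple_of_leaves
    (fun h2 B hS U hU W₀ hW₀ hlt => Cfsg.Agent.Lib.Helper61.OPb.exists_sub_isoCls h2 B hS U hU W₀ hW₀ hlt)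
    (fun h2 B hS hV p f _ hF r _ hpr hr2 hrF y hy hiso U hUV1 hU hUnd =>
      Cfsg.Agent.Lib.Helper84.OPb.piece_chain h2 B hS hV p f hF r hpr hr2 hrF y hy hiso U hUV1 hU hUnd)
    h2 B hS hV p f hF r hpr hr2 hrF y hy hiso m hm hmn W₀ hW₀ hW₀d hcond

/-- LEAF 2, exact form -/
theorem exists_fixed_invol [Fintype F] (h2 : (2 : F) ≠ 0) [FiniteDimensional F V]
    (B : LinearMap.BilinForm F V) (hS : ∀ a b, B a b = B b a) (hV : NonDeg B ⊤)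
    (g : V →ₗ[F] V) (hg : g * g = 1) (hiso : Iso B g)
    (W₀ : Submodule F V) (hW₀ : NonDeg B W₀) (hlt : 2 * finrank F W₀ < finrank F V) :
    ∃ W : Submodule F V, Inv g W ∧ NonDeg B W ∧ IsoCls B W W₀ :=
  Cfsg.Agent.Lib.Helper53.OPb.exists_fixed_invol_of h2 B hS hV g hg hiso W₀ hlt
    (fun U hU h => Cfsg.Agent.Lib.Helper61.OPb.exists_sub_isoCls h2 B hS U hU W₀ hW₀ h)

/-- LEAF 13 -/
theorem mod_le_of_fixed [Fintype F] (h2 : (2 : F) ≠ 0) [FiniteDimensional F V]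
    (B : LinearMap.BilinForm F V) (hS : ∀ a b, B a b = B b a) (hV : NonDeg B ⊤)
    (p f : ℕ) [Fact p.Prime] (hF : Fintype.card F = p ^ f)
    (r : ℕ) [Fact r.Prime] (hpr : p ≠ r) (hr2 : r ≠ 2) (hrF : (r : F) ≠ 0) (y : V →ₗ[F] V)
    (hy : y ^ r = 1) (hiso : Iso B y)
    (W : Submodule F V) (hW : Inv y W) (hWnd : NonDeg B W) :
    finrank F W % cOf (orderOf ((Fintype.card F : ℕ) : ZMod r)) ≤ finrank F (V0 y) := by
  have hR := Cfsg.Agent.Lib.Helper98.Os.isRefl_of_symm hS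
  obtain ⟨-, hnd1⟩ := nonDeg_inf_parts_refl hR r hrF y hy hiso W hWnd hW
  have hsum := finrank_inf_V0_add_inf_V1 r hrF y hy W hW
  obtain ⟨⟨s, hs⟩, -⟩ := type_of_le_V1 h2 B hS hV p f hF r hpr hr2 hrF y hy hiso _ (W ⊓ V1 r y)
    rfl inf_le_right (fun v hv => Submodule.mem_inf.mpr
      ⟨hW v (Submodule.mem_inf.mp hv).1, inv_V1 r y v (Submodule.mem_inf.mp hv).2⟩) hnd1
  have h0le : finrank F ↥(W ⊓ V0 y) ≤ finrank F (V0 y) := Submodule.finrank_mono inf_le_right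
  have hmod : finrank F W % cOf (orderOf ((Fintype.card F : ℕ) : ZMod r)) =
      finrank F ↥(W ⊓ V0 y) % cOf (orderOf ((Fintype.card F : ℕ) : ZMod r)) := by
    rw [← hsum, hs, Nat.add_mul_mod_self_left]
  rw [hmod]
  exact le_trans (Nat.mod_le _ _) h0le

/-- LEAF 18, exact form -/
theorem case_derangement [Fintype F] {p : ℕ} [Fact p.Prime] [CharP F p] (hodd : Odd (Fintype.card F))
    (d m : ℕ) (hd : 1 ≤ d) (r : ℕ) [Fact r.Prime] (hrp : r ≠ p) (hr2 : 2 < r)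
    (hN : cOf (orderOf ((Fintype.card F : ℕ) : ZMod r)) ≤ 2 * d)
    (hreal : 0 < (2 * d) % cOf (orderOf ((Fintype.card F : ℕ) : ZMod r)) ∨
      Odd (orderOf ((Fintype.card F : ℕ) : ZMod r)) ∨
      Even ((2 * d) / cOf (orderOf ((Fintype.card F : ℕ) : ZMod r))))
    (hlt : (2 * d) % cOf (orderOf ((Fintype.card F : ℕ) : ZMod r)) <
      m % cOf (orderOf ((Fintype.card F : ℕ) : ZMod r))) :
    ∃ x : GL (Fin d ⊕ Fin d) F, x ∈ Cfsg.Geo.omegaGL (Cfsg.quadFormPlus d F) ∧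
      ((x ^ r : GL (Fin d ⊕ Fin d) F) : Matrix (Fin d ⊕ Fin d) (Fin d ⊕ Fin d) F) =
        (1 : F) • (1 : Matrix (Fin d ⊕ Fin d) (Fin d ⊕ Fin d) F) ∧
      (∀ z : F, (x : Matrix (Fin d ⊕ Fin d) (Fin d ⊕ Fin d) F) ≠
        z • (1 : Matrix (Fin d ⊕ Fin d) (Fin d ⊕ Fin d) F)) ∧
      ∀ W : Submodule F (Fin d ⊕ Fin d → F), Module.finrank F ↥W = m →
        Cfsg.Geo.IsNondegenerateOn (QuadraticMap.polar (Cfsg.quadFormPlus d F)) W →
        ¬ W.map (Matrix.toLin' (x : Matrix (Fin d ⊕ Fin d) (Fin d ⊕ Fin d) F)) ≤ W :=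
  Cfsg.Agent.Lib.Helper57.OPb.case_derangement_of
    (fun {V} _ _ h2 _ => Cfsg.Agent.Lib.Helper84.OPb.piece_chain h2)
    (fun {V} _ _ h2 _ => exists_isometry_fix h2)
    (fun {V} _ _ h2 _ => mod_le_of_fixed h2)
    hodd d m hd r hrp hr2 hN hreal hlt

end Cfsg.Agent.Lib.Helper69.OPbAsm

namespace Cfsg.Agent.Lib.Helper69.OPbAsm

open Module Cfsg.Agent.Lib.Helper98.Elus Cfsg.Agent.Lib.Helper98.Sy Cfsg.Agent.Lib.Helper98.Oh
  Cfsg.Agent.Lib.Helper69.OPb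

universe u
variable {F : Type u} [Field F]

/-- LEAF 16, exact form -/
theorem case_two [Fintype F] (hodd : Odd (Fintype.card F)) (d m : ℕ) (hd : 4 ≤ d) (hm : Odd m) (hmd : m < d)
    (W₀ : Submodule F (Fin d ⊕ Fin d → F))
    (hW₀ : Module.finrank F ↥W₀ = m ∧
      Cfsg.Geo.IsNondegenerateOn (QuadraticMap.polar (Cfsg.quadFormPlus d F)) W₀) :
    (∀ x : GL (Fin d ⊕ Fin d) F, x ∈ Cfsg.Geo.omegaGL (Cfsg.quadFormPlus d F) →
      (∃ z : F, ((x ^ 2 : GL (Fin d ⊕ Fin d) F) : Matrix (Fin d ⊕ Fin d) (Fin d ⊕ Fin d) F) = z • (1 : Matrix (Fin d ⊕ Fin d) (Fin d ⊕ Fin d) F)) →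
      (∀ z : F, (x : Matrix (Fin d ⊕ Fin d) (Fin d ⊕ Fin d) F) ≠ z • (1 : Matrix (Fin d ⊕ Fin d) (Fin d ⊕ Fin d) F)) →
      ∃ W : Submodule F (Fin d ⊕ Fin d → F), (Module.finrank F ↥W = m ∧ Cfsg.Geo.IsNondegenerateOn (QuadraticMap.polar (Cfsg.quadFormPlus d F)) W ∧ Cfsg.Geo.AreIsometricFor (Cfsg.quadFormPlus d F) W W₀) ∧ W.map (Matrix.toLin' (x : Matrix (Fin d ⊕ Fin d) (Fin d ⊕ Fin d) F)) ≤ W) ↔
    (Odd d ∧ Fintype.card F % 8 ≠ 1) :=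
  Cfsg.Agent.Lib.Helper40.OPb.case_two_of hodd d m hd hm hmd W₀ hW₀
    (fun h2 hS hV g hg hiso W₀ hW₀ hlt => exists_fixed_invol h2 _ hS hV g hg hiso W₀ hW₀ hlt)
    (fun h2 hS x hx hiso W hW hWnd =>
      Cfsg.Agent.Lib.Helper65.OPb.even_finrank_of_sq_neg_one h2 _ hS x hx hiso W hW hWnd)

/-- LEAF 19, exact form -/
theorem case_card [Fintype F] {p : ℕ} [Fact p.Prime] [CharP F p] (hodd : Odd (Fintype.card F))
    (d m : ℕ) (hm : Odd m)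
    (W₀ : Submodule F (Fin d ⊕ Fin d → F))
    (hW₀ : Module.finrank F ↥W₀ = m ∧
      Cfsg.Geo.IsNondegenerateOn (QuadraticMap.polar (Cfsg.quadFormPlus d F)) W₀)
    (r : ℕ) [Fact r.Prime] (hrp : r ≠ p) (hr2 : 2 < r)
    (hmc : m < cOf (orderOf ((Fintype.card F : ℕ) : ZMod r)))
    (hrΩ : r ∣ Nat.card {W : Submodule F (Fin d ⊕ Fin d → F) // Module.finrank F ↥W = m ∧ Cfsg.Geo.IsNondegenerateOn (QuadraticMap.polar (Cfsg.quadFormPlus d F)) W ∧ Cfsg.Geo.AreIsometricFor (Cfsg.quadFormPlus d F) W W₀}) :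
    (2 * d) % cOf (orderOf ((Fintype.card F : ℕ) : ZMod r)) ≤ m := by
  have h2 : (2 : F) ≠ 0 := Cfsg.Agent.Lib.Helper50.two_ne_zero_of_odd_card rfl hodd
  have hpr : p.Prime := Fact.out
  have hrpr : r.Prime := Fact.out
  obtain ⟨n, -, hn⟩ := FiniteField.card F p
  have hrF : (r : F) ≠ 0 := by
    intro h
    rw [CharP.cast_eq_zero_iff F p] at h
    exact hrp ((Nat.prime_dvd_prime_iff_eq hpr hrpr).mp h).symm
  refine Cfsg.Agent.Lib.Helper79.OPb.case_card_of d m W₀ hW₀ r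
    (Cfsg.Agent.Lib.Helper13.OPb.nonDeg_polarBilin_iff _)
    (Cfsg.Agent.Lib.Helper13.OPb.isoCls_polarBilin_iff h2 _)
    (fun W W' h => Cfsg.Agent.Lib.Helper63.OPb.isoCls_finrank h) ?_ hrΩ
  intro hW₀nd hW₀d hr
  exact Cfsg.Agent.Lib.Helper21.OPb.mod_lt_of_dvd_card h2 _ (Cfsg.Agent.Lib.Helper13.OPb.polarBilin_symm _)
    (Cfsg.Agent.Lib.Helper13.OPb.nonDeg_top_of_nondegenerate _ Cfsg.Agent.Lib.Helper50.QPlus_nondegenerate)
    p n hn r hrp.symm (by omega) hrF m hm W₀ hW₀nd hW₀d hmc hr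

end Cfsg.Agent.Lib.Helper69.OPbAsm
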