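import Cfsg.Agent.Lib.Helper69.OPbAsm
import Cfsg.Agent.Lib.Helper50.GeoBridge

/-!
# S5989 (architect helper69): LEAF 17 `case_fix` (semisimple elements fix a member), concrete form
-/

set_option autoImplicit false
set_option maxHeartbeats 1600000

namespace Cfsg.Agent.Lib.Helper69.OPbAsm

open Module Cfsg.Agent.Lib.Helper98.Elus Cfsg.Agent.Lib.Helper98.Sy Cfsg.Agent.Lib.Helper98.Oh
  Cfsg.Agent.Lib.Helper69.OPb

universe u
variable {F : Type u} [Field F]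

theorem exists_QPlus_ne_zero (d : ℕ) (hd : 1 ≤ d) :
    ∃ v : Fin d ⊕ Fin d → F, Cfsg.Agent.Lib.Helper50.QPlus d F v ≠ 0 := by
  classical
  refine ⟨fun j => Sum.elim (fun i : Fin d => if i = ⟨0, hd⟩ then (1 : F) else 0)
    (fun i : Fin d => if i = ⟨0, hd⟩ then (1 : F) else 0) j, ?_⟩
  rw [Cfsg.Agent.Lib.Helper50.QPlus_apply]
  simp

/-- LEAF 17 -/
theorem case_fix [Fintype F] {p : ℕ} [Fact p.Prime] [CharP F p] (hodd : Odd (Fintype.card F))
    (d m : ℕ) (hm : Odd m) (hmd : m < d)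
    (W₀ : Submodule F (Fin d ⊕ Fin d → F))
    (hW₀ : Module.finrank F ↥W₀ = m ∧
      Cfsg.Geo.IsNondegenerateOn (QuadraticMap.polar (Cfsg.quadFormPlus d F)) W₀)
    (r : ℕ) [Fact r.Prime] (hrp : r ≠ p) (hr2 : 2 < r)
    (hcond : m % cOf (orderOf ((Fintype.card F : ℕ) : ZMod r)) <
        (2 * d) % cOf (orderOf ((Fintype.card F : ℕ) : ZMod r)) ∨
      ((2 * d) % cOf (orderOf ((Fintype.card F : ℕ) : ZMod r)) = 0 ∧
        Even (orderOf ((Fintype.card F : ℕ) : ZMod r)) ∧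
        Odd ((2 * d) / cOf (orderOf ((Fintype.card F : ℕ) : ZMod r)))))
    (x : GL (Fin d ⊕ Fin d) F) (hxΩ : x ∈ Cfsg.Geo.omegaGL (Cfsg.quadFormPlus d F))
    (hxr : ∃ z : F, ((x ^ r : GL (Fin d ⊕ Fin d) F) : Matrix (Fin d ⊕ Fin d) (Fin d ⊕ Fin d) F) = z • (1 : Matrix (Fin d ⊕ Fin d) (Fin d ⊕ Fin d) F))
    (hxns : ∀ z : F, (x : Matrix (Fin d ⊕ Fin d) (Fin d ⊕ Fin d) F) ≠ z • (1 : Matrix (Fin d ⊕ Fin d) (Fin d ⊕ Fin d) F)) :
    ∃ W : Submodule F (Fin d ⊕ Fin d → F), (Module.finrank F ↥W = m ∧ Cfsg.Geo.IsNondegenerateOn (QuadraticMap.polar (Cfsg.quadFormPlus d F)) W ∧ Cfsg.Geo.AreIsometricFor (Cfsg.quadFormPlus d F) W W₀) ∧ W.map (Matrix.toLin' (x : Matrix (Fin d ⊕ Fin d) (Fin d ⊕ Fin d) F)) ≤ W := by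
  classical
  have h2 : (2 : F) ≠ 0 := Cfsg.Agent.Lib.Helper50.two_ne_zero_of_odd_card rfl hodd
  have hpr : p.Prime := Fact.out
  have hrpr : r.Prime := Fact.out
  obtain ⟨n, -, hn⟩ := FiniteField.card F p
  have hrF : (r : F) ≠ 0 := by
    intro h
    rw [CharP.cast_eq_zero_iff F p] at h
    exact hrp ((Nat.prime_dvd_prime_iff_eq hpr hrpr).mp h).symm
  have hrodd : Odd r := hrpr.odd_of_ne_two (by omega)
  have hd1 : 1 ≤ d := by omega
  -- the abstract data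
  set Q := Cfsg.Agent.Lib.Helper50.QPlus d F with hQdef
  have hQcoe : (⇑Q : (Fin d ⊕ Fin d → F) → F) = Cfsg.quadFormPlus d F :=
    Cfsg.Agent.Lib.Helper50.QPlus_coe
  have hS := Cfsg.Agent.Lib.Helper13.OPb.polarBilin_symm Q
  have hV : NonDeg (QuadraticMap.polarBilin Q) ⊤ :=
    Cfsg.Agent.Lib.Helper13.OPb.nonDeg_top_of_nondegenerate Q Cfsg.Agent.Lib.Helper50.QPlus_nondegenerate
  have hxO : x ∈ Cfsg.isometryGroup F (⇑Q) := by
    rw [hQcoe]
    exact ((Cfsg.Agent.Lib.Helper50.mem_omegaGL_iff _ x).mp hxΩ).1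
  obtain ⟨z, hz⟩ := hxr
  have hz1 : z = 1 ∨ z = -1 :=
    Cfsg.Agent.Lib.Helper13.OPb.scalar_eq_of_mem Q (exists_QPlus_ne_zero d hd1) (x ^ r)
      (Subgroup.pow_mem _ hxO r) z hz
  have hzz : z * z = 1 := by rcases hz1 with h | h <;> rw [h] <;> ring
  have hzr : z ^ r = z := by
    rcases hz1 with h | h
    · rw [h, one_pow]
    · rw [h, hrodd.neg_one_pow]
  set X : (Fin d ⊕ Fin d → F) →ₗ[F] (Fin d ⊕ Fin d → F) :=
    Matrix.toLin' (x : Matrix (Fin d ⊕ Fin d) (Fin d ⊕ Fin d) F) with hX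
  have hXiso : Iso (QuadraticMap.polarBilin Q) X :=
    Cfsg.Agent.Lib.Helper13.OPb.iso_toLin'_of_mem Q x hxO
  have hXr : X ^ r = z • (1 : (Fin d ⊕ Fin d → F) →ₗ[F] (Fin d ⊕ Fin d → F)) := by
    have h1 : X ^ r = Matrix.toLin' ((x : Matrix (Fin d ⊕ Fin d) (Fin d ⊕ Fin d) F) ^ r) := by
      rw [hX, Matrix.toLin'_pow]
    have h2' : ((x ^ r : GL (Fin d ⊕ Fin d) F) : Matrix (Fin d ⊕ Fin d) (Fin d ⊕ Fin d) F) =
        (x : Matrix (Fin d ⊕ Fin d) (Fin d ⊕ Fin d) F) ^ r := by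
      simp
    rw [h1, ← h2', hz, map_smul, Matrix.toLin'_one]
    rfl
  set y : (Fin d ⊕ Fin d → F) →ₗ[F] (Fin d ⊕ Fin d → F) := z • X with hy
  have hyr : y ^ r = 1 := by
    rw [hy, smul_pow, hXr, hzr, smul_smul, hzz, one_smul]
  have hyiso : Iso (QuadraticMap.polarBilin Q) y := by
    intro u v
    have h1 : (QuadraticMap.polarBilin Q) (y u) (y v) =
        z * z * (QuadraticMap.polarBilin Q) (X u) (X v) := by
      rw [hy]
      simp only [LinearMap.smul_apply, map_smul, smul_eq_mul]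
      ring
    rw [h1, hzz, one_mul]
    exact hXiso u v
  have hW₀nd : NonDeg (QuadraticMap.polarBilin Q) W₀ := by
    rw [Cfsg.Agent.Lib.Helper13.OPb.nonDeg_polarBilin_iff, hQcoe]
    exact hW₀.2
  have hfin : finrank F (Fin d ⊕ Fin d → F) = 2 * d := by
    rw [Module.finrank_fintype_fun_eq_card, Fintype.card_sum, Fintype.card_fin]
    ring
  obtain ⟨X0, hX0, hX0d⟩ := Cfsg.Agent.Lib.Helper13.OPb.exists_ts_QPlus (F := F) d
  have hplus : Plus (QuadraticMap.polarBilin Q) ⊤ :=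
    ⟨X0, le_top, hX0, by rw [hX0d, finrank_top, hfin]⟩
  have hcond' : m % cOf (orderOf ((Fintype.card F : ℕ) : ZMod r)) <
        finrank F (Fin d ⊕ Fin d → F) % cOf (orderOf ((Fintype.card F : ℕ) : ZMod r)) ∨
      (finrank F (Fin d ⊕ Fin d → F) % cOf (orderOf ((Fintype.card F : ℕ) : ZMod r)) = 0 ∧
        ¬ (Plus (QuadraticMap.polarBilin Q) ⊤ ↔ (Odd (orderOf ((Fintype.card F : ℕ) : ZMod r)) ∨
          Even (finrank F (Fin d ⊕ Fin d → F) /
            cOf (orderOf ((Fintype.card F : ℕ) : ZMod r)))))) := by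
    rw [hfin]
    rcases hcond with h | ⟨h0, hie, hNo⟩
    · exact Or.inl h
    · refine Or.inr ⟨h0, ?_⟩
      intro hiff
      rcases hiff.mp hplus with h | h
      · exact (Nat.not_even_iff_odd.mpr h) hie
      · exact (Nat.not_even_iff_odd.mpr hNo) h
  obtain ⟨W, hWinv, hWnd, hWiso⟩ := exists_fixed_semisimple h2 (QuadraticMap.polarBilin Q) hS hV p n hn r
    hrp.symm (by omega) hrF y hyr hyiso m hm (by rw [hfin]; omega) W₀ hW₀nd hW₀.1 hcond'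
  refine ⟨W, ⟨?_, ?_, ?_⟩, ?_⟩
  · rw [Cfsg.Agent.Lib.Helper63.OPb.isoCls_finrank hWiso]
    exact hW₀.1
  · rw [← hQcoe, ← Cfsg.Agent.Lib.Helper13.OPb.nonDeg_polarBilin_iff]
    exact hWnd
  · rw [← hQcoe, ← Cfsg.Agent.Lib.Helper13.OPb.isoCls_polarBilin_iff h2]
    exact hWiso
  · rw [← Cfsg.Agent.Lib.Helper13.OPb.inv_toLin'_iff]
    intro v hv
    have h1 : y v ∈ W := hWinv v hv
    have h3 : X v = z • y v := by
      rw [hy, LinearMap.smul_apply, smul_smul, hzz, one_smul]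
    show X v ∈ W
    rw [h3]
    exact W.smul_mem z h1

end Cfsg.Agent.Lib.Helper69.OPbAsm
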