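import Mathlib
import Cfsg.Prelude.Def_Classical

set_option autoImplicit false
open scoped Pointwise

namespace Cfsg.Agent.Lib.Helper69.OPlusSylow

section abstractPart
variable {G : Type*} [Group G]

lemma mem_conj_smul_iff (K : Subgroup G) (c z : G) :
    z ∈ MulAut.conj c • K ↔ c⁻¹ * z * c ∈ K := by
  rw [Subgroup.mem_pointwise_smul_iff_inv_smul_mem]
  have : (MulAut.conj c)⁻¹ • z = c⁻¹ * z * c := by
    rw [← map_inv, MulAut.smul_def, MulAut.conj_apply, inv_inv]
  rw [this]

theorem sylow_inter_ne_bot_of_subgroup [Finite G] {p : ℕ} [Fact p.Prime] (A : Subgroup G)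
    (hA : IsPGroup p A) (hAA : ∀ g : G, ∃ a ∈ A, a ≠ 1 ∧ g⁻¹ * a * g ∈ A)
    (H : Sylow p G) (x : G) :
    (H : Subgroup G) ⊓ MulAut.conj x • (H : Subgroup G) ≠ ⊥ := by
  obtain ⟨P, hP⟩ := hA.exists_le_sylow
  obtain ⟨z, hz⟩ := MulAction.exists_smul_eq G P H
  have hH : (H : Subgroup G) = MulAut.conj z • (P : Subgroup G) := by
    rw [← hz, Sylow.smul_def, Sylow.pointwise_smul_def]
  obtain ⟨a, haA, ha1, hag⟩ := hAA (z⁻¹ * x * z)
  set b := z * a * z⁻¹ with hb
  have hb1 : b ≠ 1 := by
    intro h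
    apply ha1
    have : a = z⁻¹ * b * z := by rw [hb]; group
    rw [this, h]; group
  have hbH : b ∈ (H : Subgroup G) := by
    rw [hH, mem_conj_smul_iff]
    have : z⁻¹ * b * z = a := by rw [hb]; group
    rw [this]
    exact hP haA
  have hbH' : b ∈ MulAut.conj x • (H : Subgroup G) := by
    rw [mem_conj_smul_iff, hH, mem_conj_smul_iff]
    have : z⁻¹ * (x⁻¹ * b * x) * z = (z⁻¹ * x * z)⁻¹ * a * (z⁻¹ * x * z) := by rw [hb]; group
    rw [this]
    exact hP hag
  intro hbot
  have : b ∈ (⊥ : Subgroup G) := by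
    rw [← hbot]
    exact Subgroup.mem_inf.mpr ⟨hbH, hbH'⟩
  exact hb1 (Subgroup.mem_bot.mp this)

end abstractPart

section field2
variable {F : Type*} [Field F] [Fintype F]

lemma f2_cases (hF : Fintype.card F = 2) (a : F) : a = 0 ∨ a = 1 := by
  classical
  by_contra h
  push Not at h
  have hcard : ({0, 1, a} : Finset F).card ≤ Fintype.card F := Finset.card_le_univ _
  have h3 : ({0, 1, a} : Finset F).card = 3 := by
    rw [Finset.card_insert_of_notMem, Finset.card_insert_of_notMem, Finset.card_singleton]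
    · simp only [Finset.mem_singleton]
      exact fun h' => h.2 h'.symm
    · simp only [Finset.mem_insert, Finset.mem_singleton, not_or]
      exact ⟨zero_ne_one, fun h' => h.1 h'.symm⟩
  omega

lemma f2_add_self (hF : Fintype.card F = 2) (a : F) : a + a = 0 := by
  have h2 : (1 : F) + 1 = 0 := by
    rcases f2_cases hF ((1 : F) + 1) with h | h
    · exact h
    · exfalso
      have : (1 : F) = 0 := by
        have := congrArg (fun t => t - 1) h
        simpa using this
      exact one_ne_zero this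
  calc a + a = a * (1 + 1) := by ring
    _ = 0 := by rw [h2, mul_zero]

lemma f2_eq_of_add (hF : Fintype.card F = 2) {a b : F} (h : a + b = 0) : a = b := by
  have := f2_add_self hF b
  have h2 : a + b = b + b := by rw [h, this]
  exact add_right_cancel h2

end field2

section polar
variable {F : Type*} [Field F] {m : ℕ}

/-- the polar form of the plus type quadratic form -/
def B (u v : Fin m ⊕ Fin m → F) : F :=
  ∑ i : Fin m, (u (Sum.inl i) * v (Sum.inr i) + v (Sum.inl i) * u (Sum.inr i))

lemma B_comm (u v : Fin m ⊕ Fin m → F) : B u v = B v u := by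
  unfold B
  exact Finset.sum_congr rfl (fun i _ => by ring)

lemma B_add_left (u v w : Fin m ⊕ Fin m → F) : B (u + v) w = B u w + B v w := by
  unfold B
  rw [← Finset.sum_add_distrib]
  exact Finset.sum_congr rfl (fun i _ => by simp only [Pi.add_apply]; ring)

lemma B_smul_left (c : F) (u w : Fin m ⊕ Fin m → F) : B (c • u) w = c * B u w := by
  unfold B
  rw [Finset.mul_sum]
  exact Finset.sum_congr rfl (fun i _ => by simp only [Pi.smul_apply, smul_eq_mul]; ring)

lemma B_add_right (u v w : Fin m ⊕ Fin m → F) : B w (u + v) = B w u + B w v := by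
  rw [B_comm, B_add_left, B_comm u, B_comm v]

lemma B_smul_right (c : F) (u w : Fin m ⊕ Fin m → F) : B w (c • u) = c * B w u := by
  rw [B_comm, B_smul_left, B_comm]

lemma Q_add (u v : Fin m ⊕ Fin m → F) :
    Cfsg.quadFormPlus m F (u + v) = Cfsg.quadFormPlus m F u + Cfsg.quadFormPlus m F v + B u v := by
  unfold Cfsg.quadFormPlus B
  rw [← Finset.sum_add_distrib, ← Finset.sum_add_distrib]
  exact Finset.sum_congr rfl (fun i _ => by simp only [Pi.add_apply]; ring)

lemma Q_smul (c : F) (u : Fin m ⊕ Fin m → F) :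
    Cfsg.quadFormPlus m F (c • u) = c * c * Cfsg.quadFormPlus m F u := by
  unfold Cfsg.quadFormPlus
  rw [Finset.mul_sum]
  exact Finset.sum_congr rfl (fun i _ => by simp only [Pi.smul_apply, smul_eq_mul]; ring)

lemma Q_zero : Cfsg.quadFormPlus m F (0 : Fin m ⊕ Fin m → F) = 0 := by
  unfold Cfsg.quadFormPlus
  simp

/-- standard basis vectors -/
def e (j : Fin m ⊕ Fin m) : Fin m ⊕ Fin m → F := Pi.single j 1

lemma B_e_inl (u : Fin m ⊕ Fin m → F) (j : Fin m) : B u (e (Sum.inl j)) = u (Sum.inr j) := by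
  unfold B e
  simp [Pi.single_apply]

lemma B_e_inr (u : Fin m ⊕ Fin m → F) (j : Fin m) : B u (e (Sum.inr j)) = u (Sum.inl j) := by
  unfold B e
  simp [Pi.single_apply]

lemma B_nondeg (v : Fin m ⊕ Fin m → F) (hv : v ≠ 0) : ∃ x, B x v ≠ 0 := by
  by_contra h
  push Not at h
  apply hv
  funext j
  rcases j with j | j
  · have := h (e (Sum.inr j))
    rw [B_comm, B_e_inr] at this
    exact this
  · have := h (e (Sum.inl j))
    rw [B_comm, B_e_inl] at this
    exact this

end polar


section action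
variable {F : Type*} [Field F] {m : ℕ}

/-- the action of an isometry on vectors -/
def act (g : ↥(Cfsg.isometryGroup F (Cfsg.quadFormPlus m F))) (u : Fin m ⊕ Fin m → F) :
    Fin m ⊕ Fin m → F :=
  Matrix.mulVec
    ((g : Matrix.GeneralLinearGroup (Fin m ⊕ Fin m) F) : Matrix (Fin m ⊕ Fin m) (Fin m ⊕ Fin m) F) u

lemma act_add (g : ↥(Cfsg.isometryGroup F (Cfsg.quadFormPlus m F))) (u v : Fin m ⊕ Fin m → F) :
    act g (u + v) = act g u + act g v := Matrix.mulVec_add _ _ _

lemma act_smul (g : ↥(Cfsg.isometryGroup F (Cfsg.quadFormPlus m F))) (c : F) (u : Fin m ⊕ Fin m → F) :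
    act g (c • u) = c • act g u := Matrix.mulVec_smul _ _ _

lemma act_mul (g h : ↥(Cfsg.isometryGroup F (Cfsg.quadFormPlus m F))) (u : Fin m ⊕ Fin m → F) :
    act (g * h) u = act g (act h u) := by
  unfold act
  rw [Matrix.mulVec_mulVec]
  rfl

lemma act_one (u : Fin m ⊕ Fin m → F) :
    act (1 : ↥(Cfsg.isometryGroup F (Cfsg.quadFormPlus m F))) u = u := by
  unfold act
  simp

lemma act_inv_act (g : ↥(Cfsg.isometryGroup F (Cfsg.quadFormPlus m F))) (u : Fin m ⊕ Fin m → F) :
    act g⁻¹ (act g u) = u := by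
  rw [← act_mul, inv_mul_cancel, act_one]

lemma act_Q (g : ↥(Cfsg.isometryGroup F (Cfsg.quadFormPlus m F))) (u : Fin m ⊕ Fin m → F) :
    Cfsg.quadFormPlus m F (act g u) = Cfsg.quadFormPlus m F u := by
  have := g.2 u u
  exact this

lemma act_B (g : ↥(Cfsg.isometryGroup F (Cfsg.quadFormPlus m F))) (u v : Fin m ⊕ Fin m → F) :
    B (act g u) (act g v) = B u v := by
  have h1 := Q_add (act g u) (act g v)
  have h2 := Q_add u v
  rw [← act_add, act_Q, act_Q, act_Q] at h1
  rw [h1] at h2
  exact (add_left_cancel h2)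

lemma eq_one_of_act (g : ↥(Cfsg.isometryGroup F (Cfsg.quadFormPlus m F)))
    (h : ∀ u, act g u = u) : g = 1 := by
  apply Subtype.ext
  apply Units.ext
  show ((g : Matrix.GeneralLinearGroup (Fin m ⊕ Fin m) F) : Matrix (Fin m ⊕ Fin m) (Fin m ⊕ Fin m) F) = 1
  apply Matrix.toLin'.injective
  apply LinearMap.ext
  intro u
  rw [Matrix.toLin'_apply, Matrix.toLin'_one]
  exact h u

end action


section subgroupA
variable {F : Type*} [Field F] {k : ℕ}

/-- the pointwise stabiliser of the first `k` basis vectors `e₁, …, e_k` in `O⁺(2(k+1))` -/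
def A (k : ℕ) (F : Type*) [Field F] :
    Subgroup ↥(Cfsg.isometryGroup F (Cfsg.quadFormPlus (k + 1) F)) where
  carrier := {g | ∀ i : Fin k, act g (e (Sum.inl i.castSucc)) = e (Sum.inl i.castSucc)}
  mul_mem' := by
    intro a b ha hb i
    rw [act_mul, hb i, ha i]
  one_mem' := by
    intro i
    exact act_one _
  inv_mem' := by
    intro a ha i
    have := act_inv_act a (e (Sum.inl i.castSucc) : Fin (k + 1) ⊕ Fin (k + 1) → F)
    rw [ha i] at this
    exact this

lemma mem_A {g : ↥(Cfsg.isometryGroup F (Cfsg.quadFormPlus (k + 1) F))} :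
    g ∈ A k F ↔ ∀ i : Fin k, act g (e (Sum.inl i.castSucc)) = e (Sum.inl i.castSucc) := Iff.rfl

/-- `L y`: the coordinates `inr i` for `i < k` vanish. -/
def L (y : Fin (k + 1) ⊕ Fin (k + 1) → F) : Prop := ∀ i : Fin k, y (Sum.inr i.castSucc) = 0

/-- `W y`: `y` is in the span of `e₁, …, e_k`. -/
def W (y : Fin (k + 1) ⊕ Fin (k + 1) → F) : Prop :=
  L y ∧ y (Sum.inl (Fin.last k)) = 0 ∧ y (Sum.inr (Fin.last k)) = 0

lemma L_add {y z : Fin (k + 1) ⊕ Fin (k + 1) → F} (hy : L y) (hz : L z) : L (y + z) := by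
  intro i
  rw [Pi.add_apply, hy i, hz i, add_zero]

lemma W_eq_sum {w : Fin (k + 1) ⊕ Fin (k + 1) → F} (hw : W w) :
    w = ∑ i : Fin k, w (Sum.inl i.castSucc) • (e (Sum.inl i.castSucc) : Fin (k + 1) ⊕ Fin (k + 1) → F) := by
  classical
  funext j
  rw [Finset.sum_apply]
  simp only [Pi.smul_apply, smul_eq_mul, e, Pi.single_apply]
  rcases j with j | j
  · induction j using Fin.lastCases with
    | last =>
      rw [hw.2.1]
      symm
      apply Finset.sum_eq_zero
      intro i _
      rw [if_neg, mul_zero]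
      intro h
      have := Sum.inl.inj h
      exact (Fin.castSucc_lt_last i).ne this.symm
    | cast j =>
      rw [Finset.sum_eq_single j]
      · simp
      · intro b _ hb
        rw [if_neg, mul_zero]
        intro h
        have := Sum.inl.inj h
        exact hb (Fin.castSucc_injective _ this.symm)
      · intro h
        exact absurd (Finset.mem_univ j) h
  · have h0 : w (Sum.inr j) = 0 := by
      induction j using Fin.lastCases with
      | last => exact hw.2.2
      | cast j => exact hw.1 j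
    rw [h0]
    symm
    apply Finset.sum_eq_zero
    intro i _
    rw [if_neg, mul_zero]
    intro h
    cases h

lemma Q_of_L {y : Fin (k + 1) ⊕ Fin (k + 1) → F} (hy : L y) :
    Cfsg.quadFormPlus (k + 1) F y = y (Sum.inl (Fin.last k)) * y (Sum.inr (Fin.last k)) := by
  unfold Cfsg.quadFormPlus
  rw [Fin.sum_univ_castSucc]
  have : ∑ i : Fin k, y (Sum.inl i.castSucc) * y (Sum.inr i.castSucc) = 0 := by
    apply Finset.sum_eq_zero
    intro i _
    rw [hy i, mul_zero]
  rw [this, zero_add]

end subgroupA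


section twoGroup
variable {F : Type*} [Field F] [Fintype F] {k : ℕ}

lemma act_sum (g : ↥(Cfsg.isometryGroup F (Cfsg.quadFormPlus (k + 1) F))) {ι : Type*}
    (s : Finset ι) (f : ι → (Fin (k + 1) ⊕ Fin (k + 1) → F)) :
    act g (∑ i ∈ s, f i) = ∑ i ∈ s, act g (f i) := by
  classical
  induction s using Finset.induction_on with
  | empty =>
    simp only [Finset.sum_empty]
    unfold act
    exact Matrix.mulVec_zero _
  | insert a s ha ih =>
    rw [Finset.sum_insert ha, Finset.sum_insert ha, act_add, ih]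

variable {g : ↥(Cfsg.isometryGroup F (Cfsg.quadFormPlus (k + 1) F))}

lemma act_coord (hg : g ∈ A k F) (x : Fin (k + 1) ⊕ Fin (k + 1) → F) (i : Fin k) :
    act g x (Sum.inr i.castSucc) = x (Sum.inr i.castSucc) := by
  have h1 := act_B g x (e (Sum.inl i.castSucc))
  rw [hg i, B_e_inl, B_e_inl] at h1
  exact h1

lemma L_act (hg : g ∈ A k F) {y : Fin (k + 1) ⊕ Fin (k + 1) → F} (hy : L y) : L (act g y) := by
  intro i
  rw [act_coord hg, hy i]

lemma L_act_add (hF : Fintype.card F = 2) (hg : g ∈ A k F) (x : Fin (k + 1) ⊕ Fin (k + 1) → F) :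
    L (act g x + x) := by
  intro i
  rw [Pi.add_apply, act_coord hg]
  exact f2_add_self hF _

lemma act_of_W (hg : g ∈ A k F) {w : Fin (k + 1) ⊕ Fin (k + 1) → F} (hw : W w) : act g w = w := by
  have h := W_eq_sum hw
  rw [h, act_sum]
  apply Finset.sum_congr rfl
  intro i _
  rw [act_smul, hg i]

/-- the coordinate formula for the action on `L / W` -/
lemma act_last (hg : g ∈ A k F) {y : Fin (k + 1) ⊕ Fin (k + 1) → F} (hy : L y) :
    act g y (Sum.inl (Fin.last k)) =
        y (Sum.inl (Fin.last k)) * act g (e (Sum.inl (Fin.last k))) (Sum.inl (Fin.last k)) +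
        y (Sum.inr (Fin.last k)) * act g (e (Sum.inr (Fin.last k))) (Sum.inl (Fin.last k)) ∧
    act g y (Sum.inr (Fin.last k)) =
        y (Sum.inl (Fin.last k)) * act g (e (Sum.inl (Fin.last k))) (Sum.inr (Fin.last k)) +
        y (Sum.inr (Fin.last k)) * act g (e (Sum.inr (Fin.last k))) (Sum.inr (Fin.last k)) := by
  classical
  set a := y (Sum.inl (Fin.last k)) with ha
  set b := y (Sum.inr (Fin.last k)) with hb
  set p : Fin (k + 1) ⊕ Fin (k + 1) → F := e (Sum.inl (Fin.last k)) with hp
  set q : Fin (k + 1) ⊕ Fin (k + 1) → F := e (Sum.inr (Fin.last k)) with hq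
  set w : Fin (k + 1) ⊕ Fin (k + 1) → F := y - a • p - b • q with hw
  have hW : W w := by
    refine ⟨?_, ?_, ?_⟩
    · intro i
      have h1 : (Sum.inr i.castSucc : Fin (k + 1) ⊕ Fin (k + 1)) ≠ Sum.inr (Fin.last k) := by
        intro h
        exact (Fin.castSucc_lt_last i).ne (Sum.inr.inj h)
      simp [hw, hp, hq, e, Pi.single_apply, hy i, h1]
    · simp [hw, hp, hq, e, Pi.single_apply, ha]
    · simp [hw, hp, hq, e, Pi.single_apply, hb]
  have hy' : y = w + a • p + b • q := by rw [hw]; abel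
  have hact : act g y = w + a • act g p + b • act g q := by
    conv_lhs => rw [hy']
    rw [act_add, act_add, act_smul, act_smul, act_of_W hg hW]
  constructor
  · rw [hact]
    simp only [Pi.add_apply, Pi.smul_apply, smul_eq_mul, hW.2.1, zero_add]
  · rw [hact]
    simp only [Pi.add_apply, Pi.smul_apply, smul_eq_mul, hW.2.2, zero_add]


/-- the induced action on the hyperbolic plane `L / W` is the identity or the swap -/
lemma plane_cases (hF : Fintype.card F = 2) (hg : g ∈ A k F) :
    (act g (e (Sum.inl (Fin.last k))) (Sum.inl (Fin.last k)) = 1 ∧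
      act g (e (Sum.inl (Fin.last k))) (Sum.inr (Fin.last k)) = 0 ∧
      act g (e (Sum.inr (Fin.last k))) (Sum.inl (Fin.last k)) = 0 ∧
      act g (e (Sum.inr (Fin.last k))) (Sum.inr (Fin.last k)) = 1) ∨
    (act g (e (Sum.inl (Fin.last k))) (Sum.inl (Fin.last k)) = 0 ∧
      act g (e (Sum.inl (Fin.last k))) (Sum.inr (Fin.last k)) = 1 ∧
      act g (e (Sum.inr (Fin.last k))) (Sum.inl (Fin.last k)) = 1 ∧
      act g (e (Sum.inr (Fin.last k))) (Sum.inr (Fin.last k)) = 0) := by
  classical
  set p : Fin (k + 1) ⊕ Fin (k + 1) → F := e (Sum.inl (Fin.last k)) with hp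
  set q : Fin (k + 1) ⊕ Fin (k + 1) → F := e (Sum.inr (Fin.last k)) with hq
  have hLp : L p := by
    intro i
    simp [hp, e]
  have hLq : L q := by
    intro i
    have h1 : (Sum.inr i.castSucc : Fin (k + 1) ⊕ Fin (k + 1)) ≠ Sum.inr (Fin.last k) := by
      intro h
      exact (Fin.castSucc_lt_last i).ne (Sum.inr.inj h)
    simp [hq, e, h1]
  have hQp : Cfsg.quadFormPlus (k + 1) F (act g p) = 0 := by
    rw [act_Q, Q_of_L hLp]
    simp [hp, e]
  have hQq : Cfsg.quadFormPlus (k + 1) F (act g q) = 0 := by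
    rw [act_Q, Q_of_L hLq]
    simp [hq, e]
  have hQpq : Cfsg.quadFormPlus (k + 1) F (act g (p + q)) = 1 := by
    rw [act_Q, Q_of_L (L_add hLp hLq)]
    simp [hp, hq, e]
  rw [Q_of_L (L_act hg hLp)] at hQp
  rw [Q_of_L (L_act hg hLq)] at hQq
  rw [Q_of_L (L_act hg (L_add hLp hLq)), act_add] at hQpq
  simp only [Pi.add_apply] at hQpq
  rcases f2_cases hF (act g p (Sum.inl (Fin.last k))) with h1 | h1 <;>
  rcases f2_cases hF (act g p (Sum.inr (Fin.last k))) with h2 | h2 <;>
  rcases f2_cases hF (act g q (Sum.inl (Fin.last k))) with h3 | h3 <;>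
  rcases f2_cases hF (act g q (Sum.inr (Fin.last k))) with h4 | h4 <;>
  rw [h1, h2] at hQp <;> rw [h3, h4] at hQq <;> rw [h1, h2, h3, h4] at hQpq <;>
  simp [f2_add_self hF] at hQp hQq hQpq ⊢ <;> simp [h1, h2, h3, h4]

lemma W_sq (hF : Fintype.card F = 2) (hg : g ∈ A k F) {y : Fin (k + 1) ⊕ Fin (k + 1) → F}
    (hy : L y) : W (act g (act g y) + y) := by
  have hLy' : L (act g y) := L_act hg hy
  refine ⟨L_add (L_act hg hLy') hy, ?_, ?_⟩
  · rw [Pi.add_apply, (act_last hg hLy').1, (act_last hg hy).1, (act_last hg hy).2]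
    rcases plane_cases hF hg with ⟨h1, h2, h3, h4⟩ | ⟨h1, h2, h3, h4⟩
    · rw [h1, h2, h3, h4]
      simp [f2_add_self hF]
    · rw [h1, h2, h3, h4]
      simp [f2_add_self hF]
  · rw [Pi.add_apply, (act_last hg hLy').2, (act_last hg hy).1, (act_last hg hy).2]
    rcases plane_cases hF hg with ⟨h1, h2, h3, h4⟩ | ⟨h1, h2, h3, h4⟩
    · rw [h1, h2, h3, h4]
      simp [f2_add_self hF]
    · rw [h1, h2, h3, h4]
      simp [f2_add_self hF]


lemma vec_add_self (hF : Fintype.card F = 2) (x : Fin (k + 1) ⊕ Fin (k + 1) → F) : x + x = 0 := by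
  funext j
  exact f2_add_self hF _

/-- `N x = g² x + x` -/
def Nmap (g : ↥(Cfsg.isometryGroup F (Cfsg.quadFormPlus (k + 1) F)))
    (x : Fin (k + 1) ⊕ Fin (k + 1) → F) : Fin (k + 1) ⊕ Fin (k + 1) → F :=
  act g (act g x) + x

lemma L_Nmap (hF : Fintype.card F = 2) (hg : g ∈ A k F) (x : Fin (k + 1) ⊕ Fin (k + 1) → F) :
    L (Nmap g x) := by
  have h1 : Nmap g x = act g (act g x + x) + (act g x + x) := by
    unfold Nmap
    rw [act_add]
    have := vec_add_self hF (act g x)
    calc act g (act g x) + x = act g (act g x) + (act g x + act g x) + x := by rw [this, add_zero]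
      _ = _ := by abel
  rw [h1]
  exact L_add (L_act hg (L_act_add hF hg x)) (L_act_add hF hg x)

lemma Nmap_cube (hF : Fintype.card F = 2) (hg : g ∈ A k F) (x : Fin (k + 1) ⊕ Fin (k + 1) → F) :
    Nmap g (Nmap g (Nmap g x)) = 0 := by
  have hw : W (Nmap g (Nmap g x)) := W_sq hF hg (L_Nmap hF hg x)
  show act g (act g (Nmap g (Nmap g x))) + Nmap g (Nmap g x) = 0
  rw [act_of_W hg hw, act_of_W hg hw]
  exact vec_add_self hF _

lemma Nmap_sq (hF : Fintype.card F = 2) (x : Fin (k + 1) ⊕ Fin (k + 1) → F) :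
    Nmap g (Nmap g x) = act g (act g (act g (act g x))) + x := by
  unfold Nmap
  rw [act_add, act_add]
  have := vec_add_self hF (act g (act g x))
  calc act g (act g (act g (act g x))) + act g (act g x) + (act g (act g x) + x)
      = act g (act g (act g (act g x))) + (act g (act g x) + act g (act g x)) + x := by abel
    _ = _ := by rw [this, add_zero]

lemma act_pow_eight (hF : Fintype.card F = 2) (hg : g ∈ A k F)
    (x : Fin (k + 1) ⊕ Fin (k + 1) → F) :
    act g (act g (act g (act g (act g (act g (act g (act g x))))))) = x := by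
  have h1 : Nmap g (Nmap g (Nmap g (Nmap g x))) = 0 := Nmap_cube hF hg (Nmap g x)
  rw [Nmap_sq hF (Nmap g (Nmap g x)), Nmap_sq hF x] at h1
  rw [act_add, act_add, act_add, act_add] at h1
  have h2 := vec_add_self hF (act g (act g (act g (act g x))))
  have h3 : act g (act g (act g (act g (act g (act g (act g (act g x))))))) + x = 0 := by
    calc act g (act g (act g (act g (act g (act g (act g (act g x))))))) + x
        = act g (act g (act g (act g (act g (act g (act g (act g x))))))) +
          (act g (act g (act g (act g x))) + act g (act g (act g (act g x)))) + x := by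
          rw [h2, add_zero]
      _ = act g (act g (act g (act g (act g (act g (act g (act g x))))))) +
            act g (act g (act g (act g x))) + (act g (act g (act g (act g x))) + x) := by abel
      _ = 0 := h1
  funext j
  have := congrFun h3 j
  exact f2_eq_of_add hF this

theorem A_isPGroup (hF : Fintype.card F = 2) : IsPGroup 2 (A k F) := by
  intro a
  refine ⟨3, ?_⟩
  apply Subtype.ext
  show ((a : ↥(Cfsg.isometryGroup F (Cfsg.quadFormPlus (k + 1) F))) ^ 2 ^ 3) = 1
  apply eq_one_of_act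
  intro u
  have h8 : ((a : ↥(Cfsg.isometryGroup F (Cfsg.quadFormPlus (k + 1) F))) ^ 2 ^ 3) =
      a.1 * (a.1 * (a.1 * (a.1 * (a.1 * (a.1 * (a.1 * a.1)))))) := by
    norm_num [pow_succ, mul_assoc]
  rw [h8]
  simp only [act_mul]
  exact act_pow_eight hF a.2 u

end twoGroup


section construct
variable {F : Type*} [Field F] [Fintype F] {m : ℕ}

/-- an isometry from an involutive linear map preserving `Q` -/
def mkIso (T : (Fin m ⊕ Fin m → F) →ₗ[F] (Fin m ⊕ Fin m → F)) (hT : ∀ x, T (T x) = x)
    (hQ : ∀ x, Cfsg.quadFormPlus m F (T x) = Cfsg.quadFormPlus m F x) :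
    ↥(Cfsg.isometryGroup F (Cfsg.quadFormPlus m F)) :=
  ⟨⟨LinearMap.toMatrix' T, LinearMap.toMatrix' T,
    by
      rw [← LinearMap.toMatrix'_comp]
      have : T ∘ₗ T = LinearMap.id := LinearMap.ext hT
      rw [this, LinearMap.toMatrix'_id],
    by
      rw [← LinearMap.toMatrix'_comp]
      have : T ∘ₗ T = LinearMap.id := LinearMap.ext hT
      rw [this, LinearMap.toMatrix'_id]⟩,
    by
      intro u v
      show Cfsg.quadFormPlus m F (Matrix.mulVec (LinearMap.toMatrix' T) u) = Cfsg.quadFormPlus m F u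
      rw [LinearMap.toMatrix'_mulVec]
      exact hQ u⟩

lemma act_mkIso (T : (Fin m ⊕ Fin m → F) →ₗ[F] (Fin m ⊕ Fin m → F)) (hT : ∀ x, T (T x) = x)
    (hQ : ∀ x, Cfsg.quadFormPlus m F (T x) = Cfsg.quadFormPlus m F x) (u : Fin m ⊕ Fin m → F) :
    act (mkIso T hT hQ) u = T u :=
  LinearMap.toMatrix'_mulVec T u

lemma B_self (hF : Fintype.card F = 2) (v : Fin m ⊕ Fin m → F) : B v v = 0 := by
  unfold B
  apply Finset.sum_eq_zero
  intro i _
  exact f2_add_self hF _

/-- the reflection in `v` as a linear map -/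
def reflMap (v : Fin m ⊕ Fin m → F) : (Fin m ⊕ Fin m → F) →ₗ[F] (Fin m ⊕ Fin m → F) where
  toFun x := x + B x v • v
  map_add' x y := by
    rw [B_add_left, add_smul]
    abel
  map_smul' c x := by
    rw [B_smul_left, RingHom.id_apply, smul_add, smul_smul]

/-- the Siegel map of `u, v` as a linear map -/
def siegelMap (u v : Fin m ⊕ Fin m → F) : (Fin m ⊕ Fin m → F) →ₗ[F] (Fin m ⊕ Fin m → F) where
  toFun x := x + B x u • v + B x v • u
  map_add' x y := by
    rw [B_add_left, B_add_left, add_smul, add_smul]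
    abel
  map_smul' c x := by
    rw [B_smul_left, B_smul_left, RingHom.id_apply, smul_add, smul_add, smul_smul, smul_smul]

lemma reflMap_apply (v x : Fin m ⊕ Fin m → F) : reflMap v x = x + B x v • v := rfl

lemma siegelMap_apply (u v x : Fin m ⊕ Fin m → F) : siegelMap u v x = x + B x u • v + B x v • u := rfl

lemma reflMap_invol (hF : Fintype.card F = 2) (v x : Fin m ⊕ Fin m → F) :
    reflMap v (reflMap v x) = x := by
  rw [reflMap_apply, reflMap_apply, B_add_left, B_smul_left, B_self hF, mul_zero, add_zero]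
  funext j
  simp only [Pi.add_apply, Pi.smul_apply, smul_eq_mul]
  rw [add_assoc, f2_add_self hF, add_zero]

lemma reflMap_Q (hF : Fintype.card F = 2) (v : Fin m ⊕ Fin m → F)
    (hv : Cfsg.quadFormPlus m F v = 1) (x : Fin m ⊕ Fin m → F) :
    Cfsg.quadFormPlus m F (reflMap v x) = Cfsg.quadFormPlus m F x := by
  rw [reflMap_apply, Q_add, Q_smul, hv, mul_one, B_smul_right, add_assoc, f2_add_self hF, add_zero]

lemma siegelMap_invol (hF : Fintype.card F = 2) (u v : Fin m ⊕ Fin m → F) (huv : B u v = 0)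
    (x : Fin m ⊕ Fin m → F) : siegelMap u v (siegelMap u v x) = x := by
  have h1 : B (siegelMap u v x) u = B x u := by
    rw [siegelMap_apply, B_add_left, B_add_left, B_smul_left, B_smul_left, B_self hF, B_comm v u,
      huv]
    ring
  have h2 : B (siegelMap u v x) v = B x v := by
    rw [siegelMap_apply, B_add_left, B_add_left, B_smul_left, B_smul_left, B_self hF, huv]
    ring
  rw [siegelMap_apply, h1, h2, siegelMap_apply]
  funext j
  simp only [Pi.add_apply, Pi.smul_apply, smul_eq_mul]
  have e1 := f2_add_self hF (B x u * v j)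
  have e2 := f2_add_self hF (B x v * u j)
  calc x j + B x u * v j + B x v * u j + B x u * v j + B x v * u j
      = x j + (B x u * v j + B x u * v j) + (B x v * u j + B x v * u j) := by ring
    _ = x j := by rw [e1, e2, add_zero, add_zero]

lemma siegelMap_Q (hF : Fintype.card F = 2) (u v : Fin m ⊕ Fin m → F) (huv : B u v = 0)
    (hu : Cfsg.quadFormPlus m F u = 0) (hv : Cfsg.quadFormPlus m F v = 0)
    (x : Fin m ⊕ Fin m → F) :
    Cfsg.quadFormPlus m F (siegelMap u v x) = Cfsg.quadFormPlus m F x := by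
  rw [siegelMap_apply, add_assoc, Q_add, Q_add, Q_smul, Q_smul, hu, hv, B_add_right, B_smul_right,
    B_smul_right, B_smul_left, B_smul_right, B_comm v u, huv]
  have := f2_add_self hF (B x u * B x v)
  calc Cfsg.quadFormPlus m F x + (B x u * B x u * 0 + B x v * B x v * 0 + B x v * (B x u * 0)) +
        (B x u * B x v + B x v * B x u)
      = Cfsg.quadFormPlus m F x + (B x u * B x v + B x u * B x v) := by ring
    _ = _ := by rw [this, add_zero]


/-- the functional `x ↦ B x y` -/
def Bl (y : Fin m ⊕ Fin m → F) : (Fin m ⊕ Fin m → F) →ₗ[F] F where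
  toFun x := B x y
  map_add' x x' := B_add_left x x' y
  map_smul' c x := by rw [B_smul_left, RingHom.id_apply, smul_eq_mul]

/-- Every family of at most `2m - 2` vectors is fixed by a nontrivial isometry. -/
theorem exists_fixing (hF : Fintype.card F = 2) {J : Type} [Fintype J]
    (hJ : Fintype.card J + 2 ≤ m + m) (ys : J → (Fin m ⊕ Fin m → F)) :
    ∃ a : ↥(Cfsg.isometryGroup F (Cfsg.quadFormPlus m F)), a ≠ 1 ∧ ∀ j, act a (ys j) = ys j := by
  classical
  set Φ : (Fin m ⊕ Fin m → F) →ₗ[F] (J → F) := LinearMap.pi (fun j => Bl (ys j)) with hΦ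
  have hker : ∀ x, x ∈ LinearMap.ker Φ ↔ ∀ j, B x (ys j) = 0 := by
    intro x
    rw [LinearMap.mem_ker]
    constructor
    · intro h j
      have := congrFun h j
      exact this
    · intro h
      funext j
      exact h j
  have hrank : 2 ≤ Module.finrank F (LinearMap.ker Φ) := by
    have h1 := LinearMap.finrank_range_add_finrank_ker Φ
    have h2 : Module.finrank F (Fin m ⊕ Fin m → F) = m + m := by
      rw [Module.finrank_fintype_fun_eq_card, Fintype.card_sum, Fintype.card_fin]
    have h3 : Module.finrank F (LinearMap.range Φ) ≤ Fintype.card J := by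
      have := Submodule.finrank_le (LinearMap.range Φ)
      rwa [Module.finrank_fintype_fun_eq_card] at this
    omega
  -- two independent vectors in the kernel
  obtain ⟨u, huK', hu'⟩ : ∃ u : Fin m ⊕ Fin m → F, u ∈ LinearMap.ker Φ ∧ u ≠ 0 := by
    by_contra h
    push Not at h
    have := finrank_le_one (R := F) (0 : LinearMap.ker Φ) (fun w => ⟨(0 : F), by
      rw [smul_zero]
      exact (Subtype.ext (h w.1 w.2)).symm⟩)
    omega
  obtain ⟨v, hvK', hv', hvu'⟩ : ∃ v : Fin m ⊕ Fin m → F, v ∈ LinearMap.ker Φ ∧ v ≠ 0 ∧ v ≠ u := by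
    by_contra h
    push Not at h
    have := finrank_le_one (R := F) (⟨u, huK'⟩ : LinearMap.ker Φ) (fun w => by
      by_cases hw : w.1 = 0
      · exact ⟨(0 : F), by rw [zero_smul]; exact (Subtype.ext hw).symm⟩
      · exact ⟨(1 : F), by rw [one_smul]; exact (Subtype.ext (h w.1 w.2 hw)).symm⟩)
    omega
  have huK := (hker u).mp huK'
  have hvK := (hker v).mp hvK'
  by_cases hns : ∃ z : Fin m ⊕ Fin m → F, z ∈ LinearMap.ker Φ ∧ Cfsg.quadFormPlus m F z = 1
  · obtain ⟨z, hzK, hz1⟩ := hns
    have hzK' := (hker z).mp hzK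
    have hz0 : z ≠ 0 := by
      intro h
      rw [h, Q_zero] at hz1
      exact zero_ne_one hz1
    refine ⟨mkIso (reflMap z) (reflMap_invol hF z) (reflMap_Q hF z hz1), ?_, ?_⟩
    · intro h1
      obtain ⟨x, hx⟩ := B_nondeg z hz0
      have h2 : act (mkIso (reflMap z) (reflMap_invol hF z) (reflMap_Q hF z hz1)) x = x := by
        rw [h1, act_one]
      rw [act_mkIso, reflMap_apply] at h2
      have h3 : B x z • z = 0 := by
        have := congrArg (fun t => t - x) h2
        simpa using this
      rcases smul_eq_zero.mp h3 with h4 | h4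
      · exact hx h4
      · exact hz0 h4
    · intro j
      rw [act_mkIso, reflMap_apply, B_comm, hzK' j, zero_smul, add_zero]
  · push Not at hns
    have hsing : ∀ z : Fin m ⊕ Fin m → F, z ∈ LinearMap.ker Φ → Cfsg.quadFormPlus m F z = 0 := by
      intro z hz
      rcases f2_cases hF (Cfsg.quadFormPlus m F z) with h | h
      · exact h
      · exact absurd h (hns z hz)
    have hQu := hsing u huK'
    have hQv := hsing v hvK'
    have hQuv := hsing _ (Submodule.add_mem _ huK' hvK')
    have hBuv : B u v = 0 := by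
      rw [Q_add, hQu, hQv, zero_add, zero_add] at hQuv
      exact hQuv
    refine ⟨mkIso (siegelMap u v) (siegelMap_invol hF u v hBuv) (siegelMap_Q hF u v hBuv hQu hQv),
      ?_, ?_⟩
    · intro h1
      obtain ⟨x, hx⟩ := B_nondeg u hu'
      have h2 : act (mkIso (siegelMap u v) (siegelMap_invol hF u v hBuv)
          (siegelMap_Q hF u v hBuv hQu hQv)) x = x := by
        rw [h1, act_one]
      rw [act_mkIso, siegelMap_apply] at h2
      have hxu : B x u = 1 := by
        rcases f2_cases hF (B x u) with h | h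
        · exact absurd h hx
        · exact h
      rw [hxu, one_smul] at h2
      have h3 : v + B x v • u = 0 := by
        have h4 : x + v + B x v • u - x = x - x := congrArg (fun t => t - x) h2
        rw [sub_self] at h4
        rw [← h4]
        abel
      rcases f2_cases hF (B x v) with h | h
      · rw [h, zero_smul, add_zero] at h3
        exact hv' h3
      · rw [h, one_smul] at h3
        apply hvu'
        funext j
        exact f2_eq_of_add hF (congrFun h3 j)
    · intro j
      rw [act_mkIso, siegelMap_apply, B_comm, huK j, zero_smul, add_zero, B_comm, hvK j, zero_smul,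
        add_zero]

end construct

section final
variable {F : Type*} [Field F] [Fintype F]

theorem A_inter (hF : Fintype.card F = 2) (k : ℕ)
    (g : ↥(Cfsg.isometryGroup F (Cfsg.quadFormPlus (k + 1) F))) :
    ∃ a ∈ A k F, a ≠ 1 ∧ g⁻¹ * a * g ∈ A k F := by
  obtain ⟨a, ha1, hafix⟩ := exists_fixing (m := k + 1) hF (J := Fin k ⊕ Fin k)
    (by rw [Fintype.card_sum, Fintype.card_fin]; omega)
    (Sum.elim (fun i => e (Sum.inl i.castSucc)) (fun i => act g (e (Sum.inl i.castSucc))))
  refine ⟨a, ?_, ha1, ?_⟩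
  · intro i
    exact hafix (Sum.inl i)
  · intro i
    have h := hafix (Sum.inr i)
    simp only [Sum.elim_inr] at h
    rw [act_mul, act_mul, h, act_inv_act]

theorem sylow_two_inter_ne_bot (hF : Fintype.card F = 2) {m : ℕ} (hm : 1 ≤ m)
    (H : Sylow 2 (Cfsg.isometryGroup F (Cfsg.quadFormPlus m F)))
    (x : Cfsg.isometryGroup F (Cfsg.quadFormPlus m F)) :
    (H : Subgroup (Cfsg.isometryGroup F (Cfsg.quadFormPlus m F))) ⊓ MulAut.conj x • (H : Subgroup _) ≠ ⊥ := by
  obtain ⟨k, rfl⟩ : ∃ k, m = k + 1 := ⟨m - 1, by omega⟩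
  haveI : Fact (Nat.Prime 2) := ⟨Nat.prime_two⟩
  exact sylow_inter_ne_bot_of_subgroup (A k F) (A_isPGroup hF) (A_inter hF k) H x

end final

end Cfsg.Agent.Lib.Helper69.OPlusSylow
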