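import Mathlib

/-!
Power graphs of finite groups: a local certificate (in terms of closed-twin classes) for the
existence of an element of order `p * q`, sound and complete when the identity is the only
dominating vertex.
-/

set_option autoImplicit false

namespace Cfsg.Agent.Lib.Helper69.PowerGraph

open Subgroup

section cyclic

variable {G : Type*} [Group G]

/-- in a finite group, two elements of the same cyclic subgroup are comparable by divisibility of
their orders -/
theorem mem_zpowers_of_orderOf_dvd [Finite G] {x a b : G} (ha : a ∈ zpowers x) (hb : b ∈ zpowers x)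
    (hd : orderOf a ∣ orderOf b) : a ∈ zpowers b := by
  classical
  haveI : Fintype ↥(zpowers x) := Fintype.ofFinite _
  set a' : ↥(zpowers x) := ⟨a, ha⟩ with ha'
  set b' : ↥(zpowers x) := ⟨b, hb⟩ with hb'
  have hob : orderOf b' = orderOf b := by
    rw [hb']; exact Subgroup.orderOf_mk b hb
  have hoa : orderOf a' = orderOf a := by
    rw [ha']; exact Subgroup.orderOf_mk a ha
  have hpos : 0 < orderOf b := orderOf_pos b
  have h1 := IsCyclic.card_pow_eq_one_le (α := ↥(zpowers x)) hpos
  -- the powers of b' all satisfy the equation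
  have hsub : (Finset.univ.filter (fun z : ↥(zpowers x) => z ∈ zpowers b')) ⊆
      Finset.univ.filter (fun z : ↥(zpowers x) => z ^ orderOf b = 1) := by
    intro z hz
    rw [Finset.mem_filter] at hz ⊢
    refine ⟨hz.1, ?_⟩
    obtain ⟨k, rfl⟩ := hz.2
    rw [← zpow_natCast, ← zpow_mul, mul_comm, zpow_mul, zpow_natCast, ← hob, pow_orderOf_eq_one,
      one_zpow]
  have hcard : (Finset.univ.filter (fun z : ↥(zpowers x) => z ∈ zpowers b')).card = orderOf b := by
    rw [← hob, ← Nat.card_zpowers, Nat.card_eq_fintype_card, Fintype.card_subtype]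
  have heq := Finset.eq_of_subset_of_card_le hsub (by rw [hcard]; exact h1)
  have hmem : a' ∈ Finset.univ.filter (fun z : ↥(zpowers x) => z ^ orderOf b = 1) := by
    rw [Finset.mem_filter]
    refine ⟨Finset.mem_univ _, ?_⟩
    rw [← hoa] at hd
    exact orderOf_dvd_iff_pow_eq_one.mp hd
  rw [← heq, Finset.mem_filter] at hmem
  obtain ⟨k, hk⟩ := hmem.2
  refine ⟨k, ?_⟩
  have := congrArg Subtype.val hk
  simpa using this

theorem mem_zpowers_iff_orderOf_dvd [Finite G] {x a b : G} (ha : a ∈ zpowers x)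
    (hb : b ∈ zpowers x) : a ∈ zpowers b ↔ orderOf a ∣ orderOf b :=
  ⟨orderOf_dvd_of_mem_zpowers, mem_zpowers_of_orderOf_dvd ha hb⟩

/-- same order inside one cyclic subgroup means same cyclic subgroup -/
theorem zpowers_eq_of_mem_of_orderOf_eq [Finite G] {x y : G} (hy : y ∈ zpowers x)
    (ho : orderOf y = orderOf x) : zpowers y = zpowers x := by
  apply le_antisymm
  · exact zpowers_le.mpr hy
  · apply zpowers_le.mpr
    exact mem_zpowers_of_orderOf_dvd (mem_zpowers x) hy (by rw [ho])

/-- the number of generators of a cyclic subgroup -/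
theorem card_generators [Finite G] (a : G) :
    Nat.card {y : G // zpowers y = zpowers a} = Nat.totient (orderOf a) := by
  classical
  haveI : Fintype ↥(zpowers a) := Fintype.ofFinite _
  have h1 := IsCyclic.card_orderOf_eq_totient (α := ↥(zpowers a)) (d := orderOf a)
    (by rw [← Nat.card_eq_fintype_card, Nat.card_zpowers])
  rw [← h1, ← Fintype.card_subtype, ← Nat.card_eq_fintype_card]
  apply Nat.card_congr
  refine
    { toFun := fun y => ⟨⟨y.1, (SetLike.ext_iff.mp y.2 y.1).mp (mem_zpowers y.1)⟩, ?_⟩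
      invFun := fun z => ⟨z.1.1, ?_⟩
      left_inv := fun y => rfl
      right_inv := fun z => rfl }
  · rw [Subgroup.orderOf_mk, ← Nat.card_zpowers, y.2, Nat.card_zpowers]
  · have hz := z.2
    rw [← Subgroup.orderOf_coe] at hz
    exact zpowers_eq_of_mem_of_orderOf_eq z.1.2 hz

end cyclic

section totient

open Nat

theorem odd_le_totient_sq : ∀ k : ℕ, Odd k → k ≤ φ k ^ 2 := by
  intro k
  induction k using Nat.strong_induction_on with
  | _ k ih =>
    intro hk
    by_cases h1 : k = 1
    · subst h1; simp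
    have hp := Nat.minFac_prime h1
    set p := k.minFac with hpdef
    obtain ⟨k', hk'⟩ := Nat.minFac_dvd k
    rw [← hpdef] at hk'
    have hk'pos : 0 < k' := by
      rcases Nat.eq_zero_or_pos k' with h | h
      · rw [h, mul_zero] at hk'; rw [hk'] at hk; exact absurd hk (by decide)
      · exact h
    have hk'lt : k' < k := by
      rw [hk']
      calc k' = 1 * k' := (one_mul _).symm
        _ < p * k' := Nat.mul_lt_mul_of_pos_right hp.one_lt hk'pos
    have hk'odd : Odd k' := by
      rw [hk'] at hk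
      exact (Nat.odd_mul.mp hk).2
    have hpodd : Odd p := by
      rw [hk'] at hk
      exact (Nat.odd_mul.mp hk).1
    have hp3 : 3 ≤ p := by
      have := hp.two_le
      rcases hpodd with ⟨j, hj⟩
      omega
    have ih' := ih k' hk'lt hk'odd
    rw [hk']
    by_cases hdvd : p ∣ k'
    · rw [Nat.totient_mul_of_prime_of_dvd hp hdvd, mul_pow]
      calc p * k' ≤ p ^ 2 * k' := by
            apply Nat.mul_le_mul_right
            nlinarith
        _ ≤ p ^ 2 * φ k' ^ 2 := Nat.mul_le_mul_left _ ih'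
    · rw [Nat.totient_mul_of_prime_of_not_dvd hp hdvd, mul_pow]
      have h2 : p ≤ (p - 1) ^ 2 := by
        obtain ⟨j, hj⟩ : ∃ j, p = j + 3 := ⟨p - 3, by omega⟩
        have h3 : p - 1 = j + 2 := by omega
        rw [h3, hj]
        nlinarith
      calc p * k' ≤ (p - 1) ^ 2 * k' := Nat.mul_le_mul_right _ h2
        _ ≤ (p - 1) ^ 2 * φ k' ^ 2 := Nat.mul_le_mul_left _ ih'

theorem le_two_mul_totient_sq : ∀ n : ℕ, n ≤ 2 * φ n ^ 2 := by
  intro n
  induction n using Nat.strong_induction_on with
  | _ n ih =>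
    rcases Nat.even_or_odd n with he | ho
    · obtain ⟨k, hk⟩ := he
      have hk2 : n = 2 * k := by omega
      rcases Nat.eq_zero_or_pos k with h0 | hpos
      · subst h0; simp [hk2]
      rcases Nat.even_or_odd k with hke | hko
      · have ih' := ih k (by omega)
        rw [hk2, Nat.totient_two_mul_of_even hke, mul_pow]
        nlinarith
      · have := odd_le_totient_sq k hko
        rw [hk2, Nat.totient_two_mul_of_odd hko]
        omega
    · have := odd_le_totient_sq n ho
      omega

end totient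

section graph

variable {G : Type*} [Group G]

/-- adjacency in the power graph (reflexive version) -/
def Adj (x y : G) : Prop := x ∈ zpowers y ∨ y ∈ zpowers x

theorem adj_refl (x : G) : Adj x x := Or.inl (mem_zpowers x)

theorem Adj.symm {x y : G} (h : Adj x y) : Adj y x := Or.symm h

theorem adj_comm {x y : G} : Adj x y ↔ Adj y x := ⟨Adj.symm, Adj.symm⟩

theorem adj_one (x : G) : Adj 1 x := Or.inl (one_mem _)

theorem adj_of_mem {x y : G} (h : x ∈ zpowers y) : Adj x y := Or.inl h

theorem adj_of_mem' {x y : G} (h : x ∈ zpowers y) : Adj y x := Or.inr h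

/-- closed twins: same closed neighbourhood -/
def Twin (x y : G) : Prop := ∀ z, Adj x z ↔ Adj y z

theorem Twin.refl (x : G) : Twin x x := fun _ => Iff.rfl

theorem Twin.symm {x y : G} (h : Twin x y) : Twin y x := fun z => (h z).symm

theorem Twin.trans {x y z : G} (h : Twin x y) (h' : Twin y z) : Twin x z :=
  fun w => (h w).trans (h' w)

theorem Twin.adj {x y : G} (h : Twin x y) : Adj x y := (h y).mpr (adj_refl y)

theorem twin_of_zpowers_eq {x y : G} (h : zpowers x = zpowers y) : Twin x y := by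
  have key : ∀ {u v : G}, zpowers u = zpowers v → ∀ z, Adj u z → Adj v z := by
    intro u v huv z hz
    rcases hz with h1 | h1
    · left
      have : zpowers u ≤ zpowers z := zpowers_le.mpr h1
      apply this
      rw [huv]
      exact mem_zpowers v
    · right
      rw [← huv]
      exact h1
  exact fun z => ⟨key h z, key h.symm z⟩

/-- dominating vertices -/
def Dom (x : G) : Prop := ∀ z, Adj x z

theorem dom_one : Dom (1 : G) := adj_one

theorem dom_of_twin_one {x : G} (h : Twin 1 x) : Dom x := fun z => (h z).mp (adj_one z)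

/-- size of the twin class -/
noncomputable def clsCard (x : G) : ℕ := Nat.card {y : G // Twin y x}

theorem clsCard_eq_of_twin {x y : G} (h : Twin x y) : clsCard x = clsCard y := by
  unfold clsCard
  apply Nat.card_congr
  exact Equiv.subtypeEquivRight (fun z => ⟨fun hz => hz.trans h, fun hz => hz.trans h.symm⟩)

theorem totient_le_clsCard [Finite G] (a : G) : Nat.totient (orderOf a) ≤ clsCard a := by
  rw [← card_generators a]
  unfold clsCard
  apply Nat.card_le_card_of_injective
    (fun y : {y : G // zpowers y = zpowers a} =>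
      (⟨y.1, twin_of_zpowers_eq y.2⟩ : {y : G // Twin y a}))
  intro y y' h
  have h' : (y.1 : G) = y'.1 := congrArg (fun t : {y : G // Twin y a} => t.1) h
  exact Subtype.ext h'

/-- the twin class lies inside the cyclic subgroup of one of its members -/
theorem exists_twin_max [Finite G] (x : G) :
    ∃ y₀ : G, Twin y₀ x ∧ ∀ y, Twin y x → y ∈ zpowers y₀ := by
  haveI : Nonempty {y : G // Twin y x} := ⟨⟨x, Twin.refl x⟩⟩
  obtain ⟨y₀, hy₀⟩ := Finite.exists_max (fun y : {y : G // Twin y x} => orderOf y.1)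
  refine ⟨y₀.1, y₀.2, ?_⟩
  intro y hy
  have hadj : Adj y y₀.1 := (hy.trans y₀.2.symm).adj
  rcases hadj with h | h
  · exact h
  · have h1 : orderOf y₀.1 ∣ orderOf y := orderOf_dvd_of_mem_zpowers h
    have h2 : orderOf y ≤ orderOf y₀.1 := hy₀ ⟨y, hy⟩
    have h3 : orderOf y₀.1 = orderOf y :=
      le_antisymm (Nat.le_of_dvd (orderOf_pos y) h1) h2
    have h4 := zpowers_eq_of_mem_of_orderOf_eq h h3
    rw [h4]
    exact mem_zpowers y

theorem clsCard_le_of_not_dom [Finite G] {x y₀ : G} (hx : ¬ Dom x)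
    (hy₀ : ∀ y, Twin y x → y ∈ zpowers y₀) : clsCard x ≤ orderOf y₀ - 1 := by
  unfold clsCard
  have hsub : {y : G | Twin y x} ⊆ ((zpowers y₀ : Subgroup G) : Set G) \ {1} := by
    intro y hy
    refine ⟨hy₀ y hy, ?_⟩
    intro h1
    rw [Set.mem_singleton_iff] at h1
    rw [h1] at hy
    exact hx (dom_of_twin_one hy)
  have h1 := Set.ncard_le_ncard hsub (Set.toFinite _)
  rw [Set.ncard_sdiff_singleton_of_mem (one_mem _)] at h1
  have h2 : (((zpowers y₀ : Subgroup G) : Set G)).ncard = orderOf y₀ := by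
    rw [← Nat.card_zpowers, ← Nat.card_coe_set_eq]
    rfl
  rw [h2] at h1
  have h3 : Nat.card {y : G // Twin y x} = {y : G | Twin y x}.ncard :=
    Nat.card_coe_set_eq {y : G | Twin y x}
  rw [h3]
  exact h1

theorem ncard_zpowers [Finite G] (y₀ : G) :
    (((zpowers y₀ : Subgroup G) : Set G)).ncard = orderOf y₀ := by
  rw [← Nat.card_zpowers, ← Nat.card_coe_set_eq]
  rfl

/-- an element of prescribed order `d ∣ orderOf y` in `zpowers y` -/
theorem exists_mem_zpowers_orderOf [Finite G] (y : G) {d : ℕ} (hd : d ∣ orderOf y) :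
    ∃ w ∈ zpowers y, orderOf w = d := by
  have hd0 : d ≠ 0 := by
    rintro rfl
    exact (orderOf_pos y).ne' (Nat.eq_zero_of_zero_dvd hd)
  refine ⟨y ^ (orderOf y / d), Subgroup.pow_mem _ (mem_zpowers y) _, ?_⟩
  rw [orderOf_pow_of_dvd ?_ (Nat.div_dvd_of_dvd hd), Nat.div_div_self hd (orderOf_pos y).ne']
  exact (Nat.div_pos (Nat.le_of_dvd (orderOf_pos y) hd) (Nat.pos_of_ne_zero hd0)).ne'

/-- twin class of a non-dominating element of prime order `r`: its size plus one is a power of
`r` -/
theorem clsCard_prime_order [Finite G] {r : ℕ} (hr : r.Prime) {z : G} (hz : orderOf z = r)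
    (hzd : ¬ Dom z) : ∃ s : ℕ, clsCard z + 1 = r ^ s := by
  obtain ⟨y₀, hy₀t, hy₀⟩ := exists_twin_max z
  have hzy : z ∈ zpowers y₀ := hy₀ z (Twin.refl z)
  have hpow : ∃ s, orderOf y₀ = r ^ s := by
    refine ⟨_, Nat.eq_prime_pow_of_unique_prime_dvd (orderOf_pos y₀).ne' ?_⟩
    intro d hd hdvd
    obtain ⟨w, hwy, how⟩ := exists_mem_zpowers_orderOf y₀ hdvd
    have h1 : Adj y₀ w := adj_of_mem' hwy
    have h2 : Adj z w := (hy₀t w).mp h1
    rcases h2 with h3 | h3
    · have := orderOf_dvd_of_mem_zpowers h3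
      rw [hz, how] at this
      exact ((Nat.prime_dvd_prime_iff_eq hr hd).mp this).symm
    · have := orderOf_dvd_of_mem_zpowers h3
      rw [hz, how] at this
      exact (Nat.prime_dvd_prime_iff_eq hd hr).mp this
  obtain ⟨s, hs⟩ := hpow
  refine ⟨s, ?_⟩
  have hcls : {y : G | Twin y z} = ((zpowers y₀ : Subgroup G) : Set G) \ {1} := by
    ext u
    constructor
    · intro hu
      refine ⟨hy₀ u hu, ?_⟩
      intro h1
      rw [Set.mem_singleton_iff] at h1
      have hu' : Twin u z := hu
      rw [h1] at hu'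
      exact hzd (dom_of_twin_one hu')
    · rintro ⟨hu, hu1⟩
      rw [Set.mem_singleton_iff] at hu1
      have hu : u ∈ zpowers y₀ := hu
      have hou : orderOf u ∣ r ^ s := hs ▸ orderOf_dvd_of_mem_zpowers hu
      obtain ⟨j, hj, hje⟩ := (Nat.dvd_prime_pow hr).mp hou
      have hj1 : j ≠ 0 := by
        rintro rfl
        rw [pow_zero] at hje
        exact hu1 (orderOf_eq_one_iff.mp hje)
      have hzu : z ∈ zpowers u :=
        mem_zpowers_of_orderOf_dvd hzy hu (by rw [hz, hje]; exact dvd_pow_self r hj1)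
      show Twin u z
      intro t
      constructor
      · rintro (h | h)
        · exact adj_of_mem ((zpowers_le.mpr h) hzu)
        · have : t ∈ zpowers y₀ := (zpowers_le.mpr hu) h
          exact (hy₀t t).mp (adj_of_mem' this)
      · intro h
        have h' : Adj y₀ t := (hy₀t t).mpr h
        rcases h' with h'' | h''
        · exact adj_of_mem ((zpowers_le.mpr h'') hu)
        · have hot : orderOf t ∣ r ^ s := hs ▸ orderOf_dvd_of_mem_zpowers h''
          obtain ⟨i, hi, hie⟩ := (Nat.dvd_prime_pow hr).mp hot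
          rcases le_total i j with hij | hij
          · exact adj_of_mem' (mem_zpowers_of_orderOf_dvd h'' hu
              (by rw [hie, hje]; exact pow_dvd_pow r hij))
          · exact adj_of_mem (mem_zpowers_of_orderOf_dvd hu h''
              (by rw [hie, hje]; exact pow_dvd_pow r hij))
  unfold clsCard
  have h3 : Nat.card {y : G // Twin y z} = {y : G | Twin y z}.ncard :=
    Nat.card_coe_set_eq {y : G | Twin y z}
  rw [h3, hcls, Set.ncard_sdiff_singleton_of_mem (one_mem _), ncard_zpowers, hs]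
  have : 0 < r ^ s := pow_pos hr.pos s
  omega

end graph

section certificate

/-- the certificate for an element of order `p * q` -/
def Cert (p q : ℕ) (G : Type*) [Group G] : Prop :=
  ∃ x a b : G, Adj x a ∧ Adj x b ∧ ¬ Adj a b ∧ clsCard a = p - 1 ∧ clsCard b = q - 1 ∧
    (p - 1) * (q - 1) ≤ clsCard x ∧
    ∀ z, Adj z x → ¬ Twin z a → ¬ Twin z b → (Adj z a ∧ Adj z b)

section transport

variable {G H : Type*} [Group G] [Group H] (e : G ≃ H)

theorem twin_map (he : ∀ x y : G, Adj x y ↔ Adj (e x) (e y)) {x y : G} :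
    Twin x y ↔ Twin (e x) (e y) := by
  constructor
  · intro h z'
    obtain ⟨z, rfl⟩ := e.surjective z'
    rw [← he, ← he]
    exact h z
  · intro h z
    rw [he, he]
    exact h (e z)

theorem clsCard_map (he : ∀ x y : G, Adj x y ↔ Adj (e x) (e y)) (x : G) :
    clsCard (e x) = clsCard x := by
  unfold clsCard
  symm
  apply Nat.card_congr
  exact e.subtypeEquiv (fun y => twin_map e he)

theorem dom_map (he : ∀ x y : G, Adj x y ↔ Adj (e x) (e y)) {x : G} : Dom x ↔ Dom (e x) := by
  constructor
  · intro h z'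
    obtain ⟨z, rfl⟩ := e.surjective z'
    exact (he x z).mp (h z)
  · intro h z
    exact (he x z).mpr (h (e z))

theorem cert_map (he : ∀ x y : G, Adj x y ↔ Adj (e x) (e y)) {p q : ℕ} (h : Cert p q G) :
    Cert p q H := by
  obtain ⟨x, a, b, hxa, hxb, hab, hca, hcb, hcx, h3⟩ := h
  refine ⟨e x, e a, e b, (he x a).mp hxa, (he x b).mp hxb, fun h' => hab ((he a b).mpr h'), ?_, ?_,
    ?_, ?_⟩
  · rw [clsCard_map e he]; exact hca
  · rw [clsCard_map e he]; exact hcb
  · rw [clsCard_map e he]; exact hcx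
  · intro z' hz' hza hzb
    obtain ⟨z, rfl⟩ := e.surjective z'
    have := h3 z ((he z x).mpr hz') (fun h' => hza ((twin_map e he).mp h'))
      (fun h' => hzb ((twin_map e he).mp h'))
    exact ⟨(he z a).mp this.1, (he z b).mp this.2⟩

end transport

variable {G : Type*} [Group G]

theorem dvd_prime_mul_prime {p q d : ℕ} (hp : p.Prime) (hq : q.Prime) (h : d ∣ p * q) :
    d = 1 ∨ d = p ∨ d = q ∨ d = p * q := by
  obtain ⟨d1, d2, h1, h2, rfl⟩ := (Nat.dvd_mul).mp h
  rcases (Nat.dvd_prime hp).mp h1 with rfl | rfl <;> rcases (Nat.dvd_prime hq).mp h2 with rfl | rfl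
  · left; rfl
  · right; right; left; simp
  · right; left; simp
  · right; right; right; rfl

theorem not_adj_of_prime_orders {p q : ℕ} (hp : p.Prime) (hq : q.Prime) (hpq : p ≠ q) {a b : G}
    (hoa : orderOf a = p) (hob : orderOf b = q) : ¬ Adj a b := by
  rintro (h | h)
  · have := orderOf_dvd_of_mem_zpowers h
    rw [hoa, hob] at this
    exact hpq ((Nat.prime_dvd_prime_iff_eq hp hq).mp this)
  · have := orderOf_dvd_of_mem_zpowers h
    rw [hoa, hob] at this
    exact hpq ((Nat.prime_dvd_prime_iff_eq hq hp).mp this).symm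

/-- in a cyclic group of order `p q`, the twins of an element of order `p` are its generators -/
theorem twin_prime_part [Finite G] {p q : ℕ} (hp : p.Prime) (hq : q.Prime) (hpq : p ≠ q)
    {g a b : G} (hg : orderOf g = p * q) (ha : a ∈ zpowers g) (hb : b ∈ zpowers g)
    (hoa : orderOf a = p) (hob : orderOf b = q) {y : G} (hy : Twin y a) :
    zpowers y = zpowers a := by
  have hab : ¬ Adj a b := not_adj_of_prime_orders hp hq hpq hoa hob
  have hyb : ¬ Adj y b := fun h => hab ((hy b).mp h)
  have hyg : Adj y g := (hy g).mpr (adj_of_mem ha)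
  rcases hyg with h | h
  · have hd : orderOf y ∣ p * q := hg ▸ orderOf_dvd_of_mem_zpowers h
    rcases dvd_prime_mul_prime hp hq hd with h1 | h1 | h1 | h1
    · rw [orderOf_eq_one_iff] at h1
      rw [h1] at hyb
      exact absurd (adj_one b) hyb
    · have hya : y ∈ zpowers a := mem_zpowers_of_orderOf_dvd h ha (by rw [h1, hoa])
      exact zpowers_eq_of_mem_of_orderOf_eq hya (by rw [h1, hoa])
    · have hyb' : y ∈ zpowers b := mem_zpowers_of_orderOf_dvd h hb (by rw [h1, hob])
      exact absurd (adj_of_mem hyb') hyb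
    · have := zpowers_eq_of_mem_of_orderOf_eq h (by rw [h1, hg])
      rw [← this] at hb
      exact absurd (adj_of_mem' hb) hyb
  · have : b ∈ zpowers y := (zpowers_le.mpr h) hb
    exact absurd (adj_of_mem' this) hyb

theorem clsCard_prime_part [Finite G] {p q : ℕ} (hp : p.Prime) (hq : q.Prime) (hpq : p ≠ q)
    {g a b : G} (hg : orderOf g = p * q) (ha : a ∈ zpowers g) (hb : b ∈ zpowers g)
    (hoa : orderOf a = p) (hob : orderOf b = q) : clsCard a = p - 1 := by
  rw [← Nat.totient_prime hp, ← hoa, ← card_generators a]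
  unfold clsCard
  apply Nat.card_congr
  exact Equiv.subtypeEquivRight
    (fun y => ⟨fun hy => twin_prime_part hp hq hpq hg ha hb hoa hob hy, twin_of_zpowers_eq⟩)

/-- completeness of the certificate -/
theorem cert_of_orderOf [Finite G] {p q : ℕ} (hp : p.Prime) (hq : q.Prime) (hpq : p ≠ q) {g : G}
    (hg : orderOf g = p * q) : Cert p q G := by
  have hdp : p ∣ orderOf g := hg ▸ dvd_mul_right p q
  have hdq : q ∣ orderOf g := hg ▸ dvd_mul_left q p
  obtain ⟨a, ha, hoa⟩ := exists_mem_zpowers_orderOf g hdp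
  obtain ⟨b, hb, hob⟩ := exists_mem_zpowers_orderOf g hdq
  refine ⟨g, a, b, adj_of_mem' ha, adj_of_mem' hb, not_adj_of_prime_orders hp hq hpq hoa hob,
    clsCard_prime_part hp hq hpq hg ha hb hoa hob, ?_, ?_, ?_⟩
  · exact clsCard_prime_part hq hp hpq.symm (by rw [hg, mul_comm]) hb ha hob hoa
  · have := totient_le_clsCard g
    rw [hg, Nat.totient_mul ((Nat.coprime_primes hp hq).mpr hpq), Nat.totient_prime hp,
      Nat.totient_prime hq] at this
    exact this
  · intro z hz hza hzb
    rcases hz with h | h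
    · have hd : orderOf z ∣ p * q := hg ▸ orderOf_dvd_of_mem_zpowers h
      rcases dvd_prime_mul_prime hp hq hd with h1 | h1 | h1 | h1
      · rw [orderOf_eq_one_iff] at h1
        rw [h1]
        exact ⟨adj_one a, adj_one b⟩
      · exfalso
        apply hza
        apply twin_of_zpowers_eq
        have hza' : z ∈ zpowers a := mem_zpowers_of_orderOf_dvd h ha (by rw [h1, hoa])
        exact zpowers_eq_of_mem_of_orderOf_eq hza' (by rw [h1, hoa])
      · exfalso
        apply hzb
        apply twin_of_zpowers_eq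
        have hzb' : z ∈ zpowers b := mem_zpowers_of_orderOf_dvd h hb (by rw [h1, hob])
        exact zpowers_eq_of_mem_of_orderOf_eq hzb' (by rw [h1, hob])
      · have := zpowers_eq_of_mem_of_orderOf_eq h (by rw [h1, hg])
        rw [← this] at ha hb
        exact ⟨adj_of_mem' ha, adj_of_mem' hb⟩
    · exact ⟨adj_of_mem' ((zpowers_le.mpr h) ha), adj_of_mem' ((zpowers_le.mpr h) hb)⟩

/-- a prime-power-order twin of `a` inside `zpowers a` whose order does not divide that of `b` -/
theorem exists_pp_twin [Finite G] {x a b : G} (ha : a ∈ zpowers x) (hb : b ∈ zpowers x)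
    (hab : ¬ Adj a b)
    (h3 : ∀ z, Adj z x → ¬ Twin z a → ¬ Twin z b → (Adj z a ∧ Adj z b)) :
    ∃ (r v : ℕ) (c : G), r.Prime ∧ v ≠ 0 ∧ c ∈ zpowers a ∧ orderOf c = r ^ v ∧ Twin c a ∧
      ¬ (r ^ v ∣ orderOf b) := by
  have hnd : ¬ orderOf a ∣ orderOf b := fun h => hab (adj_of_mem (mem_zpowers_of_orderOf_dvd ha hb h))
  have hex : ∃ r : ℕ, (orderOf b).factorization r < (orderOf a).factorization r := by
    by_contra hall
    push Not at hall
    apply hnd
    rw [← Nat.factorization_le_iff_dvd (orderOf_pos a).ne' (orderOf_pos b).ne']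
    intro r
    exact hall r
  obtain ⟨r, hr⟩ := hex
  have hrp : r.Prime := by
    by_contra hnp
    rw [Nat.factorization_eq_zero_of_not_prime (orderOf a) hnp] at hr
    exact Nat.not_lt_zero _ hr
  set v := (orderOf a).factorization r with hv
  have hv0 : v ≠ 0 := by omega
  have hdv : r ^ v ∣ orderOf a := Nat.ordProj_dvd (orderOf a) r
  obtain ⟨c, hca, hoc⟩ := exists_mem_zpowers_orderOf a hdv
  have hndv : ¬ r ^ v ∣ orderOf b := by
    rw [Nat.Prime.pow_dvd_iff_le_factorization hrp (orderOf_pos b).ne']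
    omega
  refine ⟨r, v, c, hrp, hv0, hca, hoc, ?_, hndv⟩
  by_contra hc
  have hcb : ¬ Twin c b := by
    intro h
    exact hab ((h a).mp (adj_of_mem hca)).symm
  have hcx : Adj c x := adj_of_mem ((zpowers_le.mpr ha) hca)
  obtain ⟨-, h4⟩ := h3 c hcx hc hcb
  rcases h4 with h5 | h5
  · apply hndv
    rw [← hoc]
    exact orderOf_dvd_of_mem_zpowers h5
  · exact hab (adj_of_mem' ((zpowers_le.mpr hca) h5))

/-- the lower case of the soundness proof -/
theorem lower_prime_dvd [Finite G] {p : ℕ} (hp : p.Prime) {x a b : G} (ha : a ∈ zpowers x)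
    (hb : b ∈ zpowers x) (hab : ¬ Adj a b) (hca : clsCard a = p - 1)
    (h3 : ∀ z, Adj z x → ¬ Twin z a → ¬ Twin z b → (Adj z a ∧ Adj z b)) : p ∣ orderOf a := by
  obtain ⟨r, v, c, hr, hv, hca', hoc, htc, hnb⟩ := exists_pp_twin ha hb hab h3
  obtain ⟨r', v', c', hr', hv', hcb', hoc', htc', hna⟩ := exists_pp_twin hb ha (fun h => hab h.symm)
    (fun z hz h1 h2 => (h3 z hz h2 h1).symm)
  have hda : r ^ v ∣ orderOf a := hoc ▸ orderOf_dvd_of_mem_zpowers hca'
  have hdb : r' ^ v' ∣ orderOf b := hoc' ▸ orderOf_dvd_of_mem_zpowers hcb'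
  have hrr : r ≠ r' := by
    rintro rfl
    rcases le_total v v' with h | h
    · exact hnb ((pow_dvd_pow r h).trans hdb)
    · exact hna ((pow_dvd_pow r h).trans hda)
  obtain ⟨z₁, hz₁c, hoz₁⟩ := exists_mem_zpowers_orderOf c (hoc ▸ dvd_pow_self r hv)
  have hz₁a : z₁ ∈ zpowers a := (zpowers_le.mpr hca') hz₁c
  have htz : Twin z₁ a := by
    by_contra hc
    have hzb : ¬ Twin z₁ b := by
      intro h
      exact hab ((h a).mp (adj_of_mem hz₁a)).symm
    have hzx : Adj z₁ x := adj_of_mem ((zpowers_le.mpr ha) hz₁a)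
    obtain ⟨-, h4⟩ := h3 z₁ hzx hc hzb
    have h5 : Adj c' z₁ := (htc' z₁).mpr h4.symm
    rcases h5 with h6 | h6
    · have := orderOf_dvd_of_mem_zpowers h6
      rw [hoc', hoz₁] at this
      have h7 : r' ∣ r := (dvd_pow_self r' hv').trans this
      exact hrr ((Nat.prime_dvd_prime_iff_eq hr' hr).mp h7).symm
    · have := orderOf_dvd_of_mem_zpowers h6
      rw [hoc', hoz₁] at this
      have h7 : r ∣ r' := hr.dvd_of_dvd_pow this
      exact hrr ((Nat.prime_dvd_prime_iff_eq hr hr').mp h7)
  have hnd : ¬ Dom z₁ := by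
    intro h
    exact hab ((htz b).mp (h b))
  obtain ⟨s, hs⟩ := clsCard_prime_order hr hoz₁ hnd
  rw [clsCard_eq_of_twin htz, hca] at hs
  have hp2 := hp.two_le
  have hps : p = r ^ s := by omega
  have hs0 : s ≠ 0 := by
    rintro rfl
    rw [pow_zero] at hps
    omega
  have hrp : r ∣ p := hps ▸ dvd_pow_self r hs0
  have : r = p := (Nat.prime_dvd_prime_iff_eq hr hp).mp hrp
  rw [← this]
  exact (dvd_pow_self r hv).trans hda

theorem clsCard_one_of_forall_dom [Finite G] (hS : ∀ x : G, Dom x → x = 1) : clsCard (1 : G) = 1 := by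
  unfold clsCard
  rw [Nat.card_eq_one_iff_unique]
  refine ⟨⟨?_⟩, ⟨⟨1, Twin.refl 1⟩⟩⟩
  intro y y'
  apply Subtype.ext
  rw [hS y.1 (dom_of_twin_one y.2.symm), hS y'.1 (dom_of_twin_one y'.2.symm)]

/-- soundness of the certificate -/
theorem exists_orderOf_of_cert [Finite G] (hS : ∀ x : G, Dom x → x = 1) {p q : ℕ} (hp : p.Prime)
    (hq : q.Prime) (hpq : p ≠ q) (h : Cert p q G) : ∃ g : G, orderOf g = p * q := by
  obtain ⟨x, a, b, hxa, hxb, hab, hca, hcb, hcx, h3⟩ := h
  obtain ⟨y₀, hy₀t, hy₀⟩ := exists_twin_max x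
  have hya : Adj y₀ a := (hy₀t a).mpr hxa
  have hyb : Adj y₀ b := (hy₀t b).mpr hxb
  have h3' : ∀ z, Adj z y₀ → ¬ Twin z a → ¬ Twin z b → (Adj z a ∧ Adj z b) := by
    intro z hz
    exact h3 z ((hy₀t z).mp hz.symm).symm
  have hcy : (p - 1) * (q - 1) ≤ clsCard y₀ := by rw [clsCard_eq_of_twin hy₀t]; exact hcx
  have hp2 := hp.two_le
  have hq2 := hq.two_le
  rcases hya with hya | hya <;> rcases hyb with hyb | hyb
  · -- upper case
    exfalso
    have hnd : ¬ Dom y₀ := by
      intro hd
      have h1 := hS y₀ hd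
      rw [h1, clsCard_one_of_forall_dom hS] at hcy
      have h2 : 1 ≤ p - 1 := by omega
      have h4 : 2 ≤ p - 1 ∨ 2 ≤ q - 1 := by omega
      rcases h4 with h4 | h4
      · have : 2 * 1 ≤ (p - 1) * (q - 1) := Nat.mul_le_mul h4 (by omega)
        omega
      · have : 1 * 2 ≤ (p - 1) * (q - 1) := Nat.mul_le_mul h2 h4
        omega
    have hle : clsCard y₀ ≤ orderOf y₀ - 1 :=
      clsCard_le_of_not_dom hnd (fun y hy => hy₀ y (hy.trans hy₀t))
    have key : ∀ {c : G}, y₀ ∈ zpowers c → ¬ c ∈ zpowers y₀ →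
        orderOf y₀ ≤ clsCard c ^ 2 := by
      intro c hc hnc
      obtain ⟨k, hk⟩ := orderOf_dvd_of_mem_zpowers hc
      have hk0 : k ≠ 0 := by
        rintro rfl
        rw [mul_zero] at hk
        exact (orderOf_pos c).ne' hk
      have hk1 : k ≠ 1 := by
        rintro rfl
        rw [mul_one] at hk
        have := zpowers_eq_of_mem_of_orderOf_eq hc hk.symm
        apply hnc
        rw [this]
        exact mem_zpowers c
      have h1 := le_two_mul_totient_sq (orderOf c)
      have h2 := totient_le_clsCard c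
      have h4 : Nat.totient (orderOf c) ^ 2 ≤ clsCard c ^ 2 := Nat.pow_le_pow_left h2 2
      have h5 : 2 * orderOf y₀ ≤ orderOf c := by
        rw [hk]
        have : 2 ≤ k := by omega
        calc 2 * orderOf y₀ = orderOf y₀ * 2 := mul_comm _ _
          _ ≤ orderOf y₀ * k := Nat.mul_le_mul_left _ this
      omega
    have hna : ¬ a ∈ zpowers y₀ := fun h => hab (adj_of_mem ((zpowers_le.mpr hyb) h))
    have hnb : ¬ b ∈ zpowers y₀ := fun h => hab (adj_of_mem' ((zpowers_le.mpr hya) h))
    have h1 := key hya hna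
    have h2 := key hyb hnb
    rw [hca] at h1
    rw [hcb] at h2
    have hm : 0 < orderOf y₀ := orderOf_pos y₀
    set m := orderOf y₀
    set A := p - 1
    set B := q - 1
    have h5 : A * B < m := by omega
    have h6 : m * m ≤ (A * B) * (A * B) := by
      calc m * m ≤ A ^ 2 * B ^ 2 := Nat.mul_le_mul h1 h2
        _ = (A * B) * (A * B) := by ring
    have h7 : (A * B) * (A * B) < m * m :=
      Nat.mul_lt_mul_of_lt_of_le h5 h5.le hm
    omega
  · exact absurd (adj_of_mem' ((zpowers_le.mpr hya) hyb)) hab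
  · exact absurd (adj_of_mem ((zpowers_le.mpr hyb) hya)) hab
  · -- lower case
    have h1 : p ∣ orderOf a := lower_prime_dvd hp hya hyb hab hca h3'
    have h2 : q ∣ orderOf b := lower_prime_dvd hq hyb hya (fun h => hab h.symm) hcb
      (fun z hz h4 h5 => (h3' z hz h5 h4).symm)
    have h4 : p ∣ orderOf y₀ := h1.trans (orderOf_dvd_of_mem_zpowers hya)
    have h5 : q ∣ orderOf y₀ := h2.trans (orderOf_dvd_of_mem_zpowers hyb)
    have h6 : p * q ∣ orderOf y₀ :=
      Nat.Coprime.mul_dvd_of_dvd_of_dvd ((Nat.coprime_primes hp hq).mpr hpq) h4 h5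
    obtain ⟨w, -, hw⟩ := exists_mem_zpowers_orderOf y₀ h6
    exact ⟨w, hw⟩

/-- the case of a nonidentity dominating vertex -/
theorem exists_orderOf_iff_of_dom [Finite G] {x : G} (hx : Dom x) (hx1 : x ≠ 1) {p q : ℕ}
    (hp : p.Prime) (hq : q.Prime) (hpq : p ≠ q) :
    (∃ g : G, orderOf g = p * q) ↔ p * q ∣ Nat.card G := by
  constructor
  · rintro ⟨g, hg⟩
    rw [← hg]
    exact orderOf_dvd_natCard g
  · intro h
    have key : ∀ {r : ℕ}, r.Prime → r ∣ Nat.card G → r ∣ orderOf x := by
      intro r hr hdvd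
      haveI : Fact r.Prime := ⟨hr⟩
      obtain ⟨u, hu⟩ := exists_prime_orderOf_dvd_card' r hdvd
      rcases hx u with h1 | h1
      · have := orderOf_dvd_of_mem_zpowers h1
        rw [hu] at this
        rcases (Nat.dvd_prime hr).mp this with h2 | h2
        · exact absurd (orderOf_eq_one_iff.mp h2) hx1
        · rw [h2]
      · have := orderOf_dvd_of_mem_zpowers h1
        rw [hu] at this
        exact this
    have h1 := key hp ((dvd_mul_right p q).trans h)
    have h2 := key hq ((dvd_mul_left q p).trans h)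
    have h6 : p * q ∣ orderOf x :=
      Nat.Coprime.mul_dvd_of_dvd_of_dvd ((Nat.coprime_primes hp hq).mpr hpq) h1 h2
    obtain ⟨w, -, hw⟩ := exists_mem_zpowers_orderOf x h6
    exact ⟨w, hw⟩

/-- **isomorphic power graphs have the same prime graph** (one direction) -/
theorem exists_orderOf_of_equiv {G H : Type*} [Group G] [Finite G] [Group H] [Finite H] (e : G ≃ H)
    (he : ∀ x y : G, Adj x y ↔ Adj (e x) (e y)) {p q : ℕ} (hp : p.Prime) (hq : q.Prime)
    (hpq : p ≠ q) (h : ∃ g : G, orderOf g = p * q) : ∃ g : H, orderOf g = p * q := by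
  by_cases hS : ∀ x : G, Dom x → x = 1
  · have hS' : ∀ y : H, Dom y → y = 1 := by
      intro y hy
      obtain ⟨x, rfl⟩ := e.surjective y
      have h1 : x = 1 := hS x ((dom_map e he).mpr hy)
      obtain ⟨x', hx'⟩ := e.surjective (1 : H)
      have h2 : x' = 1 := hS x' ((dom_map e he).mpr (hx' ▸ dom_one))
      rw [h1, ← h2, hx']
    obtain ⟨g, hg⟩ := h
    exact exists_orderOf_of_cert hS' hp hq hpq (cert_map e he (cert_of_orderOf hp hq hpq hg))
  · push Not at hS
    obtain ⟨x, hx, hx1⟩ := hS
    have hcard : Nat.card G = Nat.card H := Nat.card_congr e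
    have h1 := (exists_orderOf_iff_of_dom hx hx1 hp hq hpq).mp h
    rw [hcard] at h1
    -- a nonidentity dominating vertex of `H`
    have hd1 : Dom (e x) := (dom_map e he).mp hx
    have hd2 : Dom (e 1) := (dom_map e he).mp dom_one
    by_cases hex : e x = 1
    · have hne : e 1 ≠ 1 := by
        intro h2
        exact hx1 (e.injective (hex.trans h2.symm))
      exact (exists_orderOf_iff_of_dom hd2 hne hp hq hpq).mpr h1
    · exact (exists_orderOf_iff_of_dom hd1 hex hp hq hpq).mpr h1

end certificate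

end Cfsg.Agent.Lib.Helper69.PowerGraph
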