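import Cfsg.Agent.Lib.Helper44.PrnADefs

set_option autoImplicit false

/-! K-PrnA-MAIN (222209): an odd-order element normalising a Sylow 2-subgroup of `Perm α` is trivial
(the induction; hypotheses carry the other leaves). -/

namespace Cfsg.Agent.Lib.Helper69.PrnA

open Equiv Equiv.Perm Cfsg.Agent.Lib.Helper44.PrnA

universe u

/-- conjugation action of a subgroup on an invariant finite set, as a group homomorphism -/
def conjHom {G : Type*} [Group G] (N : Subgroup G) (S : Finset G)
    (hS : ∀ h ∈ N, ∀ s ∈ S, h * s * h⁻¹ ∈ S) : N →* Equiv.Perm {x // x ∈ S} where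
  toFun h :=
    { toFun := fun s => ⟨(h : G) * s * (h : G)⁻¹, hS h h.2 s s.2⟩
      invFun := fun s => ⟨(h : G)⁻¹ * s * (h : G), by
        have := hS (h : G)⁻¹ (N.inv_mem h.2) s s.2
        simpa using this⟩
      left_inv := fun s => by apply Subtype.ext; simp [mul_assoc]
      right_inv := fun s => by apply Subtype.ext; simp [mul_assoc] }
  map_one' := by ext s; simp
  map_mul' := fun a b => by ext s; simp [mul_assoc]

theorem conjHom_apply {G : Type*} [Group G] (N : Subgroup G) (S : Finset G)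
    (hS : ∀ h ∈ N, ∀ s ∈ S, h * s * h⁻¹ ∈ S) (h : N) (s : {x // x ∈ S}) :
    ((conjHom N S hS h) s : G) = (h : G) * s * (h : G)⁻¹ := rfl


theorem eq_one_of_mem_normalizer_of_odd_aux
    (H1 : ∀ (β : Type u) [Fintype β] [DecidableEq β] (P : Sylow 2 (Perm β)) (h : Perm β),
      (∀ τ ∈ swapsIn (P : Subgroup (Perm β)), h * τ * h⁻¹ = τ) → h * h = 1)
    (H2 : ∀ (β : Type u) [Fintype β] [DecidableEq β] (P : Sylow 2 (Perm β)) (K : Subgroup (Perm β)),
      (∀ h ∈ K, ∀ τ ∈ swapsIn (P : Subgroup (Perm β)), h * τ * h⁻¹ = τ) →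
      Nat.card K ≤ 2 ^ (Fintype.card β / 2))
    (H3 : ∀ (β : Type u) [Fintype β] [DecidableEq β] (P : Sylow 2 (Perm β)),
      (swapsIn (P : Subgroup (Perm β))).card = Fintype.card β / 2)
    (H4 : ∀ n : ℕ, (n.factorial).factorization 2 = n / 2 + ((n / 2).factorial).factorization 2) :
    ∀ n : ℕ, ∀ (α : Type u) [Fintype α] [DecidableEq α], Fintype.card α = n →
      ∀ (P : Sylow 2 (Perm α)) (g : Perm α),
        g ∈ Subgroup.normalizer ((P : Subgroup (Perm α)) : Set (Perm α)) →
        Odd (orderOf g) → g = 1 := by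
  intro n
  induction n using Nat.strong_induction_on with
  | _ n ih =>
  intro α _ _ hn P g hg hodd
  rcases Nat.eq_zero_or_pos n with h0 | hpos
  · have : IsEmpty α := Fintype.card_eq_zero_iff.mp (hn.trans h0)
    exact Subsingleton.elim _ _
  -- the matching
  have hMcard : (swapsIn (P : Subgroup (Perm α))).card = n / 2 := by rw [H3 α P, hn]
  -- invariance of the matching under the normaliser
  have hinvN : ∀ h ∈ Subgroup.normalizer ((P : Subgroup (Perm α)) : Set (Perm α)),
      ∀ s ∈ swapsIn (P : Subgroup (Perm α)), h * s * h⁻¹ ∈ swapsIn (P : Subgroup (Perm α)) := by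
    intro h hh s hs
    rw [mem_swapsIn] at hs ⊢
    refine ⟨(Subgroup.mem_normalizer_iff.mp hh s).mp hs.1, ?_⟩
    obtain ⟨a, b, hab, rfl⟩ := hs.2
    refine ⟨h a, h b, fun e => hab (h.injective e), ?_⟩
    exact (Equiv.swap_apply_apply h a b).symm
  have hPN : (P : Subgroup (Perm α)) ≤
      Subgroup.normalizer ((P : Subgroup (Perm α)) : Set (Perm α)) := Subgroup.le_normalizer
  have hinvP : ∀ h ∈ (P : Subgroup (Perm α)),
      ∀ s ∈ swapsIn (P : Subgroup (Perm α)), h * s * h⁻¹ ∈ swapsIn (P : Subgroup (Perm α)) :=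
    fun h hh => hinvN h (hPN hh)
  set φN := conjHom (Subgroup.normalizer ((P : Subgroup (Perm α)) : Set (Perm α)))
    (swapsIn (P : Subgroup (Perm α))) hinvN with hφN
  set φP := conjHom (P : Subgroup (Perm α)) (swapsIn (P : Subgroup (Perm α))) hinvP with hφP
  -- card of β
  have hβ : Fintype.card {x // x ∈ swapsIn (P : Subgroup (Perm α))} = n / 2 := by
    rw [Fintype.card_coe, hMcard]
  have hβlt : Fintype.card {x // x ∈ swapsIn (P : Subgroup (Perm α))} < n := by
    rw [hβ]; exact Nat.div_lt_self hpos (by norm_num)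
  -- the kernel of φP is small
  have hker : Nat.card φP.ker ≤ 2 ^ (n / 2) := by
    have h1 : Nat.card (φP.ker.map (P : Subgroup (Perm α)).subtype) = Nat.card φP.ker :=
      Subgroup.card_map_of_injective (Subgroup.subtype_injective _)
    rw [← h1, ← hn]
    apply H2 α P
    intro h hh τ hτ
    obtain ⟨x, hx, rfl⟩ := Subgroup.mem_map.mp hh
    have hx1 : φP x = 1 := MonoidHom.mem_ker.mp hx
    have := congrArg (fun e : Perm {x // x ∈ swapsIn (P : Subgroup (Perm α))} =>
      ((e ⟨τ, hτ⟩ : {x // x ∈ swapsIn (P : Subgroup (Perm α))}) : Perm α)) hx1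
    simpa [hφP, conjHom_apply] using this
  -- card of P
  have hPcard : Nat.card (P : Subgroup (Perm α)) =
      2 ^ (n / 2 + ((n / 2).factorial).factorization 2) := by
    rw [Sylow.card_eq_multiplicity, Nat.card_perm, Nat.card_eq_fintype_card, hn, H4 n]
  -- range * ker = P
  have hrk : Nat.card φP.range * Nat.card φP.ker = Nat.card (P : Subgroup (Perm α)) := by
    rw [← Subgroup.index_ker, mul_comm]
    exact Subgroup.card_mul_index _
  have hrange_ge : 2 ^ (((n / 2).factorial).factorization 2) ≤ Nat.card φP.range := by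
    have h2 : 2 ^ (n / 2) * 2 ^ (((n / 2).factorial).factorization 2) ≤
        2 ^ (n / 2) * Nat.card φP.range := by
      calc 2 ^ (n / 2) * 2 ^ (((n / 2).factorial).factorization 2)
          = Nat.card φP.range * Nat.card φP.ker := by rw [hrk, hPcard, pow_add]
        _ ≤ Nat.card φP.range * 2 ^ (n / 2) := Nat.mul_le_mul_left _ hker
        _ = 2 ^ (n / 2) * Nat.card φP.range := mul_comm _ _
    exact Nat.le_of_mul_le_mul_left h2 (by positivity)
  -- range is a 2-group, inside a Sylow S of the same card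
  have hrp : IsPGroup 2 φP.range :=
    IsPGroup.of_surjective (P.isPGroup') φP.rangeRestrict φP.rangeRestrict_surjective
  obtain ⟨S, hS⟩ := hrp.exists_le_sylow
  have hScard : Nat.card (S : Subgroup (Perm {x // x ∈ swapsIn (P : Subgroup (Perm α))})) =
      2 ^ (((n / 2).factorial).factorization 2) := by
    rw [Sylow.card_eq_multiplicity, Nat.card_perm, Nat.card_eq_fintype_card, hβ]
  have hSeq : φP.range = (S : Subgroup (Perm {x // x ∈ swapsIn (P : Subgroup (Perm α))})) :=
    Subgroup.eq_of_le_of_card_ge hS (by rw [hScard]; exact hrange_ge)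
  -- φN g normalises S
  have hnorm : φN ⟨g, hg⟩ ∈ Subgroup.normalizer
      ((S : Subgroup (Perm {x // x ∈ swapsIn (P : Subgroup (Perm α))})) :
        Set (Perm {x // x ∈ swapsIn (P : Subgroup (Perm α))})) := by
    have key : ∀ (k : Perm α) (hk : k ∈ Subgroup.normalizer ((P : Subgroup (Perm α)) : Set (Perm α)))
        (y : Perm {x // x ∈ swapsIn (P : Subgroup (Perm α))}), y ∈ φP.range →
        φN ⟨k, hk⟩ * y * (φN ⟨k, hk⟩)⁻¹ ∈ φP.range := by
      intro k hk y hy
      obtain ⟨x, rfl⟩ := hy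
      refine ⟨⟨k * x * k⁻¹, (Subgroup.mem_normalizer_iff.mp hk x).mp x.2⟩, ?_⟩
      have e : (φN ⟨k, hk⟩)⁻¹ = φN ⟨k⁻¹, Subgroup.inv_mem _ hk⟩ := by
        rw [← map_inv]; rfl
      rw [e]
      apply Equiv.ext
      intro s
      apply Subtype.ext
      simp only [Equiv.Perm.coe_mul, Function.comp_apply, hφN, hφP, conjHom_apply, inv_inv,
        mul_assoc, mul_inv_rev]
    rw [← hSeq, Subgroup.mem_normalizer_iff]
    intro y
    constructor
    · exact key g hg y
    · intro hy
      have := key g⁻¹ (Subgroup.inv_mem _ hg) _ hy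
      have e : (⟨g⁻¹, Subgroup.inv_mem _ hg⟩ :
          Subgroup.normalizer ((P : Subgroup (Perm α)) : Set (Perm α))) = (⟨g, hg⟩)⁻¹ := rfl
      rw [e, map_inv] at this
      simpa [mul_assoc] using this
  -- induction
  have hoddφ : Odd (orderOf (φN ⟨g, hg⟩)) := by
    have h1 : orderOf (φN ⟨g, hg⟩) ∣ orderOf g := by
      have := orderOf_map_dvd φN (⟨g, hg⟩ :
        Subgroup.normalizer ((P : Subgroup (Perm α)) : Set (Perm α)))
      rwa [Subgroup.orderOf_mk] at this
    exact Odd.of_dvd_nat hodd h1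
  have h1 := ih _ hβlt {x // x ∈ swapsIn (P : Subgroup (Perm α))} rfl S (φN ⟨g, hg⟩) hnorm hoddφ
  have hgg : g * g = 1 := by
    apply H1 α P g
    intro τ hτ
    have := congrArg (fun e : Perm {x // x ∈ swapsIn (P : Subgroup (Perm α))} =>
      ((e ⟨τ, hτ⟩ : {x // x ∈ swapsIn (P : Subgroup (Perm α))}) : Perm α)) h1
    simpa [hφN, conjHom_apply] using this
  have h2 : orderOf g ∣ 2 := orderOf_dvd_of_pow_eq_one (by rw [pow_two, hgg])
  have h3 : orderOf g = 1 := by
    rcases (Nat.dvd_prime Nat.prime_two).mp h2 with h | h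
    · exact h
    · rw [h] at hodd; exact absurd hodd (by decide)
  exact orderOf_eq_one_iff.mp h3

/-- **K-PrnA-MAIN** (222209) -/
theorem eq_one_of_mem_normalizer_of_odd
    (H1 : ∀ (β : Type u) [Fintype β] [DecidableEq β] (P : Sylow 2 (Perm β)) (h : Perm β),
      (∀ τ ∈ swapsIn (P : Subgroup (Perm β)), h * τ * h⁻¹ = τ) → h * h = 1)
    (H2 : ∀ (β : Type u) [Fintype β] [DecidableEq β] (P : Sylow 2 (Perm β)) (K : Subgroup (Perm β)),
      (∀ h ∈ K, ∀ τ ∈ swapsIn (P : Subgroup (Perm β)), h * τ * h⁻¹ = τ) →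
      Nat.card K ≤ 2 ^ (Fintype.card β / 2))
    (H3 : ∀ (β : Type u) [Fintype β] [DecidableEq β] (P : Sylow 2 (Perm β)),
      (swapsIn (P : Subgroup (Perm β))).card = Fintype.card β / 2)
    (H4 : ∀ n : ℕ, (n.factorial).factorization 2 = n / 2 + ((n / 2).factorial).factorization 2)
    {α : Type u} [Fintype α] [DecidableEq α] (P : Sylow 2 (Perm α)) (g : Perm α)
    (hg : g ∈ Subgroup.normalizer ((P : Subgroup (Perm α)) : Set (Perm α)))
    (hodd : Odd (orderOf g)) : g = 1 :=
  eq_one_of_mem_normalizer_of_odd_aux H1 H2 H3 H4 _ α rfl P g hg hodd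

end Cfsg.Agent.Lib.Helper69.PrnA
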