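import Mathlib
import Cfsg.Agent.Lib.Helper49.RSU3Defs
import Cfsg.Agent.Lib.Helper40.GUConj
import Cfsg.Agent.Lib.Helper21.RSU3L04
import Cfsg.Agent.Lib.Helper47.RSU3L06

/-!
# K-RSU3-L08 (keystone 228308, S2283): the explicit conjugator
`g = yM a_w b_w * hM lam * xM c e` conjugates `u = xM 1 β` to `v = u * hM μ * yM 0 bz`.
-/

set_option autoImplicit false
set_option linter.unusedSectionVars false
set_option linter.unusedVariables false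

namespace Cfsg.Agent.Lib.Helper69.RSU3

open Matrix Cfsg.Agent.Lib.Helper49.StSU Cfsg.Agent.Lib.Helper49.RSU3

section scalars

variable {F : Type*} [Field F]

theorem inv_sub_one_ne (μ : F) (h1 : μ - 1 ≠ 0) : μ⁻¹ - 1 ≠ 0 := by
  intro h
  apply h1
  have : μ⁻¹ = 1 := by linear_combination h
  have : μ = 1 := by rw [← inv_inv μ, this, inv_one]
  linear_combination this

theorem inv_add_one_ne (μ : F) (h2 : μ + 1 ≠ 0) : μ⁻¹ + 1 ≠ 0 := by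
  intro h
  apply h2
  have : μ⁻¹ = -1 := by linear_combination h
  have : μ = -1 := by rw [← inv_inv μ, this]; norm_num
  linear_combination this

/-- `β` -/
noncomputable def cB (μ : F) : F := (2 * μ + 1) / ((μ - 1) * (μ + 1) ^ 3)
/-- `β^q` -/
noncomputable def cB' (μ : F) : F := -(μ ^ 3 * (μ + 2)) / ((μ - 1) * (μ + 1) ^ 3)
/-- `a_w` -/
noncomputable def cAw (μ : F) : F := -((μ - 1) * (μ + 1) ^ 2)
/-- `a_w^q` -/
noncomputable def cAw' (μ : F) : F := (μ - 1) * (μ + 1) ^ 2 / μ ^ 3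
/-- `b_w` -/
noncomputable def cBw (μ : F) : F := (μ - 1) ^ 2 * (μ + 1) ^ 3 / μ ^ 2
/-- `b_w^q` -/
noncomputable def cBw' (μ : F) : F := (μ - 1) ^ 2 * (μ + 1) ^ 3 / μ ^ 3
/-- `λ` -/
noncomputable def cL (μ : F) : F := -(1 / (μ + 1))
/-- `λ^q` -/
noncomputable def cL' (μ : F) : F := -(μ / (μ + 1))
/-- `c` -/
noncomputable def cC (μ : F) : F := cB μ ^ 2 * μ * (μ + 2)
/-- `c^q` -/
noncomputable def cC' (μ : F) : F := cB' μ ^ 2 * (1 + 2 * μ) / μ ^ 2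
/-- `e` -/
noncomputable def cE (μ : F) : F := cC μ * cC' μ * cB μ
/-- `e^q` -/
noncomputable def cE' (μ : F) : F := cC' μ * cC μ * cB' μ
/-- `a₁` -/
noncomputable def cA1 (μ : F) : F := -(1 / (μ * (μ + 1)))
/-- `a₁^q` -/
noncomputable def cA1' (μ : F) : F := -(μ ^ 2 / (μ + 1))
/-- `b₂` -/
noncomputable def cB2 (μ : F) : F := cB μ * (μ + 1) ^ 2

theorem cB'_eq (μ : F) (h0 : μ ≠ 0) (h1 : μ - 1 ≠ 0) (h2 : μ + 1 ≠ 0) :
    (2 * μ⁻¹ + 1) / ((μ⁻¹ - 1) * (μ⁻¹ + 1) ^ 3) = cB' μ := by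
  unfold cB'
  have h3 := inv_sub_one_ne μ h1
  have h4 := inv_add_one_ne μ h2
  rw [div_eq_div_iff (mul_ne_zero h3 (pow_ne_zero 3 h4)) (mul_ne_zero h1 (pow_ne_zero 3 h2))]
  field_simp
  ring

theorem cB_inv (μ : F) (h0 : μ ≠ 0) (h1 : μ - 1 ≠ 0) (h2 : μ + 1 ≠ 0) :
    cB' μ⁻¹ = cB μ := by
  unfold cB' cB
  have h3 := inv_sub_one_ne μ h1
  have h4 := inv_add_one_ne μ h2
  rw [div_eq_div_iff (mul_ne_zero h3 (pow_ne_zero 3 h4)) (mul_ne_zero h1 (pow_ne_zero 3 h2))]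
  field_simp
  ring

theorem cB_val (μ : F) (h0 : μ ≠ 0) (h1 : μ - 1 ≠ 0) (h2 : μ + 1 ≠ 0) :
    cB μ + cB' μ + 1 = 0 := by
  unfold cB cB'
  field_simp
  ring

theorem cB2_eq (μ : F) (h0 : μ ≠ 0) (h1 : μ - 1 ≠ 0) (h2 : μ + 1 ≠ 0) :
    cB2 μ = cB μ - cC μ + cC' μ := by
  unfold cB2 cC cC' cB cB'
  field_simp
  ring

theorem cW_val (μ : F) (h0 : μ ≠ 0) (h1 : μ - 1 ≠ 0) (h2 : μ + 1 ≠ 0) :
    cBw μ + cBw' μ + cAw μ * cAw' μ = 0 := by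
  unfold cBw cBw' cAw cAw'
  field_simp
  ring

theorem cE_val (μ : F) (h0 : μ ≠ 0) (h1 : μ - 1 ≠ 0) (h2 : μ + 1 ≠ 0) :
    cE μ + cE' μ + cC μ * cC' μ = 0 := by
  unfold cE cE'
  linear_combination (cC μ * cC' μ) * cB_val μ h0 h1 h2

/-- (i): `V * Y = Y * X₁` -/
theorem id_i (μ : F) (h0 : μ ≠ 0) (h1 : μ - 1 ≠ 0) (h2 : μ + 1 ≠ 0) :
    (!![1, 1, cB μ; 0, 1, -1; 0, 0, 1] * !![μ, 0, 0; 0, μ⁻¹ / μ, 0; 0, 0, 1 / μ⁻¹] *
      !![1, 0, 0; 0, 1, 0; -((μ - μ⁻¹) ^ 3), 0, 1]) * !![1, 0, 0; cAw μ, 1, 0; cBw μ, -cAw' μ, 1] =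
    !![1, 0, 0; cAw μ, 1, 0; cBw μ, -cAw' μ, 1] *
      !![1, cA1 μ, cB μ * μ; 0, 1, -cA1' μ; 0, 0, 1] := by
  unfold cB cAw cAw' cBw cA1 cA1'
  ext i j
  fin_cases i <;> fin_cases j <;>
    simp [Matrix.mul_apply, Fin.sum_univ_three] <;> field_simp <;> ring

/-- (ii): `H * X_{b₂} = X₁ * H` -/
theorem id_ii (μ : F) (h0 : μ ≠ 0) (h1 : μ - 1 ≠ 0) (h2 : μ + 1 ≠ 0) :
    !![cL μ, 0, 0; 0, cL' μ / cL μ, 0; 0, 0, 1 / cL' μ] * !![1, 1, cB2 μ; 0, 1, -1; 0, 0, 1] =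
    !![1, cA1 μ, cB μ * μ; 0, 1, -cA1' μ; 0, 0, 1] *
      !![cL μ, 0, 0; 0, cL' μ / cL μ, 0; 0, 0, 1 / cL' μ] := by
  unfold cL cL' cB2 cB cA1 cA1'
  ext i j
  fin_cases i <;> fin_cases j <;>
    simp [Matrix.mul_apply, Fin.sum_univ_three] <;> field_simp <;> ring

/-- (iii): `X_c * U = X_{b₂} * X_c` -/
theorem id_iii (μ : F) (h0 : μ ≠ 0) (h1 : μ - 1 ≠ 0) (h2 : μ + 1 ≠ 0) :
    !![1, cC μ, cE μ; 0, 1, -cC' μ; 0, 0, 1] * !![1, 1, cB μ; 0, 1, -1; 0, 0, 1] =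
    !![1, 1, cB2 μ; 0, 1, -1; 0, 0, 1] * !![1, cC μ, cE μ; 0, 1, -cC' μ; 0, 0, 1] := by
  rw [cB2_eq μ h0 h1 h2]
  ext i j
  fin_cases i <;> fin_cases j <;>
    simp [Matrix.mul_apply, Fin.sum_univ_three] <;> ring

end scalars

section main

variable {F : Type*} [Field F] [Fintype F] {q : ℕ}

theorem l08_mulVec_y (a b : F) (u : Fin 3 → F) :
    yM q a b *ᵥ u = ![u 0, a * u 0 + u 1, b * u 0 - a ^ q * u 1 + u 2] := by
  unfold yM
  ext i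
  fin_cases i <;> simp [Matrix.mulVec, dotProduct, Fin.sum_univ_three] <;> ring

theorem l08_det_y (a b : F) : (yM q a b).det = 1 := by
  unfold yM
  rw [Matrix.det_fin_three]
  simp

theorem exists_y' (hF : Fintype.card F = q ^ 2) (a b : F) (h : Val q a b) :
    ∃ g : GJ 3 F q, mat g = yM q a b := by
  obtain ⟨φ, hφ, hφφ, -⟩ := Cfsg.Agent.Lib.Helper40.GUConj.exists_frob hF
  have h' : b + φ b + a * φ a = 0 := by
    rw [hφ b, hφ a]; exact h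
  have hM : ∀ u v, hJ 3 F q (yM q a b *ᵥ u) (yM q a b *ᵥ v) = hJ 3 F q u v := by
    intro u v
    rw [Cfsg.Agent.Lib.Helper21.RSU3.l04_hJ φ hφ, Cfsg.Agent.Lib.Helper21.RSU3.l04_hJ φ hφ,
      l08_mulVec_y, l08_mulVec_y, ← hφ a]
    simp only [Matrix.cons_val_zero, Matrix.cons_val_one, Matrix.cons_val_two, Matrix.head_cons,
      Matrix.tail_cons, map_add, map_sub, map_mul, hφφ]
    linear_combination (u 0 * φ (v 0)) * h'
  exact ⟨⟨⟨yM q a b, l08_det_y a b⟩, hM⟩, rfl⟩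

theorem exists_conj (hq : 3 ≤ q) (hF : Fintype.card F = q ^ 2) (μ : F) (hμ : orderOf μ = q + 1) :
    ∃ g : GJ 3 F q, ∀ u hh zz : GJ 3 F q, mat u = xM q 1 (bet μ) → mat hh = hM q μ →
      mat zz = yM q 0 (bz μ) → g * u * g⁻¹ = u * hh * zz := by
  obtain ⟨φ, hφ, hφφ, -⟩ := Cfsg.Agent.Lib.Helper40.GUConj.exists_frob hF
  have hμ0 : μ ≠ 0 := by
    intro h
    rw [h, orderOf_zero] at hμ
    omega
  have hpow : μ ^ (q + 1) = 1 := by rw [← hμ]; exact pow_orderOf_eq_one μ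
  have hμq : μ ^ q = μ⁻¹ := by
    rw [pow_succ] at hpow
    exact eq_inv_of_mul_eq_one_left hpow
  have h1 : μ - 1 ≠ 0 := by
    intro h
    have : μ = 1 := by linear_combination h
    rw [this, orderOf_one] at hμ
    omega
  have h2 : μ + 1 ≠ 0 := by
    intro h
    have hm : μ = -1 := by linear_combination h
    have h2' : μ ^ 2 = 1 := by rw [hm]; norm_num
    have := orderOf_dvd_of_pow_eq_one h2'
    rw [hμ] at this
    have := Nat.le_of_dvd (by norm_num) this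
    omega
  have hφμ : φ μ = μ⁻¹ := by rw [hφ, hμq]
  have hφμi : φ μ⁻¹ = μ := by rw [← hφμ, hφφ]
  have hφB : φ (cB μ) = cB' μ := by
    unfold cB
    rw [map_div₀, map_mul, map_pow, map_add, map_sub, map_add, map_mul, map_one, map_ofNat, hφμ]
    exact cB'_eq μ hμ0 h1 h2
  have hφB' : φ (cB' μ) = cB μ := by rw [← hφB, hφφ]
  have hφAw : φ (cAw μ) = cAw' μ := by
    unfold cAw cAw'
    rw [map_neg, map_mul, map_pow, map_add, map_sub, map_one, hφμ]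
    field_simp
    ring
  have hφBw : φ (cBw μ) = cBw' μ := by
    unfold cBw cBw'
    rw [map_div₀, map_mul, map_pow, map_pow, map_pow, map_add, map_sub, map_one, hφμ]
    field_simp
    ring
  have hφL : φ (cL μ) = cL' μ := by
    unfold cL cL'
    rw [map_neg, map_div₀, map_add, map_one, hφμ]
    have h4 := inv_add_one_ne μ h2
    rw [neg_inj, div_eq_div_iff h4 h2]
    field_simp
    ring
  have hφC : φ (cC μ) = cC' μ := by
    unfold cC cC'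
    rw [map_mul, map_mul, map_pow, map_add, map_ofNat, hφB, hφμ]
    field_simp
  have hφC' : φ (cC' μ) = cC μ := by rw [← hφC, hφφ]
  have hφE : φ (cE μ) = cE' μ := by
    unfold cE cE'
    rw [map_mul, map_mul, hφC, hφC', hφB]
  have hL0 : cL μ ≠ 0 := by
    unfold cL
    rw [neg_ne_zero]
    exact one_div_ne_zero h2
  -- the three factors
  obtain ⟨gY, hgY⟩ := exists_y' hF (cAw μ) (cBw μ) (by
    unfold Val
    rw [← hφ, ← hφ, hφBw, hφAw]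
    exact cW_val μ hμ0 h1 h2)
  obtain ⟨gH, hgH⟩ := Cfsg.Agent.Lib.Helper47.RSU3.exists_h hF (cL μ) hL0
  obtain ⟨gX, hgX⟩ := Cfsg.Agent.Lib.Helper21.RSU3.exists_x hF (cC μ) (cE μ) (by
    unfold Val
    rw [← hφ, ← hφ, hφE, hφC]
    exact cE_val μ hμ0 h1 h2)
  have hq0 : q ≠ 0 := by omega
  -- explicit matrices
  have eU : xM q 1 (bet μ) = !![1, 1, cB μ; 0, 1, -1; 0, 0, 1] := by
    unfold xM bet cB
    rw [one_pow]
  have eHμ : hM q μ = !![μ, 0, 0; 0, μ⁻¹ / μ, 0; 0, 0, 1 / μ⁻¹] := by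
    unfold hM
    rw [hμq]
  have eZ : yM q 0 (bz μ) = !![1, 0, 0; 0, 1, 0; -((μ - μ⁻¹) ^ 3), 0, 1] := by
    unfold yM bz
    rw [zero_pow hq0, neg_zero]
  have eY : yM q (cAw μ) (cBw μ) = !![1, 0, 0; cAw μ, 1, 0; cBw μ, -cAw' μ, 1] := by
    unfold yM
    rw [← hφ, hφAw]
  have eH : hM q (cL μ) = !![cL μ, 0, 0; 0, cL' μ / cL μ, 0; 0, 0, 1 / cL' μ] := by
    unfold hM
    rw [← hφ, hφL]
  have eX : xM q (cC μ) (cE μ) = !![1, cC μ, cE μ; 0, 1, -cC' μ; 0, 0, 1] := by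
    unfold xM
    rw [← hφ, hφC]
  refine ⟨gY * gH * gX, ?_⟩
  intro u hh zz hu hhh hzz
  rw [mul_inv_eq_iff_eq_mul]
  apply mat_injective
  simp only [mat_mul]
  rw [hgY, hgH, hgX, hu, hhh, hzz, eU, eHμ, eZ, eY, eH, eX]
  have i1 := id_i μ hμ0 h1 h2
  have i2 := id_ii μ hμ0 h1 h2
  have i3 := id_iii μ hμ0 h1 h2
  set U : Matrix (Fin 3) (Fin 3) F := !![1, 1, cB μ; 0, 1, -1; 0, 0, 1] with hU
  set Hm : Matrix (Fin 3) (Fin 3) F := !![μ, 0, 0; 0, μ⁻¹ / μ, 0; 0, 0, 1 / μ⁻¹] with hHm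
  set Z : Matrix (Fin 3) (Fin 3) F := !![1, 0, 0; 0, 1, 0; -((μ - μ⁻¹) ^ 3), 0, 1] with hZ
  set Y : Matrix (Fin 3) (Fin 3) F := !![1, 0, 0; cAw μ, 1, 0; cBw μ, -cAw' μ, 1] with hY
  set H : Matrix (Fin 3) (Fin 3) F := !![cL μ, 0, 0; 0, cL' μ / cL μ, 0; 0, 0, 1 / cL' μ] with hH
  set Xc : Matrix (Fin 3) (Fin 3) F := !![1, cC μ, cE μ; 0, 1, -cC' μ; 0, 0, 1] with hXc
  set X1 : Matrix (Fin 3) (Fin 3) F := !![1, cA1 μ, cB μ * μ; 0, 1, -cA1' μ; 0, 0, 1] with hX1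
  set Xb : Matrix (Fin 3) (Fin 3) F := !![1, 1, cB2 μ; 0, 1, -1; 0, 0, 1] with hXb
  calc Y * H * Xc * U = Y * H * (Xc * U) := by simp only [Matrix.mul_assoc]
    _ = Y * H * (Xb * Xc) := by rw [i3]
    _ = Y * (H * Xb) * Xc := by simp only [Matrix.mul_assoc]
    _ = Y * (X1 * H) * Xc := by rw [i2]
    _ = (Y * X1) * H * Xc := by simp only [Matrix.mul_assoc]
    _ = (U * Hm * Z * Y) * H * Xc := by rw [← i1]
    _ = U * Hm * Z * (Y * H * Xc) := by simp only [Matrix.mul_assoc]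

end main

end Cfsg.Agent.Lib.Helper69.RSU3
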