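import Mathlib

/-!
# K-RSU3-L15 (keystone 228315, S2283): `F_p[μ³] = F` for `μ` of order `q + 1` in `F`, `|F| = q²`,
`q ≥ 3`, `q ≠ 5, 8`.
-/

set_option autoImplicit false
set_option linter.unusedSectionVars false
set_option linter.unusedVariables false

namespace Cfsg.Agent.Lib.Helper69.RSU3

variable {F : Type*} [Field F] [Fintype F] {q : ℕ}

/-- arithmetic core -/
theorem arith_core (hq : 3 ≤ q) (hq5 : q ≠ 5) (hq8 : q ≠ 8) (r m d : ℕ) (hr : 2 ≤ r)
    (hcard : q ^ 2 = r ^ m) (hd : d = (q + 1) / Nat.gcd (q + 1) 3) (hdvd : d ∣ r - 1) : m = 1 := by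
  have hg : Nat.gcd (q + 1) 3 ∣ q + 1 := Nat.gcd_dvd_left _ _
  have hg3 : Nat.gcd (q + 1) 3 ≤ 3 := Nat.le_of_dvd (by norm_num) (Nat.gcd_dvd_right _ _)
  have hgpos : 0 < Nat.gcd (q + 1) 3 := Nat.gcd_pos_of_pos_right _ (by norm_num)
  have hdg : d * Nat.gcd (q + 1) 3 = q + 1 := by rw [hd]; exact Nat.div_mul_cancel hg
  have h3d : q + 1 ≤ 3 * d := by
    calc q + 1 = d * Nat.gcd (q + 1) 3 := hdg.symm
      _ ≤ d * 3 := Nat.mul_le_mul_left _ hg3
      _ = 3 * d := by ring
  have hdle : d ≤ r - 1 := Nat.le_of_dvd (by omega) hdvd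
  rcases Nat.lt_or_ge m 1 with h0 | h1
  · have : m = 0 := by omega
    rw [this, pow_zero] at hcard
    have : 9 ≤ q ^ 2 := by nlinarith
    omega
  rcases Nat.lt_or_ge m 3 with hlt | hge
  · rcases Nat.lt_or_ge m 2 with h | h
    · omega
    · exfalso
      have hm2 : m = 2 := by omega
      rw [hm2] at hcard
      have hrq : r = q := by
        have := Nat.pow_left_injective (n := 2) (by norm_num) hcard
        exact this.symm
      subst hrq
      -- d ∣ r - 1 and d ∣ r + 1
      have hd1 : d ∣ r + 1 := ⟨_, hdg.symm⟩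
      have hd2 : d ∣ 2 := by
        have : r + 1 = (r - 1) + 2 := by omega
        rw [this] at hd1
        exact (Nat.dvd_add_right hdvd).mp hd1
      have hd2' : d ≤ 2 := Nat.le_of_dvd (by norm_num) hd2
      have hq5' : r ≤ 5 := by omega
      interval_cases r
      · -- r = 3
        norm_num at hd
        subst hd
        norm_num at hd2
      · -- r = 4
        norm_num at hd
        subst hd
        norm_num at hd2
      · exact hq5 rfl
  · exfalso
    have hr3 : r ^ 3 ≤ q ^ 2 := by
      rw [hcard]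
      exact Nat.pow_le_pow_right (by omega) hge
    have h3r : q + 4 ≤ 3 * r := by omega
    -- (q + 4)^3 ≤ 27 r^3 ≤ 27 q^2, but (q+4)^3 - 27 q^2 = (q-8)^2 (q+1) > 0
    have h1 : (q + 4) ^ 3 ≤ (3 * r) ^ 3 := Nat.pow_le_pow_left h3r 3
    have h2 : (3 * r) ^ 3 = 27 * r ^ 3 := by ring
    have h3 : (q + 4) ^ 3 ≤ 27 * q ^ 2 := by
      rw [h2] at h1
      exact h1.trans (Nat.mul_le_mul_left _ hr3)
    have hz : ((q : ℤ) + 4) ^ 3 ≤ 27 * (q : ℤ) ^ 2 := by exact_mod_cast h3
    have hne : (q : ℤ) - 8 ≠ 0 := by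
      intro h
      apply hq8
      have : (q : ℤ) = 8 := by linarith
      exact_mod_cast this
    have hsq : 0 < ((q : ℤ) - 8) ^ 2 := by positivity
    have hq1 : 0 < (q : ℤ) + 1 := by positivity
    have hpos : 0 < ((q : ℤ) - 8) ^ 2 * ((q : ℤ) + 1) := mul_pos hsq hq1
    nlinarith [hpos, hz]

theorem span_generic (hq : 3 ≤ q) (hq5 : q ≠ 5) (hq8 : q ≠ 8) (hF : Fintype.card F = q ^ 2)
    (μ : F) (hμ : orderOf μ = q + 1) (S : Set F) (h1 : (1 : F) ∈ S)
    (hadd : ∀ a ∈ S, ∀ b ∈ S, a + b ∈ S) (hmul : ∀ a ∈ S, μ ^ 3 * a ∈ S) : ∀ c : F, c ∈ S := by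
  classical
  obtain ⟨p, hp⟩ := CharP.exists F
  have := hp
  have hpprime : p.Prime := by
    rcases CharP.char_is_prime_or_zero F p with h | h
    · exact h
    · exfalso
      subst h
      have : CharZero F := CharP.charP_to_charZero F
      exact not_finite F
  -- multiples
  have hnsmul : ∀ n : ℕ, ∀ a ∈ S, (n + 1) • a ∈ S := by
    intro n a ha
    induction n with
    | zero => simpa using ha
    | succ n ih =>
      rw [succ_nsmul]
      exact hadd _ ih _ ha
  have hpa : ∀ a : F, p • a = 0 := by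
    intro a
    rw [nsmul_eq_mul, CharP.cast_eq_zero F p, zero_mul]
  have hzero : (0 : F) ∈ S := by
    have := hnsmul (p - 1) 1 h1
    rw [Nat.sub_add_cancel hpprime.one_le, hpa] at this
    exact this
  have hneg : ∀ a ∈ S, -a ∈ S := by
    intro a ha
    have h2 : 2 ≤ p := hpprime.two_le
    have := hnsmul (p - 2) a ha
    have e : (p - 2 + 1) • a = -a := by
      have h3 : (p - 2 + 1) • a + a = 0 := by
        rw [← succ_nsmul]
        have : p - 2 + 1 + 1 = p := by omega
        rw [this, hpa]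
      exact eq_neg_of_add_eq_zero_left h3
    rw [e] at this
    exact this
  -- the multiplier predicate
  set P : F → Prop := fun x => ∀ a ∈ S, x * a ∈ S with hP
  have hPone : P 1 := fun a ha => by rw [one_mul]; exact ha
  have hPmul : ∀ x y, P x → P y → P (x * y) := fun x y hx hy a ha => by
    rw [mul_assoc]; exact hx _ (hy _ ha)
  have hPpow : ∀ x, P x → ∀ n : ℕ, P (x ^ n) := by
    intro x hx n
    induction n with
    | zero => rw [pow_zero]; exact hPone
    | succ n ih => rw [pow_succ]; exact hPmul _ _ ih hx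
  have hPzero : P 0 := fun a _ => by rw [zero_mul]; exact hzero
  have hPinv : ∀ x, P x → P x⁻¹ := by
    intro x hx
    by_cases hx0 : x = 0
    · rw [hx0, inv_zero]; exact hPzero
    · have hc : 2 ≤ Fintype.card F := by rw [hF]; nlinarith
      have h2 : x ^ (Fintype.card F - 1) = 1 := FiniteField.pow_card_sub_one_eq_one x hx0
      have h3 : x * x ^ (Fintype.card F - 2) = 1 := by
        rw [← pow_succ']
        have : Fintype.card F - 2 + 1 = Fintype.card F - 1 := by omega
        rw [this, h2]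
      have h4 : x⁻¹ = x ^ (Fintype.card F - 2) := (eq_inv_of_mul_eq_one_right h3).symm ▸ rfl
      rw [h4]
      exact hPpow x hx _
  set K : Subfield F := Subfield.closure {μ ^ 3} with hK
  have hKP : ∀ x ∈ K, P x := by
    intro x hx
    refine Subfield.closure_induction (p := fun x _ => P x) ?_ hPone ?_ ?_ ?_ ?_ hx
    · intro y hy
      rw [Set.mem_singleton_iff] at hy
      subst hy
      exact hmul
    · intro x y _ _ hx hy a ha
      rw [add_mul]
      exact hadd _ (hx a ha) _ (hy a ha)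
    · intro x _ hx a ha
      rw [neg_mul]
      exact hneg _ (hx a ha)
    · intro x _ hx
      exact hPinv x hx
    · intro x y _ _ hx hy
      exact hPmul x y hx hy
  have hKS : ∀ x ∈ K, x ∈ S := by
    intro x hx
    have := hKP x hx 1 h1
    rwa [mul_one] at this
  -- counting
  have hcardF : Nat.card F = Nat.card K ^ Module.finrank K F :=
    Module.natCard_eq_pow_finrank (K := K) (V := F)
  have hcardF' : q ^ 2 = Nat.card K ^ Module.finrank K F := by
    rw [← hcardF, Nat.card_eq_fintype_card, hF]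
  have hKcard2 : 2 ≤ Nat.card K := by
    have : Nontrivial K := inferInstance
    exact Finite.one_lt_card
  -- order of μ^3
  have hord : orderOf (μ ^ 3) = (q + 1) / Nat.gcd (q + 1) 3 := by
    rw [orderOf_pow' μ (by norm_num : (3 : ℕ) ≠ 0), hμ]
  have hν : μ ^ 3 ∈ K := Subfield.subset_closure rfl
  have hμ0 : μ ≠ 0 := by
    intro h
    rw [h, orderOf_zero] at hμ
    · omega
  have hν0 : (⟨μ ^ 3, hν⟩ : K) ≠ 0 := by
    intro h
    have := congrArg Subtype.val h
    simp at this
    exact hμ0 this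
  have hpow : (μ ^ 3) ^ (Nat.card K - 1) = 1 := by
    have : Fintype K := Fintype.ofFinite K
    have h := FiniteField.pow_card_sub_one_eq_one (⟨μ ^ 3, hν⟩ : K) hν0
    have h' := congrArg Subtype.val h
    rw [Nat.card_eq_fintype_card]
    simpa using h'
  have hdvd : orderOf (μ ^ 3) ∣ Nat.card K - 1 := orderOf_dvd_of_pow_eq_one hpow
  have hm1 : Module.finrank K F = 1 :=
    arith_core hq hq5 hq8 (Nat.card K) (Module.finrank K F) (orderOf (μ ^ 3)) hKcard2 hcardF' hord hdvd
  have hcardeq : Nat.card K = Nat.card F := by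
    rw [hcardF, hm1, pow_one]
  intro c
  have hbij : Function.Bijective (Subtype.val : K → F) := by
    rw [Nat.bijective_iff_injective_and_card]
    exact ⟨Subtype.val_injective, hcardeq⟩
  obtain ⟨k, rfl⟩ := hbij.2 c
  exact hKS _ k.2

end Cfsg.Agent.Lib.Helper69.RSU3
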