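import Mathlib
import Cfsg.Agent.Lib.Helper48.RSpDefs2

/-!
# K-RSp-A1 (keystone 228120, pack K-RSp of helper48 for S2281; parallel hand): `exists_param_odd`

Finite field of odd characteristic: a parameter `t ≠ 0` such that for every `l ≠ 0` the additive closure of
`{l (2 t²)^k}` is the whole field.
-/

set_option autoImplicit false
set_option linter.unusedVariables false
set_option linter.unusedSectionVars false
set_option linter.style.longLine false

namespace Cfsg.Agent.Lib.Helper69.RSp

open Polynomial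

/-- every element of a finite field of odd characteristic is a sum of two squares -/
theorem a1_sum_two_squares (F : Type*) [Field F] [Fintype F] (hF : ringChar F ≠ 2) (x : F) :
    ∃ a b : F, x = a ^ 2 + b ^ 2 := by
  have hodd := FiniteField.odd_card_of_char_ne_two hF
  have hf : (X ^ 2 : F[X]).degree = 2 := by simp
  have hg : (X ^ 2 - C x : F[X]).degree = 2 := by
    rw [degree_X_pow_sub_C (by norm_num : 0 < 2)]
    rfl
  obtain ⟨a, b, hab⟩ := FiniteField.exists_root_sum_quadratic hf hg hodd
  refine ⟨a, b, ?_⟩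
  simp only [eval_pow, eval_X, eval_sub, eval_C] at hab
  linear_combination -hab

/-- the quotient of two non-squares is a square -/
theorem a1_isSquare_mul (F : Type*) [Field F] [Fintype F] (hF : ringChar F ≠ 2) {a b : F}
    (ha0 : a ≠ 0) (hb0 : b ≠ 0) (ha : ¬ IsSquare a) (hb : ¬ IsSquare b) : IsSquare (a * b) := by
  rw [FiniteField.isSquare_iff hF (mul_ne_zero ha0 hb0)]
  have h1 : a ^ (Fintype.card F / 2) = -1 := by
    rcases FiniteField.pow_dichotomy hF ha0 with h | h
    · exact absurd ((FiniteField.isSquare_iff hF ha0).mpr h) ha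
    · exact h
  have h2 : b ^ (Fintype.card F / 2) = -1 := by
    rcases FiniteField.pow_dichotomy hF hb0 with h | h
    · exact absurd ((FiniteField.isSquare_iff hF hb0).mpr h) hb
    · exact h
  rw [mul_pow, h1, h2]
  ring

theorem exists_param_odd (F : Type*) [Field F] [Fintype F] (h2 : (2 : F) ≠ 0) :
    ∃ t : F, t ≠ 0 ∧ ∀ l : F, l ≠ 0 → ∀ x : F,
      x ∈ AddSubgroup.closure {y : F | ∃ k : ℕ, y = l * (2 * t ^ 2) ^ k} := by
  have hF : ringChar F ≠ 2 := by
    intro h
    apply h2
    have := CharP.cast_eq_zero F (ringChar F)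
    rw [h] at this
    exact_mod_cast this
  obtain ⟨g, hg⟩ := IsCyclic.exists_monoid_generator (α := Fˣ)
  -- every nonzero element is a power of `θ`
  set θ : F := (g : F) with hθ
  have hθ0 : θ ≠ 0 := g.ne_zero
  have hpow : ∀ y : F, y ≠ 0 → ∃ k : ℕ, y = θ ^ k := by
    intro y hy
    obtain ⟨k, hk⟩ := hg (Units.mk0 y hy)
    refine ⟨k, ?_⟩
    have := congrArg (fun u : Fˣ => (u : F)) hk
    simp only [Units.val_pow_eq_pow_val, Units.val_mk0] at this
    exact this.symm
  -- the key: a parameter `t` with all nonzero squares powers of `2 t²`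
  have key : ∃ t : F, t ≠ 0 ∧ ∀ a : F, a ≠ 0 → ∃ k : ℕ, a ^ 2 = (2 * t ^ 2) ^ k := by
    by_cases hsq : IsSquare (θ / 2)
    · obtain ⟨t, ht⟩ := hsq
      have ht0 : t ≠ 0 := by
        rintro rfl
        have : θ / 2 = 0 := by simpa using ht
        exact (div_ne_zero hθ0 h2) this
      refine ⟨t, ht0, ?_⟩
      intro a ha
      have e : 2 * t ^ 2 = θ := by
        have : t ^ 2 = θ / 2 := by rw [ht]; ring
        rw [this]; field_simp
      rw [e]
      exact hpow (a ^ 2) (pow_ne_zero 2 ha)
    · have hθns : ¬ IsSquare θ := by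
        rintro ⟨s, hs⟩
        apply hsq
        have h20 : (2 : F) ≠ 0 := h2
        obtain ⟨k, hk⟩ := hpow (θ / 2) (div_ne_zero hθ0 h2)
        refine ⟨s ^ k, ?_⟩
        rw [hk, hs]
        ring
      have hsq2 : IsSquare (θ * (θ / 2)) :=
        a1_isSquare_mul F hF hθ0 (div_ne_zero hθ0 h2) hθns hsq
      obtain ⟨t, ht⟩ := hsq2
      have ht0 : t ≠ 0 := by
        rintro rfl
        have : θ * (θ / 2) = 0 := by simpa using ht
        exact (mul_ne_zero hθ0 (div_ne_zero hθ0 h2)) this
      refine ⟨t, ht0, ?_⟩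
      intro a ha
      have e : 2 * t ^ 2 = θ ^ 2 := by
        have : t ^ 2 = θ * (θ / 2) := by rw [ht]; ring
        rw [this]; field_simp
      rw [e]
      obtain ⟨k, hk⟩ := hpow a ha
      refine ⟨k, ?_⟩
      rw [hk]
      ring
  obtain ⟨t, ht0, hkey⟩ := key
  refine ⟨t, ht0, ?_⟩
  intro l hl x
  -- `x / l = a² + b²`
  obtain ⟨a, b, hab⟩ := a1_sum_two_squares F hF (x / l)
  have hx : x = l * a ^ 2 + l * b ^ 2 := by
    have : x = l * (x / l) := by field_simp
    rw [this, hab]; ring
  have hmem : ∀ c : F, l * c ^ 2 ∈ AddSubgroup.closure {y : F | ∃ k : ℕ, y = l * (2 * t ^ 2) ^ k} := by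
    intro c
    by_cases hc : c = 0
    · subst hc
      simp
    · obtain ⟨k, hk⟩ := hkey c hc
      apply AddSubgroup.subset_closure
      exact ⟨k, by rw [hk]⟩
  rw [hx]
  exact AddSubgroup.add_mem _ (hmem a) (hmem b)

end Cfsg.Agent.Lib.Helper69.RSp
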