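import Mathlib
import Cfsg.Agent.Lib.Helper48.RSpDefs2

/-!
# K-RSp-P4 (keystone 228113, pack K-RSp of helper48 for S2281; parallel hand): `sym_all_two`

`n = 2`, characteristic `2`, `|F| ≥ 4`: an additive group `X` of `2 × 2` matrices closed under the three
operations of the pack and containing `l E_00` contains every symmetric matrix.
Coordinates: `vv a b c = !![a, b; b, c]`.
-/

set_option autoImplicit false
set_option linter.unusedVariables false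
set_option linter.unusedSectionVars false
set_option linter.style.longLine false

namespace Cfsg.Agent.Lib.Helper69.RSp

open Matrix Cfsg.Agent.Lib.Helper48.RSp Cfsg.Agent.Lib.Helper18

variable {F : Type*} [Field F]

/-- the symmetric matrix with coordinates `(a, b, c)` -/
def vv (a b c : F) : SM 0 F := !![a, b; b, c]

theorem p4_vv_add (a b c a' b' c' : F) : vv a b c + vv a' b' c' = vv (a + a') (b + b') (c + c') := by
  unfold vv
  ext i j
  fin_cases i <;> fin_cases j <;> simp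

theorem p4_vv_sub (a b c a' b' c' : F) : vv a b c - vv a' b' c' = vv (a - a') (b - b') (c - c') := by
  unfold vv
  ext i j
  fin_cases i <;> fin_cases j <;> simp

theorem p4_vv_transpose (a b c : F) : (vv a b c)ᵀ = vv a b c := by
  unfold vv
  ext i j
  fin_cases i <;> fin_cases j <;> simp

theorem p4_eq_vv (S : SM 0 F) (hS : Sᵀ = S) : S = vv (S 0 0) (S 0 1) (S 1 1) := by
  have h10 : S 1 0 = S 0 1 := by
    have := congrFun (congrFun hS 0) 1
    simpa [Matrix.transpose_apply] using this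
  unfold vv
  ext i j
  fin_cases i <;> fin_cases j <;> simp [h10]

theorem p4_Uup : Uup 0 F = !![1, 1; 0, 1] := by
  ext i j
  fin_cases i <;> fin_cases j <;> simp [Uup, Nup]

theorem p4_Lbi (t : F) : Lbi 0 (fun j : Fin (0 + 2) => if j = 0 then t else 1) = !![1, 0; t, 1] := by
  ext i j
  fin_cases i <;> fin_cases j <;> simp [Lbi]

theorem p4_E00 (l : F) : l • E00 0 F = vv l 0 0 := by
  unfold vv
  ext i j
  fin_cases i <;> fin_cases j <;> simp [E00, Matrix.single]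

theorem p4_U_conj (h2 : (2 : F) = 0) (a b c : F) :
    Uup 0 F * vv a b c * (Uup 0 F)ᵀ = vv (a + c) (b + c) c := by
  rw [p4_Uup]
  unfold vv
  ext i j
  fin_cases i <;> fin_cases j <;>
    simp [Matrix.mul_apply, Fin.sum_univ_two] <;> linear_combination b * h2

theorem p4_L_conj (t a : F) :
    Lbi 0 (fun j : Fin (0 + 2) => if j = 0 then t else 1) * vv a 0 0 *
      (Lbi 0 (fun j : Fin (0 + 2) => if j = 0 then t else 1))ᵀ = vv a (a * t) (a * t ^ 2) := by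
  rw [p4_Lbi]
  unfold vv
  ext i j
  fin_cases i <;> fin_cases j <;>
    simp [Matrix.mul_apply, Fin.sum_univ_two] <;> ring

theorem p4_tau_conj (h2 : (2 : F) = 0) (t σ β a b : F) :
    tauMat t σ β * vv a b 0 * (tauMat t σ β)ᵀ =
      vv ((1 + σ * β * t) ^ 2 * a) ((1 + σ * β * t) * (σ * β * t ^ 2) * a + b)
        ((σ * β * t ^ 2) ^ 2 * a) := by
  unfold vv tauMat
  ext i j
  fin_cases i <;> fin_cases j <;>
    simp [Matrix.mul_apply, Fin.sum_univ_two]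
  · linear_combination (-(σ * β * b * (1 + σ * β * t))) * h2
  · linear_combination (-(σ ^ 2 * β ^ 2 * t ^ 2 * b)) * h2
  · linear_combination (-(σ ^ 2 * β ^ 2 * t ^ 2 * b)) * h2
  · linear_combination (σ * β * t ^ 2 * b * (1 - σ * β * t)) * h2

theorem sym_all_two {F : Type*} [Field F] (X : AddSubgroup (SM 0 F)) (t σ l : F)
    (ht : t ≠ 0) (hσ : σ ≠ 0) (hl0 : l ≠ 0)
    (hU : ∀ S ∈ X, Uup 0 F * S * (Uup 0 F)ᵀ ∈ X)
    (hL : ∀ S ∈ X, Sᵀ = S → (∀ j, S (Fin.last 1) j = 0) →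
      Lbi 0 (fun j => if j = 0 then t else 1) * S * (Lbi 0 (fun j => if j = 0 then t else 1))ᵀ ∈ X)
    (hτ : ∀ S ∈ X, Sᵀ = S → S 1 1 = 0 → ∀ S₂ ∈ X,
      tauMat t σ (S 0 1) * S₂ * (tauMat t σ (S 0 1))ᵀ ∈ X)
    (h2 : (2 : F) = 0) (hl : l • E00 0 F ∈ X)
    (hgen : ∀ x : F, x ≠ 0 → ∃ k : ℕ, x = (σ * t ^ 4 * l) ^ (2 * k + 1))
    (h4 : ∃ ρ₁ ρ₂ : F, ρ₁ ≠ 0 ∧ ρ₂ ≠ 0 ∧ ρ₁ ≠ ρ₂) :
    ∀ S : SM 0 F, Sᵀ = S → S ∈ X := by
  -- the three operations in coordinates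
  have hUv : ∀ a b c : F, vv a b c ∈ X → vv (a + c) (b + c) c ∈ X := by
    intro a b c h
    have := hU _ h
    rwa [p4_U_conj h2] at this
  have hD : ∀ a b c : F, vv a b c ∈ X → vv c c 0 ∈ X := by
    intro a b c h
    have h1 := X.sub_mem (hUv a b c h) h
    rw [p4_vv_sub] at h1
    have e : vv (a + c - a) (b + c - b) (c - c) = vv c c 0 := by
      congr 1 <;> ring
    rwa [e] at h1
  have hLv : ∀ a : F, vv a 0 0 ∈ X → vv a (a * t) (a * t ^ 2) ∈ X := by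
    intro a h
    have := hL _ h (p4_vv_transpose a 0 0) (by
      intro j
      fin_cases j <;> simp [vv, Fin.last])
    rwa [p4_L_conj] at this
  have hτv : ∀ a' β a b : F, vv a' β 0 ∈ X → vv a b 0 ∈ X →
      vv ((1 + σ * β * t) ^ 2 * a) ((1 + σ * β * t) * (σ * β * t ^ 2) * a + b)
        ((σ * β * t ^ 2) ^ 2 * a) ∈ X := by
    intro a' β a b h h'
    have e01 : (vv a' β 0) 0 1 = β := by simp [vv]
    have e11 : (vv a' β 0) 1 1 = 0 := by simp [vv]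
    have := hτ _ h (p4_vv_transpose a' β 0) e11 _ h'
    rw [e01, p4_tau_conj h2] at this
    exact this
  have hst : σ * t ^ 2 ≠ 0 := mul_ne_zero hσ (pow_ne_zero 2 ht)
  -- the set `C`
  have hC0 : vv (l * t ^ 2) (l * t ^ 2) 0 ∈ X := by
    have h1 : vv l 0 0 ∈ X := by rw [← p4_E00]; exact hl
    exact hD _ _ _ (hLv l h1)
  have hCmul : ∀ c1 c2 : F, vv c1 c1 0 ∈ X → vv c2 c2 0 ∈ X →
      vv (σ ^ 2 * t ^ 4 * c1 * c2 ^ 2) (σ ^ 2 * t ^ 4 * c1 * c2 ^ 2) 0 ∈ X := by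
    intro c1 c2 h1 h2'
    have := hD _ _ _ (hτv c2 c2 c1 c1 h2' h1)
    have e : (σ * c2 * t ^ 2) ^ 2 * c1 = σ ^ 2 * t ^ 4 * c1 * c2 ^ 2 := by ring
    rwa [e] at this
  -- `P x` : `x ∈ σ t² C`
  have hP0 : vv ((σ * t ^ 4 * l) / (σ * t ^ 2)) ((σ * t ^ 4 * l) / (σ * t ^ 2)) 0 ∈ X := by
    have e : (σ * t ^ 4 * l) / (σ * t ^ 2) = l * t ^ 2 := by
      field_simp
    rw [e]; exact hC0
  have hPmul : ∀ x y : F, vv (x / (σ * t ^ 2)) (x / (σ * t ^ 2)) 0 ∈ X →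
      vv (y / (σ * t ^ 2)) (y / (σ * t ^ 2)) 0 ∈ X →
      vv ((x * y ^ 2) / (σ * t ^ 2)) ((x * y ^ 2) / (σ * t ^ 2)) 0 ∈ X := by
    intro x y hx hy
    have := hCmul _ _ hx hy
    have e : σ ^ 2 * t ^ 4 * (x / (σ * t ^ 2)) * (y / (σ * t ^ 2)) ^ 2 = (x * y ^ 2) / (σ * t ^ 2) := by
      field_simp
    rwa [e] at this
  have hPodd : ∀ k : ℕ, vv ((σ * t ^ 4 * l) ^ (2 * k + 1) / (σ * t ^ 2))
      ((σ * t ^ 4 * l) ^ (2 * k + 1) / (σ * t ^ 2)) 0 ∈ X := by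
    intro k
    induction k with
    | zero => simpa using hP0
    | succ k ih =>
      have := hPmul _ _ ih hP0
      have e : (σ * t ^ 4 * l) ^ (2 * k + 1) * (σ * t ^ 4 * l) ^ 2 = (σ * t ^ 4 * l) ^ (2 * (k + 1) + 1) := by
        ring
      rwa [e] at this
  have hz : vv (0 : F) 0 0 ∈ X := by
    have : vv (0 : F) 0 0 = 0 := by
      unfold vv
      ext i j
      fin_cases i <;> fin_cases j <;> simp
    rw [this]; exact X.zero_mem
  have hCall : ∀ c : F, vv c c 0 ∈ X := by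
    intro c
    by_cases hc : c = 0
    · subst hc; exact hz
    · obtain ⟨k, hk⟩ := hgen (σ * t ^ 2 * c) (mul_ne_zero hst hc)
      have := hPodd k
      rw [← hk] at this
      have e : σ * t ^ 2 * c / (σ * t ^ 2) = c := by field_simp
      rwa [e] at this
  -- the elements `h(α, ρ)`
  have hh : ∀ α ρ : F, vv (ρ ^ 2 * α) ((1 + ρ) * (ρ * t) * α) ((ρ * t) ^ 2 * α) ∈ X := by
    intro α ρ
    have h1 := hτv (ρ / (σ * t)) (ρ / (σ * t)) α α (hCall _) (hCall α)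
    have e1 : σ * (ρ / (σ * t)) * t = ρ := by field_simp
    have e2 : σ * (ρ / (σ * t)) * t ^ 2 = ρ * t := by field_simp
    rw [e1, e2] at h1
    have h3 := X.sub_mem h1 (hCall α)
    rw [p4_vv_sub] at h3
    have e : vv ((1 + ρ) ^ 2 * α - α) ((1 + ρ) * (ρ * t) * α + α - α) ((ρ * t) ^ 2 * α - 0)
        = vv (ρ ^ 2 * α) ((1 + ρ) * (ρ * t) * α) ((ρ * t) ^ 2 * α) := by
      congr 1
      · linear_combination (ρ * α) * h2
      · ring
      · ring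
    rwa [e] at h3
  obtain ⟨ρ₁, ρ₂, hρ₁, hρ₂, hne⟩ := h4
  have hB : ∀ b : F, vv 0 b 0 ∈ X := by
    intro b
    have hd : ρ₁⁻¹ - ρ₂⁻¹ ≠ 0 := by
      intro h
      apply hne
      have : ρ₁⁻¹ = ρ₂⁻¹ := sub_eq_zero.mp h
      exact inv_injective this
    set κ : F := b / (t * (ρ₁⁻¹ - ρ₂⁻¹)) with hκ
    have h1 := hh (κ / ρ₁ ^ 2) ρ₁
    have h2' := hh (κ / ρ₂ ^ 2) ρ₂
    have h3 := X.sub_mem h1 h2'
    rw [p4_vv_sub] at h3
    have e : vv (ρ₁ ^ 2 * (κ / ρ₁ ^ 2) - ρ₂ ^ 2 * (κ / ρ₂ ^ 2))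
        ((1 + ρ₁) * (ρ₁ * t) * (κ / ρ₁ ^ 2) - (1 + ρ₂) * (ρ₂ * t) * (κ / ρ₂ ^ 2))
        ((ρ₁ * t) ^ 2 * (κ / ρ₁ ^ 2) - (ρ₂ * t) ^ 2 * (κ / ρ₂ ^ 2)) = vv 0 b 0 := by
      congr 1
      · field_simp; ring
      · rw [hκ]; field_simp; ring
      · field_simp; ring
    rwa [e] at h3
  have hA : ∀ a : F, vv a 0 0 ∈ X := by
    intro a
    have h3 := X.sub_mem (hCall a) (hB a)
    rw [p4_vv_sub] at h3
    have e : vv (a - 0) (a - a) (0 - 0) = vv a 0 0 := by congr 1 <;> ring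
    rwa [e] at h3
  have hG : ∀ c : F, vv 0 0 c ∈ X := by
    intro c
    have h1 := hLv (c / t ^ 2) (hA _)
    have h3 := X.sub_mem (X.sub_mem h1 (hA (c / t ^ 2))) (hB (c / t ^ 2 * t))
    rw [p4_vv_sub, p4_vv_sub] at h3
    have e : vv (c / t ^ 2 - c / t ^ 2 - 0) (c / t ^ 2 * t - 0 - c / t ^ 2 * t) (c / t ^ 2 * t ^ 2 - 0 - 0)
        = vv 0 0 c := by
      congr 1
      · ring
      · ring
      · field_simp
        ring
    rwa [e] at h3
  intro S hS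
  rw [p4_eq_vv S hS]
  have h3 := X.add_mem (X.add_mem (hA (S 0 0)) (hB (S 0 1))) (hG (S 1 1))
  rw [p4_vv_add, p4_vv_add] at h3
  have e : vv (S 0 0 + 0 + 0) (0 + S 0 1 + 0) (0 + 0 + S 1 1) = vv (S 0 0) (S 0 1) (S 1 1) := by
    congr 1 <;> ring
  rwa [e] at h3

end Cfsg.Agent.Lib.Helper69.RSp
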