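import Mathlib
import Cfsg.Agent.Lib.Helper69.Conj

set_option autoImplicit false

namespace Cfsg.Agent.Lib.Helper69

open scoped Pointwise

variable {G : Type*} [Group G]

/-- an element is real with odd order, nontrivial -/
def HasRealOdd (G : Type*) [Group G] : Prop :=
  ∃ y : G, y ≠ 1 ∧ Odd (orderOf y) ∧ ∃ g : G, g * y * g⁻¹ = y⁻¹

theorem inv_pow_of_inv {H : Type*} [Group H] (s y : H) (h : s * y * s⁻¹ = y⁻¹) (n : ℕ) :
    s * y ^ n * s⁻¹ = (y ^ n)⁻¹ := by
  rw [← conj_pow, h, inv_pow]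

/-- Lifting: a nontrivial real element of odd prime order `r` in `G ⧸ D`, `D` a normal
`2`-subgroup, gives a nontrivial real element of odd order in `G`. -/
theorem hasRealOdd_of_quotient_prime [Finite G] (D : Subgroup G) [hDn : D.Normal] (hD : IsPGroup 2 D)
    (ybar sbar : G ⧸ D) (r : ℕ) [hr : Fact r.Prime] (hr2 : r ≠ 2) (hy : orderOf ybar = r)
    (hinv : sbar * ybar * sbar⁻¹ = ybar⁻¹) : HasRealOdd G := by
  set π := QuotientGroup.mk' D with hπ
  have hsurj : Function.Surjective π := QuotientGroup.mk'_surjective D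
  obtain ⟨y₀, hy₀⟩ := hsurj ybar
  obtain ⟨s, hs⟩ := hsurj sbar
  have hy₀o : orderOf y₀ ≠ 0 := (orderOf_pos y₀).ne'
  obtain ⟨b, c, hc, hbc⟩ := Nat.exists_eq_pow_mul_and_not_dvd hy₀o r hr.out.one_lt.ne'
  have hcpos : 0 < c := by
    rcases Nat.eq_zero_or_pos c with h | h
    · rw [h, mul_zero] at hbc; exact absurd hbc hy₀o
    · exact h
  set y := y₀ ^ c with hydef
  have hyo : orderOf y = r ^ b := by
    rw [hydef, orderOf_pow, hbc, Nat.gcd_eq_right (Dvd.intro_left _ rfl)]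
    exact Nat.mul_div_cancel _ hcpos
  set y1 := ybar ^ c with hy1def
  have hπy : π y = y1 := by rw [hydef, map_pow, hy₀]
  have hy1o : orderOf y1 = r := by
    rw [hy1def, orderOf_pow, hy]
    have : Nat.gcd r c = 1 := (Nat.Prime.coprime_iff_not_dvd hr.out).mpr hc
    rw [this, Nat.div_one]
  have hy1ne : y1 ≠ 1 := by
    intro h
    rw [h, orderOf_one] at hy1o
    exact hr.out.one_lt.ne hy1o
  have hinv1 : sbar * y1 * sbar⁻¹ = y1⁻¹ := inv_pow_of_inv sbar ybar hinv c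
  have hyne : y ≠ 1 := by
    intro h
    apply hy1ne
    rw [← hπy, h, map_one]
  -- r-groups meet D trivially
  have hdisj : ∀ R₀ : Subgroup G, IsPGroup r R₀ → ∀ g ∈ R₀, g ∈ D → g = 1 := by
    intro R₀ hR₀ g hg hgD
    have : Fact (Nat.Prime 2) := ⟨Nat.prime_two⟩
    have := IsPGroup.disjoint_of_ne r 2 hr2 R₀ D hR₀ hD
    have hmem : g ∈ R₀ ⊓ D := ⟨hg, hgD⟩
    rw [this.eq_bot, Subgroup.mem_bot] at hmem
    exact hmem
  set K := D ⊔ Subgroup.zpowers y with hK
  have hDK : D ≤ K := le_sup_left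
  have hYK : Subgroup.zpowers y ≤ K := le_sup_right
  have hπK : K.map π = Subgroup.zpowers y1 := by
    rw [hK, Subgroup.map_sup, MonoidHom.map_zpowers, hπy]
    have : D.map π = ⊥ := by
      rw [Subgroup.map_eq_bot_iff, QuotientGroup.ker_mk']
    rw [this, bot_sup_eq]
  -- key claim: an r-subgroup of K containing a generator-lift equals its zpowers
  have key : ∀ w : G, Subgroup.zpowers (π w) = Subgroup.zpowers y1 → ∀ R₀ : Subgroup G,
      IsPGroup r R₀ → w ∈ R₀ → R₀ ≤ K → R₀ = Subgroup.zpowers w := by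
    intro w hw R₀ hR₀ hwR hRK
    apply le_antisymm
    · intro g hg
      have hπg : π g ∈ K.map π := Subgroup.mem_map_of_mem π (hRK hg)
      rw [hπK, ← hw] at hπg
      obtain ⟨j, hj⟩ := Subgroup.mem_zpowers_iff.mp hπg
      have h1 : π (g * (w ^ j)⁻¹) = 1 := by
        rw [map_mul, map_inv, map_zpow, hj, mul_inv_cancel]
      have h2 : g * (w ^ j)⁻¹ ∈ D := by
        rw [← QuotientGroup.ker_mk' D]; exact h1
      have h3 : g * (w ^ j)⁻¹ ∈ R₀ := R₀.mul_mem hg (R₀.inv_mem (R₀.zpow_mem hwR j))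
      have h4 := hdisj R₀ hR₀ _ h3 h2
      have h5 : g = w ^ j := by
        rw [mul_inv_eq_one] at h4; exact h4
      rw [h5]; exact Subgroup.zpow_mem_zpowers w j
    · exact Subgroup.zpowers_le.mpr hwR
  -- s y s⁻¹
  set y' := s * y * s⁻¹ with hy'
  have hπy' : π y' = y1⁻¹ := by
    rw [hy', map_mul, map_mul, map_inv, hs, hπy, hinv1]
  have hy'K : y' ∈ K := by
    have h1 : π (y * y') = 1 := by rw [map_mul, hπy, hπy', mul_inv_cancel]
    have h2 : y * y' ∈ D := by rw [← QuotientGroup.ker_mk' D]; exact h1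
    have h3 : y' = y⁻¹ * (y * y') := by group
    rw [h3]
    exact K.mul_mem (K.inv_mem (hYK (Subgroup.mem_zpowers y))) (hDK h2)
  have hzp1 : Subgroup.zpowers (π y) = Subgroup.zpowers y1 := by rw [hπy]
  have hzp2 : Subgroup.zpowers (π y') = Subgroup.zpowers y1 := by
    rw [hπy', Subgroup.zpowers_inv]
  have hYp : IsPGroup r (Subgroup.zpowers y) := by
    apply IsPGroup.of_card (n := b); rw [Nat.card_zpowers, hyo]
  have hy'o : orderOf y' = r ^ b := by
    rw [← hyo]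
    exact (MulEquiv.orderOf_eq (MulAut.conj s) y)
  have hY'p : IsPGroup r (Subgroup.zpowers y') := by
    apply IsPGroup.of_card (n := b); rw [Nat.card_zpowers, hy'o]
  have hY'K : Subgroup.zpowers y' ≤ K := Subgroup.zpowers_le.mpr hy'K
  -- Sylow subgroups of K
  obtain ⟨R, hR⟩ := (hYp.comap_subtype (K := K)).exists_le_sylow
  obtain ⟨R', hR'⟩ := (hY'p.comap_subtype (K := K)).exists_le_sylow
  have hR0 : (R : Subgroup ↥K).map K.subtype = Subgroup.zpowers y := by
    apply key y hzp1 _ (R.isPGroup'.map _) _ (Subgroup.map_subtype_le _)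
    exact ⟨⟨y, hYK (Subgroup.mem_zpowers y)⟩, hR (by
      rw [Subgroup.mem_comap]; exact Subgroup.mem_zpowers y), rfl⟩
  have hR'0 : (R' : Subgroup ↥K).map K.subtype = Subgroup.zpowers y' := by
    apply key y' hzp2 _ (R'.isPGroup'.map _) _ (Subgroup.map_subtype_le _)
    exact ⟨⟨y', hy'K⟩, hR' (by
      rw [Subgroup.mem_comap]; exact Subgroup.mem_zpowers y'), rfl⟩
  obtain ⟨k, hk⟩ := MulAction.exists_smul_eq (↥K) R' R
  -- k y' k⁻¹ ∈ zpowers y
  have hky' : (k : G) * y' * (k : G)⁻¹ ∈ Subgroup.zpowers y := by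
    rw [← hR0]
    have hmem : (⟨y', hy'K⟩ : ↥K) ∈ (R' : Subgroup ↥K) := hR' (by
      rw [Subgroup.mem_comap]; exact Subgroup.mem_zpowers y')
    have h2 : k * ⟨y', hy'K⟩ * k⁻¹ ∈ ((k • R' : Sylow r ↥K) : Subgroup ↥K) := by
      show k * ⟨y', hy'K⟩ * k⁻¹ ∈ MulAut.conj k • (R' : Subgroup ↥K)
      rw [mem_conj_smul_iff]
      have : k⁻¹ * (k * ⟨y', hy'K⟩ * k⁻¹) * k = ⟨y', hy'K⟩ := by group
      rw [this]; exact hmem
    rw [hk] at h2
    exact ⟨_, h2, rfl⟩
  -- the inverting element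
  set s' := (k : G) * s with hs'
  have hconj : s' * y * s'⁻¹ = (k : G) * y' * (k : G)⁻¹ := by
    rw [hs', hy']; group
  have hπk : π (k : G) ∈ Subgroup.zpowers y1 := by
    rw [← hπK]; exact Subgroup.mem_map_of_mem π k.2
  have hπconj : π (s' * y * s'⁻¹) = y1⁻¹ := by
    rw [hconj, map_mul, map_mul, map_inv, hπy']
    obtain ⟨j, hj⟩ := Subgroup.mem_zpowers_iff.mp hπk
    rw [← hj]
    have : Commute (y1 ^ j) y1⁻¹ := (Commute.refl y1).inv_right.zpow_left j
    rw [this.eq, mul_assoc, mul_inv_cancel, mul_one]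
  have hfinal : s' * y * s'⁻¹ = y⁻¹ := by
    have hmem : s' * y * s'⁻¹ * y ∈ Subgroup.zpowers y := by
      rw [hconj]
      exact Subgroup.mul_mem _ hky' (Subgroup.mem_zpowers y)
    have hD' : s' * y * s'⁻¹ * y ∈ D := by
      rw [← QuotientGroup.ker_mk' D, MonoidHom.mem_ker, map_mul, hπconj, hπy, inv_mul_cancel]
    have := hdisj _ hYp _ hmem hD'
    exact mul_eq_one_iff_eq_inv.mp this
  refine ⟨y, hyne, ?_, s', hfinal⟩
  rw [hyo]
  exact Odd.pow (hr.out.odd_of_ne_two hr2)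

end Cfsg.Agent.Lib.Helper69
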