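import Mathlib
import Cfsg.Agent.Lib.Helper69.RealLift
import Cfsg.Agent.Lib.Helper69.PGroup
import Cfsg.Agent.Lib.Helper69.Cover

set_option autoImplicit false

namespace Cfsg.Agent.Lib.Helper69

open scoped Pointwise

variable {G : Type*} [Group G]

/-- Lifting real odd elements through a normal 2-subgroup. -/
theorem hasRealOdd_of_quotient [Finite G] (D : Subgroup G) [hDn : D.Normal] (hD : IsPGroup 2 D)
    (h : HasRealOdd (G ⧸ D)) : HasRealOdd G := by
  obtain ⟨ybar, hne, hodd, sbar, hinv⟩ := h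
  have hm1 : orderOf ybar ≠ 1 := by
    rw [Ne, orderOf_eq_one_iff]; exact hne
  set r := (orderOf ybar).minFac with hr
  have hrp : r.Prime := Nat.minFac_prime hm1
  haveI : Fact r.Prime := ⟨hrp⟩
  have hrd : r ∣ orderOf ybar := Nat.minFac_dvd _
  have hr2 : r ≠ 2 := by
    intro h2
    rw [h2] at hrd
    exact (Nat.not_even_iff_odd.mpr hodd) (even_iff_two_dvd.mpr hrd)
  have ho : orderOf (ybar ^ (orderOf ybar / r)) = r :=
    orderOf_pow_orderOf_div (orderOf_pos ybar).ne' hrd
  exact hasRealOdd_of_quotient_prime D hD _ sbar r hr2 ho (inv_pow_of_inv sbar ybar hinv _)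

/-- real odd elements of a subgroup are real odd elements of the group -/
theorem hasRealOdd_of_subgroup (H : Subgroup G) (h : HasRealOdd ↥H) : HasRealOdd G := by
  obtain ⟨y, hne, hodd, g, hinv⟩ := h
  refine ⟨(y : G), fun h => hne (Subtype.ext h), by rwa [Subgroup.orderOf_coe], (g : G), ?_⟩
  have := congrArg Subtype.val hinv
  simpa using this

/-- Dihedral lemma: two involutions either invert a nontrivial odd-order element, or commute
with a common involution, or are equal. -/
theorem involutions_trichotomy [Finite G] (s t : G) (hs : s ^ 2 = 1) (ht : t ^ 2 = 1) :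
    (∃ y : G, y ≠ 1 ∧ Odd (orderOf y) ∧ s * y * s⁻¹ = y⁻¹) ∨
    (∃ z : G, orderOf z = 2 ∧ s * z = z * s ∧ t * z = z * t) ∨ s = t := by
  have hsinv : s⁻¹ = s := by
    rw [inv_eq_iff_mul_eq_one, ← pow_two]; exact hs
  have htinv : t⁻¹ = t := by
    rw [inv_eq_iff_mul_eq_one, ← pow_two]; exact ht
  set x := s * t with hx
  have hsx : s * x * s⁻¹ = x⁻¹ := by
    rw [hx, mul_inv_rev, htinv, hsinv]
    calc s * (s * t) * s = (s * s) * t * s := by group
      _ = t * s := by rw [← pow_two, hs, one_mul]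
  have htx : t * x * t⁻¹ = x⁻¹ := by
    rw [hx, mul_inv_rev, htinv, hsinv]
    calc t * (s * t) * t = t * s * (t * t) := by group
      _ = t * s := by rw [← pow_two, ht, mul_one]
  obtain ⟨k, m, hm, hkm⟩ := Nat.exists_eq_two_pow_mul_odd (orderOf_pos x).ne'
  by_cases hm1 : m = 1
  · rw [hm1, mul_one] at hkm
    rcases Nat.eq_zero_or_eq_succ_pred k with hk0 | hks
    · right; right
      rw [hk0, pow_zero, orderOf_eq_one_iff] at hkm
      have : s * t = 1 := hkm
      calc s = t⁻¹ := eq_inv_of_mul_eq_one_left this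
        _ = t := htinv
    · right; left
      set z := x ^ (2 ^ (k - 1)) with hz
      have hzo : orderOf z = 2 := by
        rw [hz, orderOf_pow, hkm]
        have hd : 2 ^ (k - 1) ∣ 2 ^ k := pow_dvd_pow 2 (Nat.sub_le _ _)
        rw [Nat.gcd_eq_right hd, Nat.pow_div (Nat.sub_le _ _) (by norm_num)]
        have : k - (k - 1) = 1 := by omega
        rw [this, pow_one]
      have hzinv : z⁻¹ = z := by
        rw [inv_eq_iff_mul_eq_one, ← pow_two, ← hzo]; exact pow_orderOf_eq_one z
      refine ⟨z, hzo, ?_, ?_⟩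
      · have h1 : s * z * s⁻¹ = z⁻¹ := inv_pow_of_inv s x hsx _
        rw [hzinv] at h1
        calc s * z = s * z * s⁻¹ * s := by group
          _ = z * s := by rw [h1]
      · have h1 : t * z * t⁻¹ = z⁻¹ := inv_pow_of_inv t x htx _
        rw [hzinv] at h1
        calc t * z = t * z * t⁻¹ * t := by group
          _ = z * t := by rw [h1]
  · left
    refine ⟨x ^ (2 ^ k), ?_, ?_, inv_pow_of_inv s x hsx _⟩
    · intro h
      have := orderOf_dvd_of_pow_eq_one h
      rw [hkm] at this
      have h2 : 2 ^ k * m ∣ 2 ^ k * 1 := by simpa using this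
      have := Nat.dvd_of_mul_dvd_mul_left (by positivity) h2
      exact hm1 (Nat.dvd_one.mp this)
    · rw [orderOf_pow, hkm, Nat.gcd_eq_right (Dvd.intro _ rfl), Nat.mul_div_cancel_left _ (by positivity)]
      exact hm

/-- TI lemma: if every proper subgroup is p-closed and every nontrivial p-subgroup has a proper
normalizer, then distinct Sylow p-subgroups intersect trivially. -/
theorem sylow_ti_of_proper [Finite G] {p : ℕ} [Fact p.Prime]
    (hsub : ∀ H : Subgroup G, H ≠ ⊤ → ∀ S : Sylow p ↥H, (S : Subgroup ↥H).Normal)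
    (hnorm : ∀ R : Subgroup G, IsPGroup p R → R ≠ ⊥ → Subgroup.normalizer (R : Set G) ≠ ⊤) :
    ∀ n : ℕ, ∀ P Q : Sylow p G, P ≠ Q → (P : Subgroup G) ⊓ (Q : Subgroup G) ≠ ⊥ →
      Nat.card G - Nat.card ↥((P : Subgroup G) ⊓ (Q : Subgroup G)) = n → False := by
  intro n
  induction n using Nat.strong_induction_on with
  | _ n ih =>
    intro P Q hPQ hD0 hn
    set D := (P : Subgroup G) ⊓ (Q : Subgroup G) with hD
    have hDp : IsPGroup p D := P.isPGroup'.to_le inf_le_left
    have hN := hnorm D hDp hD0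
    obtain ⟨S₀, -, hS₀p, -, hA⟩ := exists_normal_sylow_image (p := p) _ (hsub _ hN)
    obtain ⟨P₁, hSP₁⟩ := hS₀p.exists_le_sylow
    have hDltP : D < (P : Subgroup G) := by
      refine lt_of_le_of_ne inf_le_left ?_
      intro h
      have hle : (P : Subgroup G) ≤ Q := by rw [← h]; exact inf_le_right
      exact hPQ (Sylow.ext (P.is_maximal' Q.isPGroup' hle).symm)
    have hDltQ : D < (Q : Subgroup G) := by
      refine lt_of_le_of_ne inf_le_right ?_
      intro h
      have hle : (Q : Subgroup G) ≤ P := by rw [← h]; exact inf_le_left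
      exact hPQ (Sylow.ext (Q.is_maximal' P.isPGroup' hle))
    obtain ⟨x, hxP, hxD, hxN⟩ := exists_mem_normalizer_notMem (P : Subgroup G) D P.isPGroup' hDltP
    obtain ⟨y, hyQ, hyD, hyN⟩ := exists_mem_normalizer_notMem (Q : Subgroup G) D Q.isPGroup' hDltQ
    have hA1 : Subgroup.normalizer (D : Set G) ⊓ (P : Subgroup G) ≤ S₀ :=
      hA _ inf_le_left (P.isPGroup'.to_le inf_le_right)
    have hA2 : Subgroup.normalizer (D : Set G) ⊓ (Q : Subgroup G) ≤ S₀ :=
      hA _ inf_le_left (Q.isPGroup'.to_le inf_le_right)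
    have hDS : D ≤ S₀ := le_trans (le_inf Subgroup.le_normalizer inf_le_left) hA1
    have hxP₁ : x ∈ (P₁ : Subgroup G) := hSP₁ (hA1 ⟨hxN, hxP⟩)
    have hyP₁ : y ∈ (P₁ : Subgroup G) := hSP₁ (hA2 ⟨hyN, hyQ⟩)
    have hDP₁ : D ≤ (P₁ : Subgroup G) := hDS.trans hSP₁
    have step : ∀ (P' : Sylow p G) (z : G), D ≤ (P' : Subgroup G) → z ∈ (P' : Subgroup G) →
        z ∈ (P₁ : Subgroup G) → z ∉ D → P₁ = P' := by
      intro P' z hDP' hzP' hzP₁ hzD
      by_contra hne
      have hlt : D < (P₁ : Subgroup G) ⊓ (P' : Subgroup G) := by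
        refine lt_of_le_of_ne (le_inf hDP₁ hDP') ?_
        intro h
        apply hzD
        rw [h]; exact ⟨hzP₁, hzP'⟩
      have hne0 : (P₁ : Subgroup G) ⊓ (P' : Subgroup G) ≠ ⊥ := by
        intro h
        rw [h] at hlt
        exact not_lt_bot hlt
      have hcard : Nat.card ↥D < Nat.card ↥((P₁ : Subgroup G) ⊓ (P' : Subgroup G)) := by
        have hle := Subgroup.card_le_of_le hlt.le
        rcases hle.lt_or_eq with h | h
        · exact h
        · exact absurd (Subgroup.eq_of_le_of_card_ge hlt.le h.ge) hlt.ne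
      have hbound : Nat.card ↥((P₁ : Subgroup G) ⊓ (P' : Subgroup G)) ≤ Nat.card G :=
        Subgroup.card_le_card_group _
      exact ih (Nat.card G - Nat.card ↥((P₁ : Subgroup G) ⊓ (P' : Subgroup G))) (by omega)
        P₁ P' hne hne0 rfl
    have h1 := step P x inf_le_left hxP hxP₁ hxD
    have h2 := step Q y inf_le_right hyQ hyP₁ hyD
    exact hPQ (h1.symm.trans h2)

end Cfsg.Agent.Lib.Helper69
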