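import Mathlib
import Cfsg.Agent.Lib.Helper69.RealOdd

set_option autoImplicit false

namespace Cfsg.Agent.Lib.Helper69

open scoped Pointwise

universe u

theorem hasRealOdd_of_ti {G : Type*} [Group G] [Finite G]
    (hTI : ∀ P Q : Sylow 2 G, P ≠ Q → (P : Subgroup G) ⊓ (Q : Subgroup G) = ⊥)
    (P Q : Sylow 2 G) (hPQ : P ≠ Q) : HasRealOdd G := by
  have : Fact (Nat.Prime 2) := ⟨Nat.prime_two⟩
  have hcard : Nat.card ↥(P : Subgroup G) = Nat.card ↥(Q : Subgroup G) := by
    rw [Sylow.card_eq_multiplicity, Sylow.card_eq_multiplicity]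
  have h2P : 2 ∣ Nat.card ↥(P : Subgroup G) := by
    obtain ⟨n, hn⟩ := IsPGroup.iff_card.mp P.isPGroup'
    rcases Nat.eq_zero_or_eq_succ_pred n with h0 | hs
    · exfalso
      rw [h0, pow_zero] at hn
      have hP : (P : Subgroup G) = ⊥ := Subgroup.card_eq_one.mp hn
      have hQ : (Q : Subgroup G) = ⊥ := Subgroup.card_eq_one.mp (hcard ▸ hn)
      exact hPQ (Sylow.ext (hP.trans hQ.symm))
    · rw [hn, hs, pow_succ]; exact Dvd.intro_left _ rfl
  have h2Q : 2 ∣ Nat.card ↥(Q : Subgroup G) := hcard ▸ h2P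
  obtain ⟨s, hs⟩ := exists_prime_orderOf_dvd_card' (G := ↥(P : Subgroup G)) 2 h2P
  obtain ⟨t, ht⟩ := exists_prime_orderOf_dvd_card' (G := ↥(Q : Subgroup G)) 2 h2Q
  have hso : orderOf (s : G) = 2 := by rw [Subgroup.orderOf_coe, hs]
  have hto : orderOf (t : G) = 2 := by rw [Subgroup.orderOf_coe, ht]
  have hs2 : (s : G) ^ 2 = 1 := by
    have := pow_orderOf_eq_one (s : G)
    rwa [hso] at this
  have ht2 : (t : G) ^ 2 = 1 := by
    have := pow_orderOf_eq_one (t : G)
    rwa [hto] at this
  have hs1 : (s : G) ≠ 1 := by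
    intro h; rw [h, orderOf_one] at hso; norm_num at hso
  rcases involutions_trichotomy (s : G) (t : G) hs2 ht2 with ⟨y, hy1, hyo, hyinv⟩ | ⟨z, hzo, hzs, hzt⟩ | hst
  · exact ⟨y, hy1, hyo, s, hyinv⟩
  · exfalso
    have hmem : ∀ (R : Sylow 2 G) (u : G), u ∈ (R : Subgroup G) → u ≠ 1 → z * u = u * z →
        z ∈ (R : Subgroup G) := by
      intro R u huR hu1 hcomm
      have hzR : z • R = R := by
        by_contra hne
        have := hTI (z • R) R hne
        apply hu1
        have hu : u ∈ ((z • R : Sylow 2 G) : Subgroup G) ⊓ (R : Subgroup G) := by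
          refine ⟨?_, huR⟩
          show u ∈ MulAut.conj z • (R : Subgroup G)
          rw [mem_conj_smul_iff]
          have : z⁻¹ * u * z = u := by
            rw [mul_assoc, ← hcomm]; group
          rw [this]; exact huR
        rw [this, Subgroup.mem_bot] at hu
        exact hu
      have hzN := Sylow.smul_eq_iff_mem_normalizer.mp hzR
      exact mem_sylow_of_mem_normalizer R z 1 (by rw [pow_one]; exact hzo) hzN
    have hzP := hmem P s s.2 hs1 hzs.symm
    have ht1 : (t : G) ≠ 1 := by
      intro h; rw [h, orderOf_one] at hto; norm_num at hto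
    have hzQ := hmem Q t t.2 ht1 hzt.symm
    have hz : z ∈ (P : Subgroup G) ⊓ (Q : Subgroup G) := ⟨hzP, hzQ⟩
    rw [hTI P Q hPQ, Subgroup.mem_bot] at hz
    rw [hz, orderOf_one] at hzo
    norm_num at hzo
  · exfalso
    have hsQ : (s : G) ∈ (Q : Subgroup G) := by rw [hst]; exact t.2
    have hz : (s : G) ∈ (P : Subgroup G) ⊓ (Q : Subgroup G) := ⟨s.2, hsQ⟩
    rw [hTI P Q hPQ, Subgroup.mem_bot] at hz
    exact hs1 hz

/-- If `G` is not 2-closed and `D` is a normal 2-subgroup then `G ⧸ D` is not 2-closed. -/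
theorem not_closed_quotient {G : Type*} [Group G] [Finite G] (D : Subgroup G) [D.Normal]
    (hD : IsPGroup 2 D) (P : Sylow 2 G) (hP : ¬ (P : Subgroup G).Normal) :
    ∃ Pbar : Sylow 2 (G ⧸ D), ¬ (Pbar : Subgroup (G ⧸ D)).Normal := by
  have : Fact (Nat.Prime 2) := ⟨Nat.prime_two⟩
  have hf : Function.Surjective (QuotientGroup.mk' D) := QuotientGroup.mk'_surjective D
  refine ⟨P.mapSurjective hf, ?_⟩
  intro hn
  apply hP
  have h1 : ((P.mapSurjective hf : Sylow 2 (G ⧸ D)) : Subgroup (G ⧸ D)).comap (QuotientGroup.mk' D) =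
      (P : Subgroup G) := by
    rw [Sylow.coe_mapSurjective, Subgroup.comap_map_eq, QuotientGroup.ker_mk']
    exact sup_of_le_left (hD.le_sylow_of_normal P)
  rw [← h1]
  exact hn.comap _

/-- Main: a finite group whose Sylow 2-subgroups are not normal has a nontrivial real element of
odd order. -/
theorem hasRealOdd_of_not_closed : ∀ n : ℕ, ∀ (G : Type u) [Group G] [Finite G], Nat.card G = n →
    (∃ P : Sylow 2 G, ¬ (P : Subgroup G).Normal) → HasRealOdd G := by
  intro n
  induction n using Nat.strong_induction_on with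
  | _ n ih =>
    intro G _ _ hn hex
    have : Fact (Nat.Prime 2) := ⟨Nat.prime_two⟩
    obtain ⟨P, hP⟩ := hex
    by_cases hcase1 : ∃ H : Subgroup G, H ≠ ⊤ ∧ ∃ S : Sylow 2 ↥H, ¬ (S : Subgroup ↥H).Normal
    · obtain ⟨H, hH, hS⟩ := hcase1
      have hlt : Nat.card ↥H < n := by
        rw [← hn]
        have hle := Subgroup.card_le_card_group H
        rcases hle.lt_or_eq with h | h
        · exact h
        · exact absurd (Subgroup.card_eq_iff_eq_top H |>.mp h) hH
      exact hasRealOdd_of_subgroup H (ih _ hlt ↥H rfl hS)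
    · push Not at hcase1
      by_cases hcase2 : ∃ D : Subgroup G, D.Normal ∧ IsPGroup 2 D ∧ D ≠ ⊥
      · obtain ⟨D, hDn, hDp, hD0⟩ := hcase2
        have := hDn
        have hlt : Nat.card (G ⧸ D) < n := by
          rw [← hn, ← Subgroup.index_eq_card, ← Subgroup.card_mul_index D]
          have h1 : 1 < Nat.card ↥D := by
            rw [Subgroup.one_lt_card_iff_ne_bot]; exact hD0
          have h2 : 0 < D.index := Nat.pos_of_ne_zero Subgroup.index_ne_zero_of_finite
          nlinarith
        exact hasRealOdd_of_quotient D hDp (ih _ hlt (G ⧸ D) rfl (not_closed_quotient D hDp P hP))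
      · push Not at hcase2
        have hnorm : ∀ R : Subgroup G, IsPGroup 2 R → R ≠ ⊥ →
            Subgroup.normalizer (R : Set G) ≠ ⊤ := by
          intro R hR hR0 h
          rw [Subgroup.normalizer_eq_top_iff] at h
          exact hR0 (hcase2 R h hR)
        have hTI : ∀ P Q : Sylow 2 G, P ≠ Q → (P : Subgroup G) ⊓ (Q : Subgroup G) = ⊥ := by
          intro P Q hPQ
          by_contra h
          exact sylow_ti_of_proper hcase1 hnorm _ P Q hPQ h rfl
        obtain ⟨g, hg⟩ : ∃ g : G, g • P ≠ P := by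
          by_contra hall
          push Not at hall
          apply hP
          rw [← Subgroup.normalizer_eq_top_iff, eq_top_iff]
          intro g _
          exact Sylow.smul_eq_iff_mem_normalizer.mp (hall g)
        exact hasRealOdd_of_ti hTI (g • P) P hg

end Cfsg.Agent.Lib.Helper69
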