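import Mathlib
import Cfsg.Prelude.Def_GeometricClasses
import Cfsg.Agent.Lib.Helper69.SLTDefs

set_option autoImplicit false

/-! K-SLT glue (S5979): transport of "conjugate into the tensor-decomposition stabiliser by `SL`" to
"conjugate into the Kronecker subgroup by a matrix of determinant `det P`". -/

namespace Cfsg.Agent.Lib.Helper69.SLT

open Matrix

variable {F : Type*} [Field F]

section transport

variable {κ ι : Type} [Fintype κ] [DecidableEq κ] [Fintype ι] [DecidableEq ι]

theorem glReindex_val (e : κ ≃ ι) (g : GL κ F) :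
    ((Cfsg.Geo.glReindex e g : GL ι F) : Matrix ι ι F) = Matrix.reindex e e (g : Matrix κ κ F) :=
  rfl

theorem glReindex_det (e : κ ≃ ι) (g : GL κ F) :
    Matrix.GeneralLinearGroup.det (Cfsg.Geo.glReindex e g) = Matrix.GeneralLinearGroup.det g := by
  apply Units.ext
  rw [Matrix.GeneralLinearGroup.val_det_apply, Matrix.GeneralLinearGroup.val_det_apply, glReindex_val,
    Matrix.det_reindex_self]

theorem glReindex_symm_apply (e : κ ≃ ι) (g : GL ι F) :
    Cfsg.Geo.glReindex e (Cfsg.Geo.glReindex e.symm g) = g := by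
  apply Units.ext
  rw [glReindex_val, glReindex_val]
  ext i j
  simp

theorem glReindex_apply_symm (e : κ ≃ ι) (g : GL κ F) :
    Cfsg.Geo.glReindex e.symm (Cfsg.Geo.glReindex e g) = g := by
  have := glReindex_symm_apply (F := F) e.symm g
  rwa [Equiv.symm_symm] at this

theorem glReindex_val_eq_smul_one_iff (e : κ ≃ ι) (g : GL κ F) (z : F) :
    ((Cfsg.Geo.glReindex e g : GL ι F) : Matrix ι ι F) = z • (1 : Matrix ι ι F) ↔
      (g : Matrix κ κ F) = z • (1 : Matrix κ κ F) := by
  rw [glReindex_val]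
  have key : ∀ {α β : Type} [Fintype α] [DecidableEq α] [Fintype β] [DecidableEq β] (f : α ≃ β),
      Matrix.reindex f f (z • (1 : Matrix α α F)) = z • (1 : Matrix β β F) := by
    intro α β _ _ _ _ f
    ext i j
    simp [Matrix.one_apply]
  constructor
  · intro h
    have h2 := congrArg (Matrix.reindex e.symm e.symm) h
    rw [key e.symm] at h2
    rw [← h2]
    ext i j
    simp
  · intro h
    rw [h, key e]

end transport

theorem mem_tensorProductSubgroup_iff {n a b : ℕ} (e : Fin n ≃ Fin a × Fin b) (P y : GL (Fin n) F) :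
    y ∈ Cfsg.Geo.tensorProductSubgroup a b e P ↔
      Cfsg.Geo.glReindex e (P⁻¹ * y * P) ∈ Cfsg.Geo.kroneckerSubgroup a b F := by
  unfold Cfsg.Geo.tensorProductSubgroup
  rw [Subgroup.mem_map]
  constructor
  · rintro ⟨k', hk', rfl⟩
    rw [Subgroup.mem_map] at hk'
    obtain ⟨k, hk, rfl⟩ := hk'
    have h1 : P⁻¹ * (MulAut.conj P).toMonoidHom ((Cfsg.Geo.glReindex e.symm).toMonoidHom k) * P =
        Cfsg.Geo.glReindex e.symm k := by
      simp [MulAut.conj_apply, mul_assoc]
    rw [h1, glReindex_symm_apply]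
    exact hk
  · intro h
    refine ⟨P⁻¹ * y * P, ?_, ?_⟩
    · rw [Subgroup.mem_map]
      refine ⟨_, h, ?_⟩
      exact glReindex_apply_symm e _
    · simp [MulAut.conj_apply, mul_assoc]

/-- the transport lemma -/
theorem conj_mem_tensor_iff {n a b : ℕ} (e : Fin n ≃ Fin a × Fin b) (P x : GL (Fin n) F) :
    (∃ g ∈ Cfsg.Geo.specialLinear (Fin n) F, g⁻¹ * x * g ∈ Cfsg.Geo.tensorProductSubgroup a b e P) ↔
      ∃ h : GL (Fin a × Fin b) F,
        Matrix.GeneralLinearGroup.det h = Matrix.GeneralLinearGroup.det P ∧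
          h⁻¹ * Cfsg.Geo.glReindex e x * h ∈ Cfsg.Geo.kroneckerSubgroup a b F := by
  constructor
  · rintro ⟨g, hg, hmem⟩
    refine ⟨Cfsg.Geo.glReindex e (g * P), ?_, ?_⟩
    · rw [glReindex_det, map_mul]
      have : Matrix.GeneralLinearGroup.det g = 1 := hg
      rw [this, one_mul]
    · rw [mem_tensorProductSubgroup_iff] at hmem
      have : (Cfsg.Geo.glReindex e (g * P))⁻¹ * Cfsg.Geo.glReindex e x * Cfsg.Geo.glReindex e (g * P) =
          Cfsg.Geo.glReindex e (P⁻¹ * (g⁻¹ * x * g) * P) := by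
        rw [← map_inv, ← map_mul, ← map_mul]
        congr 1
        simp [mul_assoc]
      rw [this]
      exact hmem
  · rintro ⟨h, hdet, hmem⟩
    refine ⟨Cfsg.Geo.glReindex e.symm h * P⁻¹, ?_, ?_⟩
    · show Matrix.GeneralLinearGroup.det (Cfsg.Geo.glReindex e.symm h * P⁻¹) = 1
      rw [map_mul, glReindex_det, hdet, map_inv, mul_inv_cancel]
    · rw [mem_tensorProductSubgroup_iff]
      have : Cfsg.Geo.glReindex e (P⁻¹ * ((Cfsg.Geo.glReindex e.symm h * P⁻¹)⁻¹ * x *
          (Cfsg.Geo.glReindex e.symm h * P⁻¹)) * P) = h⁻¹ * Cfsg.Geo.glReindex e x * h := by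
        have h1 : P⁻¹ * ((Cfsg.Geo.glReindex e.symm h * P⁻¹)⁻¹ * x *
            (Cfsg.Geo.glReindex e.symm h * P⁻¹)) * P =
            (Cfsg.Geo.glReindex e.symm h)⁻¹ * x * Cfsg.Geo.glReindex e.symm h := by
          simp [mul_assoc]
        rw [h1, map_mul, map_mul, map_inv, glReindex_symm_apply]
      rw [this]
      exact hmem

end Cfsg.Agent.Lib.Helper69.SLT
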