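import Mathlib
import Cfsg.Prelude.Def_GeometricClasses
import Cfsg.Agent.Lib.Helper69.SLTDefs
import Cfsg.Agent.Lib.Helper69.SLTTransport

set_option autoImplicit false

/-! K-SLT-3e (keystone 597905, parallel hand of the architect): the block element `diag(G, 1)`. -/

namespace Cfsg.Agent.Lib.Helper69.SLT

open Matrix

variable {F : Type*} [Field F]

/-- an element of order dividing `r` of `GL_d(q)` without fixed vectors, `r ∣ q^d - 1` (any characteristic) -/
theorem exists_fpf_GL_char [Fintype F] {p : ℕ} [Fact p.Prime] [CharP F p] {d : ℕ} (hd : 1 ≤ d) (r : ℕ)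
    (hr : r.Prime) (hdiv : r ∣ Fintype.card F ^ d - 1) :
    ∃ G : GL (Fin d) F, G ^ r = 1 ∧
      ∀ a : Fin d → F, (G : Matrix (Fin d) (Fin d) F) *ᵥ a = a → a = 0 := by
  classical
  have : NeZero d := ⟨by omega⟩
  have : Fact r.Prime := ⟨hr⟩
  have : Fintype (FiniteField.Extension F p d) := Fintype.ofFinite _
  have hKcard : Fintype.card (FiniteField.Extension F p d)ˣ = Fintype.card F ^ d - 1 := by
    rw [Fintype.card_units, ← Nat.card_eq_fintype_card, FiniteField.natCard_extension,
      Nat.card_eq_fintype_card]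
  obtain ⟨ζ, hζ⟩ := exists_prime_orderOf_dvd_card r (hKcard ▸ hdiv)
  obtain ⟨b⟩ : Nonempty (Module.Basis (Fin d) F (FiniteField.Extension F p d)) :=
    ⟨Module.finBasisOfFinrankEq F _ (FiniteField.finrank_extension F p d)⟩
  obtain ⟨φ, hφ⟩ : ∃ φ : FiniteField.Extension F p d →ₐ[F] Matrix (Fin d) (Fin d) F,
      φ = Algebra.leftMulMatrix b := ⟨_, rfl⟩
  obtain ⟨G, hG⟩ : ∃ G : GL (Fin d) F, G = Units.map (φ : _ →* Matrix (Fin d) (Fin d) F) ζ :=
    ⟨_, rfl⟩
  have hGval : (G : Matrix (Fin d) (Fin d) F) = φ (ζ : FiniteField.Extension F p d) := by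
    rw [hG]; rfl
  refine ⟨G, ?_, ?_⟩
  · rw [hG, ← map_pow, ← hζ, pow_orderOf_eq_one, map_one]
  · intro a ha
    obtain ⟨α, hα⟩ : ∃ α : FiniteField.Extension F p d, (b.repr α : Fin d → F) = a :=
      ⟨b.equivFun.symm a, by rw [← Module.Basis.equivFun_apply, LinearEquiv.apply_symm_apply]⟩
    have h1 : (b.repr ((ζ : FiniteField.Extension F p d) * α) : Fin d → F) =
        (b.repr α : Fin d → F) := by
      rw [← Algebra.leftMulMatrix_mulVec_repr, ← hφ, ← hGval, hα, ha]
    have h2 : (ζ : FiniteField.Extension F p d) * α = α := by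
      apply b.repr.injective
      exact DFunLike.coe_injective h1
    have h3 : ((ζ : FiniteField.Extension F p d) - 1) * α = 0 := by
      rw [sub_mul, one_mul, h2, sub_self]
    rcases mul_eq_zero.mp h3 with h | h
    · exfalso
      have hζ1 : ζ = 1 := Units.ext (sub_eq_zero.mp h)
      rw [hζ1, orderOf_one] at hζ
      exact hr.one_lt.ne' hζ.symm
    · rw [← hα, h]
      simp

/-- `diag(A, 1)` -/
def blockGL {e m : ℕ} (A : GL (Fin e) F) : GL (Fin e ⊕ Fin m) F where
  val := Matrix.fromBlocks (A : Matrix (Fin e) (Fin e) F) 0 0 1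
  inv := Matrix.fromBlocks ((A⁻¹ : GL (Fin e) F) : Matrix (Fin e) (Fin e) F) 0 0 1
  val_inv := by
    rw [Matrix.fromBlocks_multiply]
    simp [Matrix.fromBlocks_one]
  inv_val := by
    rw [Matrix.fromBlocks_multiply]
    simp [Matrix.fromBlocks_one]

theorem blockGL_val {e m : ℕ} (A : GL (Fin e) F) :
    ((blockGL (m := m) A : GL (Fin e ⊕ Fin m) F) : Matrix (Fin e ⊕ Fin m) (Fin e ⊕ Fin m) F) =
      Matrix.fromBlocks (A : Matrix (Fin e) (Fin e) F) 0 0 1 := rfl

theorem blockGL_mul {e m : ℕ} (A B : GL (Fin e) F) :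
    blockGL (m := m) (A * B) = blockGL A * blockGL B := by
  apply Units.ext
  rw [Units.val_mul, blockGL_val, blockGL_val, blockGL_val, Matrix.fromBlocks_multiply, Units.val_mul]
  simp

theorem blockGL_one {e m : ℕ} : blockGL (m := m) (1 : GL (Fin e) F) = 1 := by
  apply Units.ext
  rw [blockGL_val]
  simp [Matrix.fromBlocks_one]

theorem blockGL_pow {e m : ℕ} (A : GL (Fin e) F) (n : ℕ) :
    blockGL (m := m) A ^ n = blockGL (A ^ n) := by
  induction n with
  | zero => simp [blockGL_one]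
  | succ k ih => rw [pow_succ, pow_succ, ih, blockGL_mul]

theorem blockGL_mulVec {e m : ℕ} (A : GL (Fin e) F) (u : Fin e → F) (w : Fin m → F) :
    ((blockGL (m := m) A : GL (Fin e ⊕ Fin m) F) : Matrix (Fin e ⊕ Fin m) (Fin e ⊕ Fin m) F) *ᵥ
      Sum.elim u w = Sum.elim ((A : Matrix (Fin e) (Fin e) F) *ᵥ u) w := by
  rw [blockGL_val, Matrix.fromBlocks_mulVec]
  simp

theorem blockGL_det {e m : ℕ} (A : GL (Fin e) F) :
    Matrix.GeneralLinearGroup.det (blockGL (m := m) A) = Matrix.GeneralLinearGroup.det A := by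
  apply Units.ext
  rw [Matrix.GeneralLinearGroup.val_det_apply, Matrix.GeneralLinearGroup.val_det_apply, blockGL_val,
    Matrix.det_fromBlocks_zero₂₁, Matrix.det_one, mul_one]

/-- the fixed space of `diag(A, 1)`, `A` without fixed vectors -/
theorem eigDim_blockGL {e m : ℕ} (A : GL (Fin e) F)
    (hA : ∀ a : Fin e → F, (A : Matrix (Fin e) (Fin e) F) *ᵥ a = a → a = 0) :
    eigDim ((blockGL (m := m) A : GL (Fin e ⊕ Fin m) F) :
      Matrix (Fin e ⊕ Fin m) (Fin e ⊕ Fin m) F) 1 = m := by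
  unfold eigDim
  let L : (Fin m → F) →ₗ[F] (Fin e ⊕ Fin m → F) :=
    { toFun := fun w => Sum.elim (0 : Fin e → F) w
      map_add' := by
        intro w w'
        funext i
        cases i <;> simp
      map_smul' := by
        intro z w
        funext i
        cases i <;> simp }
  have hLinj : Function.Injective L := by
    intro w w' h
    funext j
    have := congrFun h (Sum.inr j)
    simpa [L] using this
  have hrange : LinearMap.range L = Module.End.eigenspace (Matrix.toLin'
      ((blockGL (m := m) A : GL (Fin e ⊕ Fin m) F) :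
        Matrix (Fin e ⊕ Fin m) (Fin e ⊕ Fin m) F)) 1 := by
    ext v
    rw [mem_eigenspace_toLin', one_smul, LinearMap.mem_range]
    constructor
    · rintro ⟨w, rfl⟩
      show _ *ᵥ Sum.elim (0 : Fin e → F) w = Sum.elim (0 : Fin e → F) w
      rw [blockGL_mulVec, Matrix.mulVec_zero]
    · intro hv
      have hv' : v = Sum.elim (v ∘ Sum.inl) (v ∘ Sum.inr) := by
        funext i; cases i <;> rfl
      rw [hv', blockGL_mulVec] at hv
      have h1 : (A : Matrix (Fin e) (Fin e) F) *ᵥ (v ∘ Sum.inl) = v ∘ Sum.inl := by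
        funext i
        have := congrFun hv (Sum.inl i)
        simpa using this
      have h2 := hA _ h1
      refine ⟨v ∘ Sum.inr, ?_⟩
      show Sum.elim (0 : Fin e → F) (v ∘ Sum.inr) = v
      rw [hv', h2]
      funext i; cases i <;> rfl
  rw [← hrange, LinearMap.finrank_range_of_inj hLinj, Module.finrank_fintype_fun_eq_card,
    Fintype.card_fin]

/-- eigenspace dimensions are invariant under reindexing -/
theorem eigDim_glReindex {κ ι : Type} [Fintype κ] [DecidableEq κ] [Fintype ι] [DecidableEq ι]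
    (ε : κ ≃ ι) (g : GL κ F) (μ : F) :
    eigDim ((Cfsg.Geo.glReindex ε g : GL ι F) : Matrix ι ι F) μ = eigDim (g : Matrix κ κ F) μ := by
  unfold eigDim
  rw [glReindex_val]
  let Φ : (κ → F) ≃ₗ[F] (ι → F) := LinearEquiv.funCongrLeft F F ε.symm
  have hmap : (Module.End.eigenspace (Matrix.toLin' (g : Matrix κ κ F)) μ).map
      (Φ : (κ → F) →ₗ[F] (ι → F)) =
      Module.End.eigenspace (Matrix.toLin' (Matrix.reindex ε ε (g : Matrix κ κ F))) μ := by
    ext v
    rw [Submodule.mem_map, mem_eigenspace_toLin']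
    constructor
    · rintro ⟨u, hu, rfl⟩
      rw [mem_eigenspace_toLin'] at hu
      show Matrix.reindex ε ε (g : Matrix κ κ F) *ᵥ (u ∘ ε.symm) = μ • (u ∘ ε.symm)
      rw [Matrix.reindex_apply, Matrix.submatrix_mulVec_equiv]
      simp only [Equiv.symm_symm]
      have : (u ∘ ε.symm) ∘ ε = u := by funext i; simp
      rw [this, hu]
      rfl
    · intro hv
      refine ⟨v ∘ ε, ?_, ?_⟩
      · rw [mem_eigenspace_toLin']
        rw [Matrix.reindex_apply, Matrix.submatrix_mulVec_equiv] at hv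
        simp only [Equiv.symm_symm] at hv
        have h2 := congrArg (fun w : ι → F => w ∘ ε) hv
        beta_reduce at h2
        have h3 : ((g : Matrix κ κ F) *ᵥ (v ∘ ε)) ∘ ε.symm ∘ ε = (g : Matrix κ κ F) *ᵥ (v ∘ ε) := by
          funext i; simp
        rw [Function.comp_assoc, h3] at h2
        rw [h2]
        rfl
      · show (v ∘ ε) ∘ ε.symm = v
        funext i; simp
  rw [← hmap]
  exact LinearEquiv.finrank_map_eq Φ _

/-- **K-SLT-3e (keystone 597905)** -/
theorem exists_block {ι : Type} [Fintype ι] [DecidableEq ι] [Fintype F] {p : ℕ} [Fact p.Prime] [CharP F p]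
    (r : ℕ) (hr : r.Prime) (hrp : r ≠ p) (e : ℕ) (he : e = orderOf ((Fintype.card F : ℕ) : ZMod r))
    (he2 : 2 ≤ e) (hen : e ≤ Fintype.card ι) :
    ∃ x : GL ι F, Matrix.GeneralLinearGroup.det x = 1 ∧ x ^ r = 1 ∧
      (∀ z : F, (x : Matrix ι ι F) ≠ z • (1 : Matrix ι ι F)) ∧
      eigDim (x : Matrix ι ι F) 1 + e = Fintype.card ι := by
  classical
  have : Fact r.Prime := ⟨hr⟩
  -- `r ∣ q ^ e - 1`, `r ∤ q - 1`
  have hpow : ((Fintype.card F : ℕ) : ZMod r) ^ e = 1 := by rw [he]; exact pow_orderOf_eq_one _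
  have hdiv : r ∣ Fintype.card F ^ e - 1 := by
    have hpos : 1 ≤ Fintype.card F ^ e := Nat.one_le_pow _ _ Fintype.card_pos
    have : ((Fintype.card F ^ e - 1 : ℕ) : ZMod r) = 0 := by
      rw [Nat.cast_sub hpos, Nat.cast_pow, hpow, Nat.cast_one, sub_self]
    exact (ZMod.natCast_eq_zero_iff _ _).mp this
  have hndiv : ¬ r ∣ Fintype.card F - 1 := by
    intro h
    have hpos : 1 ≤ Fintype.card F := Fintype.card_pos
    have h1 : ((Fintype.card F - 1 : ℕ) : ZMod r) = 0 := (ZMod.natCast_eq_zero_iff _ _).mpr h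
    rw [Nat.cast_sub hpos, Nat.cast_one, sub_eq_zero] at h1
    have h2 : orderOf ((Fintype.card F : ℕ) : ZMod r) = 1 := orderOf_eq_one_iff.mpr h1
    omega
  -- units of `F` whose `r`-th power is one are trivial
  have hunit : ∀ u : Fˣ, u ^ r = 1 → u = 1 := by
    intro u hu
    have h1 : orderOf u ∣ r := orderOf_dvd_of_pow_eq_one hu
    have h2 : orderOf u ∣ Fintype.card Fˣ := orderOf_dvd_card
    rw [Fintype.card_units] at h2
    rcases (Nat.dvd_prime hr).mp h1 with h | h
    · exact orderOf_eq_one_iff.mp h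
    · exact absurd (h ▸ h2) hndiv
  obtain ⟨G, hGr, hGfpf⟩ := exists_fpf_GL_char (F := F) (p := p) (by omega : 1 ≤ e) r hr hdiv
  have hGdet : Matrix.GeneralLinearGroup.det G = 1 := by
    apply hunit
    rw [← map_pow, hGr, map_one]
  obtain ⟨m, hm⟩ : ∃ m, Fintype.card ι = e + m := ⟨Fintype.card ι - e, by omega⟩
  have hcardsum : Fintype.card (Fin e ⊕ Fin m) = Fintype.card ι := by
    rw [Fintype.card_sum, Fintype.card_fin, Fintype.card_fin, hm]
  obtain ⟨ε⟩ : Nonempty (Fin e ⊕ Fin m ≃ ι) := ⟨Fintype.equivOfCardEq hcardsum⟩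
  set x₀ : GL (Fin e ⊕ Fin m) F := blockGL G with hx₀
  refine ⟨Cfsg.Geo.glReindex ε x₀, ?_, ?_, ?_, ?_⟩
  · rw [glReindex_det, hx₀, blockGL_det, hGdet]
  · rw [← map_pow, hx₀, blockGL_pow, hGr, blockGL_one, map_one]
  · intro z hz
    rw [glReindex_val_eq_smul_one_iff] at hz
    -- `G = z • 1`
    have hGz : (G : Matrix (Fin e) (Fin e) F) = z • (1 : Matrix (Fin e) (Fin e) F) := by
      ext i j
      have := congrFun (congrFun hz (Sum.inl i)) (Sum.inl j)
      rw [hx₀, blockGL_val, Matrix.fromBlocks_apply₁₁] at this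
      rw [this, Matrix.smul_apply, Matrix.smul_apply, Matrix.one_apply, Matrix.one_apply]
      simp
    have hz0 : z ≠ 0 := by
      rintro rfl
      rw [zero_smul] at hGz
      have h1 : IsUnit (G : Matrix (Fin e) (Fin e) F) := G.isUnit
      rw [hGz] at h1
      have : Nonempty (Fin e) := ⟨⟨0, by omega⟩⟩
      exact not_isUnit_zero h1
    have hzr : z ^ r = 1 := by
      have h1 : ((G ^ r : GL (Fin e) F) : Matrix (Fin e) (Fin e) F) = 1 := by rw [hGr, Units.val_one]
      rw [Units.val_pow_eq_pow_val, hGz, smul_pow, one_pow] at h1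
      have := congrFun (congrFun h1 ⟨0, by omega⟩) ⟨0, by omega⟩
      simpa using this
    have hz1 : z = 1 := by
      have := hunit (Units.mk0 z hz0) (by apply Units.ext; simpa using hzr)
      simpa using congrArg Units.val this
    -- `G = 1` fixes a nonzero vector
    rw [hz1, one_smul] at hGz
    have h2 := hGfpf (Pi.single ⟨0, by omega⟩ 1) (by rw [hGz, Matrix.one_mulVec])
    have := congrFun h2 ⟨0, by omega⟩
    simp at this
  · rw [eigDim_glReindex, hx₀, eigDim_blockGL G hGfpf, hm, add_comm]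

end Cfsg.Agent.Lib.Helper69.SLT
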