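import Mathlib
import Cfsg.Prelude.Def_GeometricClasses
import Cfsg.Agent.Lib.Helper69.SLTDefs
import Cfsg.Agent.Lib.Helper69.SLTGlue
import Cfsg.Agent.Lib.Helper69.SLTTransport
import Cfsg.Agent.Lib.Helper77.SLT3a
import Cfsg.Agent.Lib.Helper77.SLTA
import Cfsg.Agent.Lib.Helper97.SLT3b
import Cfsg.Agent.Lib.Helper27.SLTP1
import Cfsg.Agent.Lib.Helper80.SLTP2
import Cfsg.Agent.Lib.Helper69.SLT3e

set_option autoImplicit false

/-! K-SLT glue (S5979): the two directions in Kronecker coordinates. -/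

namespace Cfsg.Agent.Lib.Helper69.SLT

open Matrix
open scoped Kronecker

variable {F : Type*} [Field F]

theorem not_dvd_of_add_one {a m n : ℕ} (ha : 2 ≤ a) (h : m + 1 = a * n) : ¬ a ∣ m := by
  intro hd
  have h1 : a ∣ a * n := dvd_mul_right a n
  rw [← h] at h1
  have h2 : a ∣ 1 := (Nat.dvd_add_right hd).mp h1
  have := Nat.le_of_dvd one_pos h2
  omega

/-- the derangements -/
theorem exists_derangement [Fintype F] {p : ℕ} [Fact p.Prime] [CharP F p] {a b : ℕ} (ha : 2 ≤ a)
    (hab : a < b) (r : ℕ) (hr : r.Prime)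
    (hord : r ≠ p → orderOf ((Fintype.card F : ℕ) : ZMod r) ≤ a * b)
    (hR : ¬ (r = 2 ∧ a = 2 ∧ Odd (Fintype.card F) ∧
      padicValNat 2 (Fintype.card F - 1) ≤ padicValNat 2 (a * b))) :
    ∃ x : GL (Fin a × Fin b) F, Matrix.GeneralLinearGroup.det x = 1 ∧
      (∃ z : F, ((x ^ r : GL (Fin a × Fin b) F) : Matrix (Fin a × Fin b) (Fin a × Fin b) F) =
        z • (1 : Matrix (Fin a × Fin b) (Fin a × Fin b) F)) ∧
      (∀ z : F, (x : Matrix (Fin a × Fin b) (Fin a × Fin b) F) ≠
        z • (1 : Matrix (Fin a × Fin b) (Fin a × Fin b) F)) ∧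
      NoKronConj a b x := by
  classical
  have hcard : Fintype.card (Fin a × Fin b) = a * b := by
    rw [Fintype.card_prod, Fintype.card_fin, Fintype.card_fin]
  have hb3 : 3 ≤ b := by omega
  have hab6 : 6 ≤ a * b := by nlinarith
  have hpowone : ∀ x : GL (Fin a × Fin b) F, x ^ r = 1 →
      ∃ z : F, ((x ^ r : GL (Fin a × Fin b) F) : Matrix (Fin a × Fin b) (Fin a × Fin b) F) =
        z • (1 : Matrix (Fin a × Fin b) (Fin a × Fin b) F) := by
    intro x hx
    exact ⟨1, by rw [hx, Units.val_one, one_smul]⟩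
  by_cases hrp : r = p
  · subst hrp
    obtain ⟨x, hdet, hpow, hns, hfix⟩ :=
      Cfsg.Agent.Lib.Helper77.SLT.exists_transvection (F := F) (ι := Fin a × Fin b) (p := r)
        (by rw [hcard]; omega)
    rw [hcard] at hfix
    refine ⟨x, hdet, hpowone x hpow, hns, noKronConj_of_eigen x 1 1 1 (by omega) (by omega) ?_⟩
    exact not_dvd_of_add_one ha hfix
  · -- `r ≠ p`
    obtain ⟨k, -, hk⟩ := FiniteField.card F p
    have hrq : ¬ r ∣ Fintype.card F := by
      rw [hk]
      intro h
      exact hrp ((Nat.prime_dvd_prime_iff_eq hr Fact.out).mp (hr.dvd_of_dvd_pow h))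
    by_cases hr2 : r = 2
    · subst hr2
      have hp2 : p ≠ 2 := fun h => hrp h.symm
      have hodd : Odd (Fintype.card F) := by
        rw [hk]
        apply Odd.pow
        exact (Nat.Prime.eq_two_or_odd' Fact.out).resolve_left hp2
      have h2F : (2 : F) ≠ 0 := by
        intro h
        have : (p : ℕ) ∣ 2 := by
          have := (CharP.cast_eq_zero_iff F p 2).mp (by exact_mod_cast h)
          exact this
        have hp := (Nat.prime_dvd_prime_iff_eq Fact.out Nat.prime_two).mp this
        exact hp2 hp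
      by_cases ha2 : a = 2
      · have hv : padicValNat 2 (a * b) < padicValNat 2 (Fintype.card F - 1) := by
          by_contra hcon
          exact hR ⟨rfl, ha2, hodd, not_lt.mp hcon⟩
        obtain ⟨l, hl⟩ := Cfsg.Agent.Lib.Helper77.SLT.exists_pow_eq_neg_one hodd (a * b) (by omega) hv
        obtain ⟨x, hdet, hx2, hns, hfix, hfix2⟩ :=
          Cfsg.Agent.Lib.Helper97.SLT.exists_diag_one (F := F) (ι := Fin a × Fin b)
            (by rw [hcard]; omega) h2F l (by rw [hcard]; exact hl)
        rw [hcard] at hfix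
        refine ⟨x, hdet, ⟨(l : F) ^ 2, hx2⟩, hns,
          noKronConj_of_eigen x (l : F) (-(l : F)) 1 (by omega) (by omega) ?_⟩
        rw [hfix2]
        intro hd
        have := Nat.le_of_dvd one_pos hd
        omega
      · have ha3 : 3 ≤ a := by omega
        have hneg : (-1 : Fˣ) ≠ 1 := by
          intro h
          have h1 : ((-1 : Fˣ) : F) = ((1 : Fˣ) : F) := congrArg Units.val h
          rw [Units.val_neg, Units.val_one] at h1
          apply h2F
          have : (2 : F) = 1 - (-1) := by ring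
          rw [this, h1]; ring
        obtain ⟨x, hdet, hpow, hns, hfix, -, hfix2⟩ :=
          Cfsg.Agent.Lib.Helper97.SLT.exists_diag_two (F := F) (ι := Fin a × Fin b)
            (by rw [hcard]; omega) (-1) (-1) hneg (by simp) 2 (by simp)
        rw [hcard] at hfix
        refine ⟨x, hdet, hpowone x hpow, hns,
          noKronConj_of_eigen x 1 (((-1 : Fˣ)) : F) 2 (by omega) (by omega) ?_⟩
        rw [hfix2 rfl]
        intro hd
        have := Nat.le_of_dvd (by norm_num) hd
        omega
    · -- `r` odd, `r ≠ p`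
      have hord' := hord hrp
      have : Fact r.Prime := ⟨hr⟩
      have hunit : ((Fintype.card F : ℕ) : ZMod r) ≠ 0 := by
        intro h
        exact hrq ((ZMod.natCast_eq_zero_iff _ _).mp h)
      have he1 : 1 ≤ orderOf ((Fintype.card F : ℕ) : ZMod r) := by
        apply Nat.one_le_iff_ne_zero.mpr
        rw [Ne, orderOf_eq_zero_iff, not_not]
        exact isOfFinOrder_iff_pow_eq_one.mpr ⟨r - 1, by have := hr.two_le; omega,
          ZMod.pow_card_sub_one_eq_one hunit⟩
      by_cases he : orderOf ((Fintype.card F : ℕ) : ZMod r) = 1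
      · -- `r ∣ q - 1`
        have hq1 : ((Fintype.card F : ℕ) : ZMod r) = 1 := orderOf_eq_one_iff.mp he
        have hdvd : r ∣ Fintype.card F - 1 := by
          have hpos : 1 ≤ Fintype.card F := Fintype.card_pos
          have : ((Fintype.card F - 1 : ℕ) : ZMod r) = 0 := by
            rw [Nat.cast_sub hpos, hq1, Nat.cast_one, sub_self]
          exact (ZMod.natCast_eq_zero_iff _ _).mp this
        have hdvd' : r ∣ Fintype.card Fˣ := by rw [Fintype.card_units]; exact hdvd
        obtain ⟨ζ, hζ⟩ := exists_prime_orderOf_dvd_card r hdvd'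
        have hζ1 : ζ ≠ 1 := by
          intro h
          rw [h, orderOf_one] at hζ
          exact hr.one_lt.ne hζ
        have hζinv : ζ ≠ ζ⁻¹ := by
          intro h
          have h2 : ζ ^ 2 = 1 := by rw [pow_two]; nth_rewrite 2 [h]; exact mul_inv_cancel ζ
          have := orderOf_dvd_of_pow_eq_one h2
          rw [hζ] at this
          exact hr2 ((Nat.prime_dvd_prime_iff_eq hr Nat.prime_two).mp this)
        obtain ⟨x, hdet, hpow, hns, hfix, hfix1, -⟩ :=
          Cfsg.Agent.Lib.Helper97.SLT.exists_diag_two (F := F) (ι := Fin a × Fin b)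
            (by rw [hcard]; omega) ζ ζ⁻¹ hζ1 (mul_inv_cancel ζ) r (by rw [← hζ]; exact pow_orderOf_eq_one ζ)
        rw [hcard] at hfix
        refine ⟨x, hdet, hpowone x hpow, hns,
          noKronConj_of_eigen x 1 (ζ : F) 2 (by omega) (by omega) ?_⟩
        rw [hfix1 hζinv]
        intro hd
        have := Nat.le_of_dvd one_pos hd
        omega
      · have he2 : 2 ≤ orderOf ((Fintype.card F : ℕ) : ZMod r) := by omega
        obtain ⟨x, hdet, hpow, hns, hfix⟩ :=
          Cfsg.Agent.Lib.Helper69.SLT.exists_block (F := F) (ι := Fin a × Fin b) (p := p) r hr hrp _ rfl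
            he2 (by rw [hcard]; exact hord')
        rw [hcard] at hfix
        exact ⟨x, hdet, hpowone x hpow, hns,
          noKronConj_of_irred ha hab r hr hrp _ rfl he1 x hpow hfix⟩

/-- the positive direction -/
theorem allDetKronConj_of_two [Fintype F] (hodd : Odd (Fintype.card F)) (b : ℕ) (hb : 1 ≤ b)
    (hv : padicValNat 2 (Fintype.card F - 1) ≤ padicValNat 2 (2 * b))
    (x : GL (Fin 2 × Fin b) F) (hdet : Matrix.GeneralLinearGroup.det x = 1) (z : F)
    (hx : ((x ^ 2 : GL (Fin 2 × Fin b) F) : Matrix (Fin 2 × Fin b) (Fin 2 × Fin b) F) =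
      z • (1 : Matrix (Fin 2 × Fin b) (Fin 2 × Fin b) F))
    (hns : ∀ z : F, (x : Matrix (Fin 2 × Fin b) (Fin 2 × Fin b) F) ≠
      z • (1 : Matrix (Fin 2 × Fin b) (Fin 2 × Fin b) F)) :
    AllDetKronConj 2 b x := by
  by_cases hz : IsSquare z
  · obtain ⟨l, rfl⟩ := hz
    exact Cfsg.Agent.Lib.Helper27.SLT.allDetKronConj_of_sq hodd b hb hv x hdet l
      (by rw [hx, pow_two]) hns
  · exact Cfsg.Agent.Lib.Helper80.SLT.allDetKronConj_of_nonsq hodd b hb x z hz hx

end Cfsg.Agent.Lib.Helper69.SLT
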