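import Mathlib

/-!
# Self-dual modules: splitting off nondegenerate pieces

General lemmas on a representation `ρ` of a group `G` on a finite-dimensional space `V`
with an invariant bilinear form `B` that is nondegenerate (on the right).
-/

set_option autoImplicit false

namespace Cfsg.Agent.Lib.Helper69.SelfDual

open Module

universe u v w

variable {F : Type u} [Field F] {G : Type v} [Group G]
variable {V : Type w} [AddCommGroup V] [Module F V]

/-- invariance of a submodule under a representation -/
def Inv (ρ : Representation F G V) (X : Submodule F V) : Prop := ∀ g, ∀ x ∈ X, ρ g x ∈ X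

/-- right-nondegeneracy of a bilinear form on a submodule -/
def ND (B : LinearMap.BilinForm F V) (X : Submodule F V) : Prop :=
  ∀ x ∈ X, (∀ y ∈ X, B y x = 0) → x = 0

/-- invariance of a bilinear form -/
def FInv (ρ : Representation F G V) (B : LinearMap.BilinForm F V) : Prop :=
  ∀ g x y, B (ρ g x) (ρ g y) = B x y

theorem rho_inv_apply (ρ : Representation F G V) (g : G) (x : V) : ρ g (ρ g⁻¹ x) = x := by
  rw [← Module.End.mul_apply, ← map_mul, mul_inv_cancel, map_one, Module.End.one_apply]

theorem rho_inv_apply' (ρ : Representation F G V) (g : G) (x : V) : ρ g⁻¹ (ρ g x) = x := by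
  rw [← Module.End.mul_apply, ← map_mul, inv_mul_cancel, map_one, Module.End.one_apply]

/-- the sub-representation on an invariant submodule -/
noncomputable def subRep (ρ : Representation F G V) (X : Submodule F V) (hX : Inv ρ X) :
    Representation F G X :=
  (⟨X, fun g v hv => hX g v hv⟩ : Subrepresentation ρ).toRepresentation

theorem subRep_apply (ρ : Representation F G V) (X : Submodule F V) (hX : Inv ρ X) (g : G)
    (x : X) : ((subRep ρ X hX g x : X) : V) = ρ g (x : V) := rfl

/-- Maschke: invariant complement -/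
theorem exists_inv_compl [Finite G] [NeZero (Nat.card G : F)] (ρ : Representation F G V)
    (X : Submodule F V) (hX : Inv ρ X) :
    ∃ Y : Submodule F V, IsCompl X Y ∧ Inv ρ Y := by
  obtain ⟨Y, hY⟩ := exists_isCompl (⟨X, fun g v hv => hX g v hv⟩ : Subrepresentation ρ)
  refine ⟨Y.toSubmodule, ?_, fun h y hy => Y.apply_mem_toSubmodule h hy⟩
  constructor
  · rw [disjoint_iff]
    exact congrArg Subrepresentation.toSubmodule hY.inf_eq_bot
  · rw [codisjoint_iff]
    exact congrArg Subrepresentation.toSubmodule hY.sup_eq_top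

theorem inv_orthogonal (ρ : Representation F G V) (B : LinearMap.BilinForm F V)
    (hB : FInv ρ B) (P : Submodule F V) (hP : Inv ρ P) : Inv ρ (B.orthogonal P) := by
  intro g v hv
  rw [LinearMap.BilinForm.mem_orthogonal_iff] at hv ⊢
  intro x hx
  have h1 := hv (ρ g⁻¹ x) (hP g⁻¹ x hx)
  rw [← hB g, rho_inv_apply] at h1
  exact h1

theorem inv_inf (ρ : Representation F G V) {P Q : Submodule F V} (hP : Inv ρ P) (hQ : Inv ρ Q) :
    Inv ρ (P ⊓ Q) := fun g x hx => ⟨hP g x hx.1, hQ g x hx.2⟩

theorem inv_sup (ρ : Representation F G V) {P Q : Submodule F V} (hP : Inv ρ P) (hQ : Inv ρ Q) :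
    Inv ρ (P ⊔ Q) := by
  intro g x hx
  obtain ⟨a, ha, b, hb, rfl⟩ := Submodule.mem_sup.mp hx
  rw [map_add]
  exact Submodule.add_mem_sup (hP g a ha) (hQ g b hb)

/-- splitting off a nondegenerate invariant subspace -/
theorem split [FiniteDimensional F V] (B : LinearMap.BilinForm F V) (hV : ND B ⊤)
    (P : Submodule F V) (hPnd : ND B P) :
    IsCompl P (B.orthogonal P) ∧ ND B (B.orthogonal P) := by
  have hdisj : P ⊓ B.orthogonal P = ⊥ := by
    rw [eq_bot_iff]
    rintro x ⟨hxP, hxQ⟩
    rw [Submodule.mem_bot]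
    apply hPnd x hxP
    intro y hy
    exact (LinearMap.BilinForm.mem_orthogonal_iff.mp hxQ) y hy
  have hsup : ∀ v : V, ∃ p ∈ P, ∃ q ∈ B.orthogonal P, p + q = v := by
    intro v
    let φ : P →ₗ[F] Module.Dual F P := (B.restrict P).flip
    have hφ : ∀ p x : P, φ p x = B (x : V) (p : V) := fun p x => rfl
    have hφinj : Function.Injective φ := by
      rw [← LinearMap.ker_eq_bot, LinearMap.ker_eq_bot']
      intro p hp
      have : (p : V) = 0 := by
        apply hPnd p p.2
        intro y hy
        have := LinearMap.congr_fun hp ⟨y, hy⟩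
        rw [hφ] at this
        exact this
      exact Subtype.ext this
    have hφsurj : Function.Surjective φ := by
      apply (LinearMap.injective_iff_surjective_of_finrank_eq_finrank ?_).mp hφinj
      exact (Subspace.dual_finrank_eq).symm
    obtain ⟨p, hp⟩ := hφsurj ((B.flip v).comp P.subtype)
    refine ⟨p, p.2, v - p, ?_, by abel⟩
    rw [LinearMap.BilinForm.mem_orthogonal_iff]
    intro x hx
    rw [map_sub]
    have := LinearMap.congr_fun hp ⟨x, hx⟩
    rw [hφ] at this
    simp only [LinearMap.coe_comp, Submodule.coe_subtype, Function.comp_apply] at this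
    rw [this, LinearMap.BilinForm.flip_apply, sub_self]
  refine ⟨⟨disjoint_iff.mpr hdisj, codisjoint_iff.mpr ?_⟩, ?_⟩
  · rw [eq_top_iff]
    intro v _
    obtain ⟨p, hp, q, hq, rfl⟩ := hsup v
    exact Submodule.add_mem_sup hp hq
  · intro y hy hyy
    apply hV y Submodule.mem_top
    intro v _
    obtain ⟨p, hp, q, hq, rfl⟩ := hsup v
    rw [map_add, LinearMap.add_apply, hyy q hq, add_zero]
    exact (LinearMap.BilinForm.mem_orthogonal_iff.mp hy) p hp

/-- projections along invariant complements are equivariant -/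
theorem proj_equivariant (ρ : Representation F G V) {P Q : Submodule F V} (h : IsCompl P Q)
    (hP : Inv ρ P) (hQ : Inv ρ Q) (g : G) (v : V) :
    P.projection Q h (ρ g v) = ρ g (P.projection Q h v) := by
  have hv : P.projection Q h v + Q.projection P h.symm v = v :=
    Submodule.projection_add_projection_eq_self h v
  conv_lhs => rw [← hv]
  rw [map_add, map_add]
  have h1 : P.projection Q h (ρ g (P.projection Q h v)) = ρ g (P.projection Q h v) :=
    Submodule.projection_apply_of_mem_left h (hP g _ (Submodule.projection_apply_mem h v))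
  have h2 : P.projection Q h (ρ g (Q.projection P h.symm v)) = 0 :=
    Submodule.projection_apply_of_mem_right h (hQ g _ (Submodule.projection_apply_mem h.symm v))
  rw [h1, h2, add_zero]

theorem projOnto_equivariant (ρ : Representation F G V) {P Q : Submodule F V} (h : IsCompl P Q)
    (hP : Inv ρ P) (hQ : Inv ρ Q) (g : G) (v : V) :
    P.projectionOnto Q h (ρ g v) = subRep ρ P hP g (P.projectionOnto Q h v) := by
  apply Subtype.ext
  rw [subRep_apply]
  exact proj_equivariant ρ h hP hQ g v

/-- a representation carries a nondegenerate invariant alternating form -/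
def AltND (ρ : Representation F G V) : Prop :=
  ∃ A : LinearMap.BilinForm F V, (∀ x, A x x = 0) ∧ (∀ g x y, A (ρ g x) (ρ g y) = A x y) ∧
    ∀ x, (∀ y, A x y = 0) → x = 0

/-- lifting a form from an invariant direct summand -/
theorem lift_form (ρ : Representation F G V) {P Q : Submodule F V} (h : IsCompl P Q)
    (hP : Inv ρ P) (hQ : Inv ρ Q) (A' : LinearMap.BilinForm F P) (halt : ∀ x, A' x x = 0)
    (hinv : ∀ g x y, A' (subRep ρ P hP g x) (subRep ρ P hP g y) = A' x y)
    (hnd : ∀ x, (∀ y, A' x y = 0) → x = 0) :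
    ∃ L : LinearMap.BilinForm F V, (∀ x, L x x = 0) ∧ (∀ g x y, L (ρ g x) (ρ g y) = L x y) ∧
      (∀ x, (∀ y ∈ P, L x y = 0) → P.projectionOnto Q h x = 0) ∧ (∀ x, ∀ y ∈ Q, L x y = 0) := by
  refine ⟨A'.compl₁₂ (P.projectionOnto Q h) (P.projectionOnto Q h), ?_, ?_, ?_, ?_⟩
  · intro x
    rw [LinearMap.compl₁₂_apply]
    exact halt _
  · intro g x y
    rw [LinearMap.compl₁₂_apply, LinearMap.compl₁₂_apply, projOnto_equivariant ρ h hP hQ,
      projOnto_equivariant ρ h hP hQ, hinv]
  · intro x hx
    apply hnd
    intro y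
    have := hx y y.2
    rw [LinearMap.compl₁₂_apply, Submodule.projectionOnto_apply_left] at this
    exact this
  · intro x y hy
    rw [LinearMap.compl₁₂_apply, Submodule.projectionOnto_apply_of_mem_right h hy, map_zero]

/-- assembling alternating forms on two invariant complementary summands -/
theorem assemble (ρ : Representation F G V) {P Q : Submodule F V} (h : IsCompl P Q)
    (hP : Inv ρ P) (hQ : Inv ρ Q) (h1 : AltND (subRep ρ P hP)) (h2 : AltND (subRep ρ Q hQ)) :
    AltND ρ := by
  obtain ⟨A1, ha1, hi1, hn1⟩ := h1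
  obtain ⟨A2, ha2, hi2, hn2⟩ := h2
  obtain ⟨L1, hL1a, hL1i, hL1n, hL1z⟩ := lift_form ρ h hP hQ A1 ha1 hi1 hn1
  obtain ⟨L2, hL2a, hL2i, hL2n, hL2z⟩ := lift_form ρ h.symm hQ hP A2 ha2 hi2 hn2
  refine ⟨L1 + L2, ?_, ?_, ?_⟩
  · intro x
    rw [LinearMap.add_apply, LinearMap.add_apply, hL1a, hL2a, add_zero]
  · intro g x y
    rw [LinearMap.add_apply, LinearMap.add_apply, LinearMap.add_apply, LinearMap.add_apply,
      hL1i, hL2i]
  · intro x hx
    have e1 : P.projectionOnto Q h x = 0 := by
      apply hL1n
      intro y hy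
      have := hx y
      rw [LinearMap.add_apply, LinearMap.add_apply, hL2z x y hy, add_zero] at this
      exact this
    have e2 : Q.projectionOnto P h.symm x = 0 := by
      apply hL2n
      intro y hy
      have := hx y
      rw [LinearMap.add_apply, LinearMap.add_apply, hL1z x y hy, zero_add] at this
      exact this
    have := Submodule.projection_add_projection_eq_self h x
    rw [Submodule.projection_apply, Submodule.projection_apply, e1, e2] at this
    rw [← this]
    simp

/-- existence of a minimal nonzero invariant submodule inside a nonzero invariant one -/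
theorem exists_minimal [FiniteDimensional F V] (ρ : Representation F G V) (R : Submodule F V)
    (hR : Inv ρ R) (hne : R ≠ ⊥) :
    ∃ S : Submodule F V, S ≤ R ∧ S ≠ ⊥ ∧ Inv ρ S ∧
      ∀ T : Submodule F V, T ≤ S → T ≠ ⊥ → Inv ρ T → T = S := by
  obtain ⟨S, hS, hmin⟩ := WellFounded.has_min (wellFounded_lt (α := Submodule F V))
    {S | S ≤ R ∧ S ≠ ⊥ ∧ Inv ρ S} ⟨R, le_refl R, hne, hR⟩
  refine ⟨S, hS.1, hS.2.1, hS.2.2, ?_⟩
  intro T hTS hTne hTinv
  by_contra hne'
  exact hmin T ⟨hTS.trans hS.1, hTne, hTinv⟩ (lt_of_le_of_ne hTS hne')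

/-- in characteristic 2 a symmetric invariant form is alternating on a minimal invariant
submodule with no fixed points -/
theorem alt_on_minimal [CharP F 2] (ρ : Representation F G V) (B : LinearMap.BilinForm F V)
    (hB : FInv ρ B) (hfix : ∀ x, (∀ g, ρ g x = x) → x = 0) (S : Submodule F V)
    (hSR : ∀ x ∈ S, ∀ y, B x y = B y x) (hSne : S ≠ ⊥) (hSinv : Inv ρ S)
    (hmin : ∀ T : Submodule F V, T ≤ S → T ≠ ⊥ → Inv ρ T → T = S) :
    ∀ x ∈ S, B x x = 0 := by
  let K : Submodule F V :=
    { carrier := {x | x ∈ S ∧ B x x = 0}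
      add_mem' := by
        rintro a b ⟨ha, ha0⟩ ⟨hb, hb0⟩
        refine ⟨S.add_mem ha hb, ?_⟩
        rw [map_add, map_add, LinearMap.add_apply, LinearMap.add_apply, ha0, hb0,
          hSR b hb a, zero_add, add_zero]
        exact CharTwo.add_self_eq_zero _
      zero_mem' := ⟨S.zero_mem, by simp⟩
      smul_mem' := by
        rintro c a ⟨ha, ha0⟩
        refine ⟨S.smul_mem c ha, ?_⟩
        rw [map_smul, map_smul, LinearMap.smul_apply, ha0, smul_zero, smul_zero] }
  have hKS : K ≤ S := fun x hx => hx.1
  have hKinv : Inv ρ K := fun g x hx => ⟨hSinv g x hx.1, by rw [hB g]; exact hx.2⟩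
  by_cases hK : K = ⊥
  · exfalso
    apply hSne
    rw [eq_bot_iff]
    intro x hx
    rw [Submodule.mem_bot]
    apply hfix
    intro g
    have hmem : ρ g x - x ∈ K := by
      refine ⟨S.sub_mem (hSinv g x hx) hx, ?_⟩
      rw [map_sub, map_sub, LinearMap.sub_apply, LinearMap.sub_apply, hB g,
        hSR x hx (ρ g x)]
      have h2 : (2 : F) = 0 := CharTwo.two_eq_zero
      have : B x x - B (ρ g x) x - (B (ρ g x) x - B x x) = 2 * (B x x - B (ρ g x) x) := by ring
      rw [this, h2, zero_mul]
    rw [hK, Submodule.mem_bot] at hmem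
    exact sub_eq_zero.mp hmem
  · have := hmin K hKS hK hKinv
    intro x hx
    have hx' : x ∈ K := by rw [this]; exact hx
    exact hx'.2

/-- the hyperbolic case: `V = S ⊕ S'` with `S` totally isotropic in the symmetric radical -/
theorem hyperbolic [CharP F 2] (ρ : Representation F G V) (B : LinearMap.BilinForm F V)
    (hB : FInv ρ B) (hV : ND B ⊤) {S S' : Submodule F V} (h : IsCompl S S')
    (hS : Inv ρ S) (hS' : Inv ρ S') (hSR : ∀ x ∈ S, ∀ y, B x y = B y x)
    (hiso : ∀ x ∈ S, ∀ y ∈ S, B x y = 0)
    (hpair : ∀ s' ∈ S', (∀ s ∈ S, B s s' = 0) → s' = 0) : AltND ρ := by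
  let C : LinearMap.BilinForm F V := B.compl₁₂ (S.projection S' h) (S'.projection S h.symm)
  have hC : ∀ x y, C x y = B (S.projection S' h x) (S'.projection S h.symm y) := fun x y => rfl
  have hA : ∀ x y, (C + C.flip) x y = C x y + C y x := fun x y => rfl
  refine ⟨C + C.flip, ?_, ?_, ?_⟩
  · intro x
    rw [hA]
    exact CharTwo.add_self_eq_zero _
  · intro g x y
    rw [hA, hA, hC, hC, hC, hC, proj_equivariant ρ h hS hS',
      proj_equivariant ρ h hS hS', proj_equivariant ρ h.symm hS' hS,
      proj_equivariant ρ h.symm hS' hS, hB, hB]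
  · intro x hx
    have hs' : S'.projection S h.symm x = 0 := by
      apply hpair _ (Submodule.projection_apply_mem h.symm x)
      intro t ht
      have := hx t
      rw [hA, hC, hC,
        Submodule.projection_apply_of_mem_right h.symm ht,
        Submodule.projection_apply_of_mem_left h ht, map_zero, zero_add] at this
      exact this
    have hs : S.projection S' h x = 0 := by
      have hsmem : S.projection S' h x ∈ S := Submodule.projection_apply_mem h x
      apply hV _ Submodule.mem_top
      intro y _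
      rw [← hSR _ hsmem y]
      have hy := Submodule.projection_add_projection_eq_self h y
      rw [← hy, map_add, hiso _ hsmem _ (Submodule.projection_apply_mem h y), zero_add]
      have := hx (S'.projection S h.symm y)
      rw [hA, hC, hC,
        Submodule.projection_apply_of_mem_left h.symm (Submodule.projection_apply_mem h.symm y),
        Submodule.projection_apply_of_mem_right h (Submodule.projection_apply_mem h.symm y),
        map_zero, LinearMap.zero_apply, add_zero] at this
      exact this
    rw [← Submodule.projection_add_projection_eq_self h x, hs, hs', add_zero]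

/-- the hypotheses pass to an invariant submodule on which the form is nondegenerate -/
theorem restrict_hyps (ρ : Representation F G V) (B : LinearMap.BilinForm F V) (hB : FInv ρ B)
    (X : Submodule F V) (hX : Inv ρ X) (hXnd : ND B X)
    (hfix : ∀ x, (∀ g, ρ g x = x) → x = 0) :
    FInv (subRep ρ X hX) (B.restrict X) ∧ ND (B.restrict X) ⊤ ∧
      (∀ x : X, (∀ g, subRep ρ X hX g x = x) → x = 0) := by
  refine ⟨?_, ?_, ?_⟩
  · intro g x y
    exact hB g x y
  · intro x _ hx
    apply Subtype.ext
    apply hXnd x x.2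
    intro y hy
    exact hx ⟨y, hy⟩ Submodule.mem_top
  · intro x hx
    apply Subtype.ext
    apply hfix
    intro g
    have := congrArg Subtype.val (hx g)
    exact this

/-- **Main recursion** (characteristic 2, odd order): a module without fixed points carrying a
nondegenerate invariant bilinear form carries a nondegenerate invariant alternating form. -/
theorem exists_alt [CharP F 2] [Finite G] [NeZero (Nat.card G : F)] :
    ∀ (n : ℕ) (V : Type w) [AddCommGroup V] [Module F V] [FiniteDimensional F V]
      (ρ : Representation F G V) (B : LinearMap.BilinForm F V), finrank F V = n →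
      FInv ρ B → ND B ⊤ → (∀ x, (∀ g, ρ g x = x) → x = 0) → AltND ρ := by
  intro n
  induction n using Nat.strong_induction_on with
  | _ n ih =>
  intro V _ _ _ ρ B hn hB hV hfix
  -- reduction step
  have reduce : ∀ P : Submodule F V, Inv ρ P → ND B P → P ≠ ⊥ → P ≠ ⊤ → AltND ρ := by
    intro P hP hPnd hPbot hPtop
    obtain ⟨hc, hQnd⟩ := split B hV P hPnd
    have hQ : Inv ρ (B.orthogonal P) := inv_orthogonal ρ B hB P hP
    have hQtop : B.orthogonal P ≠ ⊤ := by
      intro h
      apply hPbot
      have := hc.inf_eq_bot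
      rw [h, inf_top_eq] at this
      exact this
    obtain ⟨r1, r2, r3⟩ := restrict_hyps ρ B hB P hP hPnd hfix
    obtain ⟨q1, q2, q3⟩ := restrict_hyps ρ B hB _ hQ hQnd hfix
    have a1 := ih (finrank F P) (by rw [← hn]; exact Submodule.finrank_lt hPtop) P
      (subRep ρ P hP) (B.restrict P) rfl r1 r2 r3
    have a2 := ih (finrank F (B.orthogonal P)) (by rw [← hn]; exact Submodule.finrank_lt hQtop)
      _ (subRep ρ _ hQ) (B.restrict _) rfl q1 q2 q3
    exact assemble ρ hc hP hQ a1 a2
  -- the symmetric radical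
  let R : Submodule F V :=
    { carrier := {x | ∀ y, B x y = B y x}
      add_mem' := by
        intro a b ha hb y
        rw [map_add, LinearMap.add_apply, map_add, ha y, hb y]
      zero_mem' := by intro y; simp
      smul_mem' := by
        intro c a ha y
        rw [map_smul, LinearMap.smul_apply, map_smul, ha y] }
  have hRmem : ∀ x, x ∈ R ↔ ∀ y, B x y = B y x := fun x => Iff.rfl
  have hRinv : Inv ρ R := by
    intro g x hx
    rw [hRmem] at hx ⊢
    intro y
    have e1 : B (ρ g x) y = B x (ρ g⁻¹ y) := by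
      rw [← hB g x (ρ g⁻¹ y), rho_inv_apply]
    have e2 : B y (ρ g x) = B (ρ g⁻¹ y) x := by
      rw [← hB g (ρ g⁻¹ y) x, rho_inv_apply]
    rw [e1, e2, hx]
  by_cases hR : R = ⊥
  · refine ⟨B + B.flip, ?_, ?_, ?_⟩
    · intro x
      show B x x + B x x = 0
      exact CharTwo.add_self_eq_zero _
    · intro g x y
      show B (ρ g x) (ρ g y) + B (ρ g y) (ρ g x) = B x y + B y x
      rw [hB, hB]
    · intro x hx
      have : x ∈ R := by
        rw [hRmem]
        intro y
        have h1 : B x y + B y x = 0 := hx y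
        exact CharTwo.add_eq_zero.mp h1
      rw [hR] at this
      exact (Submodule.mem_bot F).mp this
  obtain ⟨S, hSR, hSne, hSinv, hmin⟩ := exists_minimal ρ R hRinv hR
  have hSR' : ∀ x ∈ S, ∀ y, B x y = B y x := fun x hx => hSR hx
  have halt := alt_on_minimal ρ B hB hfix S hSR' hSne hSinv hmin
  have hperp_inv := inv_orthogonal ρ B hB S hSinv
  have hcase : S ⊓ B.orthogonal S = ⊥ ∨ S ⊓ B.orthogonal S = S := by
    by_cases h0 : S ⊓ B.orthogonal S = ⊥
    · left; exact h0
    · right; exact hmin _ inf_le_left h0 (inv_inf ρ hSinv hperp_inv)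
  rcases hcase with h1 | h2
  · -- Case 1
    have hSnd : ND B S := by
      intro x hx hxy
      have : x ∈ S ⊓ B.orthogonal S := ⟨hx, LinearMap.BilinForm.mem_orthogonal_iff.mpr hxy⟩
      rw [h1] at this
      exact (Submodule.mem_bot F).mp this
    by_cases hStop : S = ⊤
    · have hall : ∀ x : V, x ∈ S := fun x => hStop ▸ Submodule.mem_top
      refine ⟨B, ?_, hB, ?_⟩
      · intro x
        exact halt x (hall x)
      · intro x hx
        apply hV x Submodule.mem_top
        intro y _
        rw [← hSR' x (hall x) y]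
        exact hx y
    · exact reduce S hSinv hSnd hSne hStop
  · -- Case 2
    have hle : S ≤ B.orthogonal S := inf_eq_left.mp h2
    obtain ⟨S', hc', hS'inv⟩ := exists_inv_compl ρ (B.orthogonal S) hperp_inv
    have hpair : ∀ s' ∈ S', (∀ s ∈ S, B s s' = 0) → s' = 0 := by
      intro s' hs' h
      have : s' ∈ B.orthogonal S ⊓ S' := ⟨LinearMap.BilinForm.mem_orthogonal_iff.mpr h, hs'⟩
      rw [hc'.inf_eq_bot] at this
      exact (Submodule.mem_bot F).mp this
    have hiso : ∀ x ∈ S, ∀ y ∈ S, B x y = 0 := fun x hx y hy =>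
      LinearMap.BilinForm.mem_orthogonal_iff.mp (hle hy) x hx
    have hPnd : ND B (S ⊔ S') := by
      intro v hv hvy
      obtain ⟨s, hs, s', hs', rfl⟩ := Submodule.mem_sup.mp hv
      have hs'0 : s' = 0 := by
        apply hpair s' hs'
        intro t ht
        have := hvy t (Submodule.mem_sup_left ht)
        rw [map_add, hiso t ht s hs, zero_add] at this
        exact this
      subst hs'0
      rw [add_zero] at hvy ⊢
      apply hV s Submodule.mem_top
      intro y _
      have hy : y ∈ B.orthogonal S ⊔ S' := by rw [hc'.sup_eq_top]; exact Submodule.mem_top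
      obtain ⟨a, ha, b, hb, rfl⟩ := Submodule.mem_sup.mp hy
      rw [map_add, LinearMap.add_apply, hvy b (Submodule.mem_sup_right hb), add_zero,
        ← hSR' s hs a]
      exact LinearMap.BilinForm.mem_orthogonal_iff.mp ha s hs
    by_cases hPtop : S ⊔ S' = ⊤
    · have hcSS' : IsCompl S S' := by
        refine ⟨disjoint_iff.mpr ?_, codisjoint_iff.mpr hPtop⟩
        rw [eq_bot_iff, ← hc'.inf_eq_bot]
        exact inf_le_inf_right S' hle
      exact hyperbolic ρ B hB hV hcSS' hSinv hS'inv hSR' hiso hpair
    · exact reduce (S ⊔ S') (inv_sup ρ hSinv hS'inv) hPnd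
        (fun h => hSne (eq_bot_iff.mpr (h ▸ le_sup_left))) hPtop

/-- the fixed subspace of a representation -/
def fixedSub (ρ : Representation F G V) : Submodule F V where
  carrier := {v | ∀ g, ρ g v = v}
  add_mem' := by
    intro a b ha hb g
    rw [map_add, ha g, hb g]
  zero_mem' := by
    intro g
    rw [map_zero]
  smul_mem' := by
    intro c a ha g
    rw [map_smul, ha g]

theorem mem_fixedSub (ρ : Representation F G V) (v : V) : v ∈ fixedSub ρ ↔ ∀ g, ρ g v = v :=
  Iff.rfl

theorem fixedSub_inv (ρ : Representation F G V) : Inv ρ (fixedSub ρ) := by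
  intro g x hx
  rw [hx g]
  exact hx

/-- the form is nondegenerate on the fixed subspace (averaging) -/
theorem fixedSub_nd [Finite G] (hG : (Nat.card G : F) ≠ 0) (ρ : Representation F G V)
    (B : LinearMap.BilinForm F V) (hB : FInv ρ B) (hV : ND B ⊤) : ND B (fixedSub ρ) := by
  intro c hc hcy
  apply hV c Submodule.mem_top
  intro v _
  haveI := Fintype.ofFinite G
  have hmem : (∑ g : G, ρ g v) ∈ fixedSub ρ := by
    intro h
    rw [map_sum]
    have : ∀ g : G, ρ h (ρ g v) = ρ (h * g) v := by
      intro g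
      rw [map_mul, Module.End.mul_apply]
    simp_rw [this]
    exact Fintype.sum_bijective (fun g => h * g) (Group.mulLeft_bijective h) _ _ (fun g => rfl)
  have h1 := hcy _ hmem
  rw [map_sum, LinearMap.sum_apply] at h1
  have h2 : ∀ g : G, B (ρ g v) c = B v c := by
    intro g
    conv_lhs => rw [← hc g]
    exact hB g v c
  simp_rw [h2] at h1
  rw [Finset.sum_const, Finset.card_univ, nsmul_eq_mul, ← Nat.card_eq_fintype_card] at h1
  exact (mul_eq_zero.mp h1).resolve_left hG

/-- every finite-dimensional space carries a nondegenerate symmetric bilinear form -/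
theorem exists_symm_nondeg (X : Type*) [AddCommGroup X] [Module F X] [FiniteDimensional F X] :
    ∃ D : LinearMap.BilinForm F X, (∀ x y, D x y = D y x) ∧ ∀ x, (∀ y, D x y = 0) → x = 0 := by
  let b := Module.finBasis F X
  let D : LinearMap.BilinForm F X := ∑ i, (b.coord i).smulRight (b.coord i)
  have hD : ∀ x y, D x y = ∑ i, b.repr x i * b.repr y i := by
    intro x y
    simp [D, LinearMap.sum_apply]
  refine ⟨D, fun x y => by rw [hD, hD]; exact Finset.sum_congr rfl (fun i _ => mul_comm _ _), ?_⟩
  intro x hx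
  apply b.repr.injective
  ext j
  have := hx (b j)
  rw [hD] at this
  simp only [Basis.repr_self, map_zero, Finsupp.coe_zero, Pi.zero_apply] at this ⊢
  rw [Finset.sum_eq_single j] at this
  · simpa using this
  · intro i _ hij
    rw [Finsupp.single_apply, if_neg (Ne.symm hij), mul_zero]
  · intro h
    exact absurd (Finset.mem_univ j) h

/-- **Characteristic 2 case** of the decomposition of a self-dual module. -/
theorem char_two_case [CharP F 2] [Finite G] (hG : (Nat.card G : F) ≠ 0)
    [FiniteDimensional F V] (ρ : Representation F G V) (B : LinearMap.BilinForm F V)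
    (hB : FInv ρ B) (hV : ND B ⊤) :
    ∃ U W : Submodule F V, IsCompl U W ∧ Inv ρ U ∧ Inv ρ W ∧
      (∃ A : LinearMap.BilinForm F V, (∀ x, A x x = 0) ∧
        (∀ g, ∀ x ∈ U, ∀ y ∈ U, A (ρ g x) (ρ g y) = A x y) ∧
        (∀ x ∈ U, (∀ y ∈ U, A x y = 0) → x = 0)) ∧
      (∃ S : LinearMap.BilinForm F V, (∀ x y, S x y = S y x) ∧
        (∀ g, ∀ x ∈ W, ∀ y ∈ W, S (ρ g x) (ρ g y) = S x y) ∧
        (∀ x ∈ W, (∀ y ∈ W, S x y = 0) → x = 0)) ∧
      (∀ g, ∀ w ∈ W, ρ g w = w) := by
  haveI : NeZero (Nat.card G : F) := ⟨hG⟩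
  have hCinv := fixedSub_inv ρ
  have hCnd := fixedSub_nd hG ρ B hB hV
  obtain ⟨hc, hQnd⟩ := split B hV (fixedSub ρ) hCnd
  have hQ : Inv ρ (B.orthogonal (fixedSub ρ)) := inv_orthogonal ρ B hB _ hCinv
  have hfixQ : ∀ x : B.orthogonal (fixedSub ρ), (∀ g, subRep ρ _ hQ g x = x) → x = 0 := by
    intro x hx
    apply Subtype.ext
    have h1 : (x : V) ∈ fixedSub ρ := fun g => congrArg Subtype.val (hx g)
    have : (x : V) ∈ fixedSub ρ ⊓ B.orthogonal (fixedSub ρ) := ⟨h1, x.2⟩
    rw [hc.inf_eq_bot] at this
    exact (Submodule.mem_bot F).mp this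
  have hBQ : FInv (subRep ρ _ hQ) (B.restrict (B.orthogonal (fixedSub ρ))) := fun g x y => hB g x y
  have hNDQ : ND (B.restrict (B.orthogonal (fixedSub ρ))) ⊤ := by
    intro x _ hx
    apply Subtype.ext
    apply hQnd x x.2
    intro y hy
    exact hx ⟨y, hy⟩ Submodule.mem_top
  obtain ⟨A', ha, hi, hn⟩ := exists_alt (F := F) (G := G) _ _ (subRep ρ _ hQ)
    (B.restrict (B.orthogonal (fixedSub ρ))) rfl hBQ hNDQ hfixQ
  obtain ⟨L, hLa, hLi, hLn, -⟩ := lift_form ρ hc.symm hQ hCinv A' ha hi hn
  obtain ⟨D, hDs, hDn⟩ := exists_symm_nondeg (F := F) (fixedSub ρ)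
  refine ⟨B.orthogonal (fixedSub ρ), fixedSub ρ, hc.symm, hQ, hCinv, ⟨L, hLa, ?_, ?_⟩,
    ⟨D.compl₁₂ ((fixedSub ρ).projectionOnto _ hc) ((fixedSub ρ).projectionOnto _ hc), ?_, ?_, ?_⟩,
    ?_⟩
  · intro g x _ y _
    exact hLi g x y
  · intro x hx hxy
    have := hLn x hxy
    rw [Submodule.projectionOnto_apply_of_mem_left hc.symm hx] at this
    exact congrArg Subtype.val this
  · intro x y
    rw [LinearMap.compl₁₂_apply, LinearMap.compl₁₂_apply, hDs]
  · intro g x hx y hy
    rw [hx g, hy g]
  · intro x hx hxy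
    have h0 : (fixedSub ρ).projectionOnto _ hc x = 0 := by
      apply hDn
      intro y
      have := hxy y y.2
      rw [LinearMap.compl₁₂_apply, Submodule.projectionOnto_apply_left] at this
      exact this
    rw [Submodule.projectionOnto_apply_of_mem_left hc hx] at h0
    exact congrArg Subtype.val h0
  · intro g w hw
    exact hw g

end Cfsg.Agent.Lib.Helper69.SelfDual
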