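import Mathlib
import Cfsg.Prelude.Def_Local
import Cfsg.Agent.Lib.Helper41.RelCores
import Cfsg.Agent.Lib.Helper29.LocalCore
import Cfsg.Agent.Lib.Helper29.QPrimeCore
import Cfsg.Agent.Lib.Helper15.Lifting
import Cfsg.Agent.Lib.Helper54.FStarAct
import Cfsg.Agent.S0028

/-!
Relative cores `O_{q'}(A)`, `O_{q',q}(A)` of subgroups `A` of a finite group, and the
control of `O_{q'}` of centralizers in a group `G = H P` with `H = O_{p'}(G)` and `[H,P]` solvable.
-/

set_option autoImplicit false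

namespace Cfsg.Agent.Lib.Helper69.Signalizer

open Cfsg
open scoped commutatorElement

variable {G : Type*} [Group G]

local notation "rc[" q "," A "]" => Subgroup.map (Subgroup.subtype A) (pPrimeCore q ↥A)
local notation "rcc[" q "," A "]" => Subgroup.map (Subgroup.subtype A) (pPrimePCore q ↥A)

theorem rc_le (q : ℕ) (A : Subgroup G) : rc[q, A] ≤ A := Subgroup.map_subtype_le _

theorem rcc_le (q : ℕ) (A : Subgroup G) : rcc[q, A] ≤ A := Subgroup.map_subtype_le _

theorem rc_le_rcc (q : ℕ) (A : Subgroup G) : rc[q, A] ≤ rcc[q, A] :=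
  Cfsg.Agent.Lib.Helper41.relPPrimeCore_le_relPPrimePCore A

theorem rc_coprime [Finite G] (q : ℕ) (A : Subgroup G) : (Nat.card rc[q, A]).Coprime q :=
  Cfsg.Agent.Lib.Helper41.card_relPPrimeCore_coprime A

theorem le_rc [Finite G] {q : ℕ} {A B : Subgroup G} (hBA : B ≤ A)
    (hn : A ≤ Subgroup.normalizer (B : Set G)) (hc : (Nat.card B).Coprime q) : B ≤ rc[q, A] := by
  apply Cfsg.Agent.Lib.Helper41.le_relPPrimeCore hBA _ hc
  intro x n hx hnA
  exact (Subgroup.mem_normalizer_iff.mp (hn hnA) x).mp hx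

theorem normalizer_le_normalizer_rc (q : ℕ) (A : Subgroup G) :
    Subgroup.normalizer (A : Set G) ≤ Subgroup.normalizer ((rc[q, A] : Subgroup G) : Set G) :=
  Cfsg.Agent.Lib.Helper29.normalizer_le_normalizer_map_pPrimeCore q A

theorem normalizer_le_normalizer_rcc (q : ℕ) (A : Subgroup G) :
    Subgroup.normalizer (A : Set G) ≤ Subgroup.normalizer ((rcc[q, A] : Subgroup G) : Set G) :=
  Cfsg.Agent.Lib.Helper29.normalizer_le_normalizer_map_pPrimePCore q A

theorem le_normalizer_rc (q : ℕ) (A : Subgroup G) :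
    A ≤ Subgroup.normalizer ((rc[q, A] : Subgroup G) : Set G) :=
  Subgroup.le_normalizer.trans (normalizer_le_normalizer_rc q A)

theorem rc_normal (q : ℕ) (A : Subgroup G) [hA : A.Normal] : (rc[q, A] : Subgroup G).Normal := by
  rw [← Subgroup.normalizer_eq_top_iff]
  have h := normalizer_le_normalizer_rc q A
  rw [Subgroup.normalizer_eq_top_iff.mpr hA] at h
  exact top_le_iff.mp h

theorem rcc_normal (q : ℕ) (A : Subgroup G) [hA : A.Normal] : (rcc[q, A] : Subgroup G).Normal := by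
  rw [← Subgroup.normalizer_eq_top_iff]
  have h := normalizer_le_normalizer_rcc q A
  rw [Subgroup.normalizer_eq_top_iff.mpr hA] at h
  exact top_le_iff.mp h

/-- a `q'`-subgroup of `O_{q',q}(A)` lies in `O_{q'}(A)` -/
theorem le_rc_of_le_rcc [Finite G] {q : ℕ} [Fact q.Prime] {A B : Subgroup G}
    (hB : B ≤ rcc[q, A]) (hc : (Nat.card B).Coprime q) : B ≤ rc[q, A] := by
  have hBA : B ≤ A := hB.trans (rcc_le q A)
  have h1 : B.subgroupOf A ≤ pPrimePCore q ↥A := by
    intro x hx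
    have hx' : (x : G) ∈ B := hx
    obtain ⟨y, hy, hyx⟩ := hB hx'
    have : y = x := Subtype.ext hyx
    rwa [this] at hy
  have h2 : (Nat.card (B.subgroupOf A)).Coprime q := by
    rw [Nat.card_congr (Subgroup.subgroupOfEquivOfLe hBA).toEquiv]
    exact hc
  have h3 := Cfsg.Agent.Lib.Helper29.le_pPrimeCore_of_le_pPrimePCore q _ h1 h2
  intro b hb
  exact ⟨⟨b, hBA hb⟩, h3 (show (⟨b, hBA hb⟩ : A) ∈ B.subgroupOf A from hb), rfl⟩

/-- elements of `O_{q',q}(A)` have `q`-power order modulo `O_{q'}(A)` -/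
theorem rcc_pow_mem [Finite G] {q : ℕ} [Fact q.Prime] {A : Subgroup G} {t : G}
    (ht : t ∈ rcc[q, A]) : ∃ k : ℕ, t ^ q ^ k ∈ rc[q, A] := by
  obtain ⟨t', ht', rfl⟩ := ht
  have h1 : QuotientGroup.mk' (pPrimeCore q ↥A) t' ∈ pCore q (↥A ⧸ pPrimeCore q ↥A) := ht'
  have h2 : IsPGroup q ↥(pCore q (↥A ⧸ pPrimeCore q ↥A)) :=
    Cfsg.Agent.Lib.Helper28.pCore_isPGroup q
  obtain ⟨k, hk⟩ := h2 ⟨_, h1⟩
  refine ⟨k, ⟨t' ^ q ^ k, ?_, by simp⟩⟩
  have h3 : (QuotientGroup.mk' (pPrimeCore q ↥A) t') ^ q ^ k = 1 := by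
    have := congrArg Subtype.val hk
    simpa using this
  rw [← map_pow] at h3
  exact (QuotientGroup.eq_one_iff _).mp h3

/-- Hall--Higman 1.2.3 in relative form: in a solvable `A`, a subgroup of `A` centralizing
`O_{q',q}(A)/O_{q'}(A)` lies in `O_{q',q}(A)`. -/
theorem le_rcc_of_commutator_le [Finite G] {q : ℕ} [Fact q.Prime] {A U : Subgroup G}
    (hs : Group.IsSolvable ↥A) (hUA : U ≤ A) (hc : ⁅U, rcc[q, A]⁆ ≤ rc[q, A]) :
    U ≤ rcc[q, A] := by
  set π := QuotientGroup.mk' (pPrimeCore q ↥A) with hπ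
  have hs' : Group.IsSolvable (↥A ⧸ pPrimeCore q ↥A) :=
    Group.isSolvable_of_surjective (QuotientGroup.mk'_surjective (pPrimeCore q ↥A))
  have hF : Cfsg.Agent.Lib.Helper28.FStarP q (↥A ⧸ pPrimeCore q ↥A) :=
    Cfsg.Agent.Lib.Helper29.fStarP_of_solvable q hs'
      (Cfsg.Agent.Lib.Helper29.pPrimeCore_quotient_eq_bot q)
  have hFR := Cfsg.Agent.Lib.Helper28.fStarP_genFitting_eq q hF
  have h1 : (U.subgroupOf A).map π ≤ Subgroup.centralizer
      ((generalizedFittingSubgroup (↥A ⧸ pPrimeCore q ↥A) : Subgroup _) : Set _) := by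
    rw [hFR]
    rintro _ ⟨u, hu, rfl⟩
    rw [Subgroup.mem_centralizer_iff]
    intro y hy
    obtain ⟨x, rfl⟩ := QuotientGroup.mk'_surjective (pPrimeCore q ↥A) y
    have hx : x ∈ pPrimePCore q ↥A := hy
    have hu' : (u : G) ∈ U := hu
    have hx' : (x : G) ∈ rcc[q, A] := ⟨x, hx, rfl⟩
    obtain ⟨w, hw, hwe⟩ := hc (Subgroup.commutator_mem_commutator hu' hx')
    have h2 : u * x * u⁻¹ * x⁻¹ ∈ pPrimeCore q ↥A := by
      have : w = u * x * u⁻¹ * x⁻¹ := by
        apply Subtype.ext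
        rw [show (A.subtype w : G) = (w : G) from rfl] at hwe
        rw [hwe, commutatorElement_def]
        simp
      rwa [this] at hw
    have h3 : π (u * x * u⁻¹ * x⁻¹) = 1 := (QuotientGroup.eq_one_iff _).mpr h2
    rw [map_mul, map_mul, map_mul, map_inv, map_inv] at h3
    calc π x * π u = (π u * π x * (π u)⁻¹ * (π x)⁻¹)⁻¹ * (π u * π x) := by group
      _ = π u * π x := by rw [h3]; group
  have h2 := h1.trans Cfsg.Agent.Lib.Helper28.centralizer_genFitting_le
  rw [hFR] at h2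
  intro u hu
  have h3 : π ⟨u, hUA hu⟩ ∈ pCore q (↥A ⧸ pPrimeCore q ↥A) :=
    h2 (Subgroup.mem_map_of_mem _ (show (⟨u, hUA hu⟩ : A) ∈ U.subgroupOf A from hu))
  exact ⟨⟨u, hUA hu⟩, h3, rfl⟩

/-- the subgroup of elements of `G` centralizing `T N / N` -/
def centMod (N T : Subgroup G) [N.Normal] : Subgroup G :=
  (Subgroup.centralizer ((T.map (QuotientGroup.mk' N) : Subgroup (G ⧸ N)) : Set (G ⧸ N))).comap
    (QuotientGroup.mk' N)

theorem mem_centMod {N T : Subgroup G} [N.Normal] {d : G} :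
    d ∈ centMod N T ↔ ∀ t ∈ T, ⁅d, t⁆ ∈ N := by
  unfold centMod
  rw [Subgroup.mem_comap, Subgroup.mem_centralizer_iff]
  constructor
  · intro h t ht
    have h1 := h _ (Subgroup.mem_map_of_mem _ ht)
    have h2 : (QuotientGroup.mk' N) ⁅d, t⁆ = 1 := by
      rw [map_commutatorElement, commutatorElement_eq_one_iff_commute]
      exact h1.symm
    exact (QuotientGroup.eq_one_iff _).mp h2
  · rintro h _ ⟨t, ht, rfl⟩
    have h2 : (QuotientGroup.mk' N) ⁅d, t⁆ = 1 := (QuotientGroup.eq_one_iff _).mpr (h t ht)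
    rw [map_commutatorElement, commutatorElement_eq_one_iff_commute] at h2
    exact h2.eq.symm

theorem le_centMod_iff {N T X : Subgroup G} [N.Normal] : X ≤ centMod N T ↔ ⁅X, T⁆ ≤ N := by
  rw [Subgroup.commutator_le]
  constructor
  · intro h x hx t ht
    exact mem_centMod.mp (h hx) t ht
  · intro h x hx
    exact mem_centMod.mpr (fun t ht => h x hx t ht)

instance centMod_normal (N T : Subgroup G) [N.Normal] [T.Normal] : (centMod N T).Normal := by
  unfold centMod
  haveI : (T.map (QuotientGroup.mk' N)).Normal :=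
    Subgroup.Normal.map inferInstance _ (QuotientGroup.mk'_surjective N)
  exact Subgroup.Normal.comap inferInstance _

/-- if `[X, B] ≤ N` with `N` normal then `B` normalizes `X N` -/
theorem le_normalizer_sup_of_commutator_le {X B N : Subgroup G} [N.Normal] (h : ⁅X, B⁆ ≤ N) :
    B ≤ Subgroup.normalizer ((X ⊔ N : Subgroup G) : Set G) := by
  have key : ∀ b ∈ B, ∀ s ∈ X ⊔ N, b * s * b⁻¹ ∈ X ⊔ N := by
    intro b hb s hs
    have h0 : (X ⊔ N).map (MulAut.conj b).toMonoidHom ≤ X ⊔ N := by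
      rw [Subgroup.map_sup, sup_le_iff]
      constructor
      · rintro _ ⟨x, hx, rfl⟩
        show b * x * b⁻¹ ∈ X ⊔ N
        have h1 : ⁅x, b⁆ ∈ N := h (Subgroup.commutator_mem_commutator hx hb)
        have e : b * x * b⁻¹ = ⁅x, b⁆⁻¹ * x := by rw [commutatorElement_def]; group
        rw [e]
        exact Subgroup.mul_mem _ (Subgroup.mem_sup_right (N.inv_mem h1)) (Subgroup.mem_sup_left hx)
      · rintro _ ⟨n, hn, rfl⟩
        exact Subgroup.mem_sup_right (Subgroup.Normal.conj_mem inferInstance n hn b)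
    exact h0 ⟨s, hs, rfl⟩
  intro b hb
  rw [Subgroup.mem_normalizer_iff]
  intro s
  refine ⟨key b hb s, fun hs => ?_⟩
  have := key b⁻¹ (B.inv_mem hb) _ hs
  have e : b⁻¹ * (b * s * b⁻¹) * b⁻¹⁻¹ = s := by group
  rwa [e] at this

/-- the `P × Q` step: a `q`-element `z` and a `q'`-group `Y` commuting with it act on the
`q`-section `T/N`; if `Y` centralizes `C_T(z)` modulo `N` then it centralizes `T` modulo `N`. -/
theorem commutator_le_of_pq [Finite G] {q : ℕ} [Fact q.Prime] {N T Y : Subgroup G} [N.Normal]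
    [T.Normal] (hN : (Nat.card N).Coprime q) (hNT : N ≤ T)
    (hT : ∀ t ∈ T, ∃ k : ℕ, t ^ q ^ k ∈ N) {z : G} (hz : IsPGroup q (Subgroup.zpowers z))
    (hYz : Y ≤ Subgroup.centralizer ({z} : Set G)) (hY : (Nat.card Y).Coprime q)
    (hc : ⁅T ⊓ Subgroup.centralizer ({z} : Set G), Y⁆ ≤ N) : ⁅T, Y⁆ ≤ N := by
  set π := QuotientGroup.mk' N with hπ
  have hP : IsPGroup q (Subgroup.zpowers (π z)) := by
    rw [← MonoidHom.map_zpowers]
    exact hz.map π
  have hQ : (Nat.card (Y.map π)).Coprime q :=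
    Nat.Coprime.coprime_dvd_left (Subgroup.card_map_dvd _ _) hY
  have hU : IsPGroup q (T.map π) := by
    rintro ⟨_, t, ht, rfl⟩
    obtain ⟨k, hk⟩ := hT t ht
    refine ⟨k, Subtype.ext ?_⟩
    have : (π t) ^ q ^ k = 1 := by
      rw [← map_pow]
      exact (QuotientGroup.eq_one_iff _).mpr hk
    simpa using this
  haveI hTn : (T.map π).Normal :=
    Subgroup.Normal.map inferInstance π (QuotientGroup.mk'_surjective N)
  have hPQ : Subgroup.zpowers (π z) ≤ Subgroup.centralizer ((Y.map π : Subgroup (G ⧸ N)) : Set (G ⧸ N)) := by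
    rw [Subgroup.zpowers_le, Subgroup.mem_centralizer_iff]
    rintro _ ⟨y, hy, rfl⟩
    have h1 := Subgroup.mem_centralizer_iff.mp (hYz hy) z rfl
    rw [← map_mul, ← map_mul, h1]
  have hPU : Subgroup.zpowers (π z) ≤ Subgroup.normalizer ((T.map π : Subgroup (G ⧸ N)) : Set (G ⧸ N)) :=
    Subgroup.le_normalizer_of_normal
  have hQU : Y.map π ≤ Subgroup.normalizer ((T.map π : Subgroup (G ⧸ N)) : Set (G ⧸ N)) :=
    Subgroup.le_normalizer_of_normal
  have hC : T.map π ⊓ Subgroup.centralizer ((Subgroup.zpowers (π z) : Subgroup (G ⧸ N)) : Set (G ⧸ N)) ≤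
      Subgroup.centralizer ((Y.map π : Subgroup (G ⧸ N)) : Set (G ⧸ N)) := by
    rintro x ⟨hxT, hxz⟩
    have hlift := Cfsg.Agent.Lib.Helper15.centralizer_map_mk_of_coprime N hN (Subgroup.zpowers z) hz
    rw [MonoidHom.map_zpowers] at hlift
    rw [SetLike.mem_coe, hlift] at hxz
    obtain ⟨c, hc', rfl⟩ := hxz
    obtain ⟨t, ht, hte⟩ := hxT
    have hcT : c ∈ T := by
      have h1 : t⁻¹ * c ∈ N := QuotientGroup.eq.mp hte
      have h2 : c = t * (t⁻¹ * c) := by group
      rw [h2]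
      exact T.mul_mem ht (hNT h1)
    have hcz : c ∈ Subgroup.centralizer ({z} : Set G) := by
      rw [SetLike.mem_coe, Subgroup.mem_centralizer_iff] at hc'
      rw [Subgroup.mem_centralizer_iff]
      intro h hh
      rw [Set.mem_singleton_iff] at hh
      subst hh
      exact hc' h (Subgroup.mem_zpowers h)
    rw [Subgroup.mem_centralizer_iff]
    rintro _ ⟨y, hy, rfl⟩
    have h1 : ⁅c, y⁆ ∈ N := hc (Subgroup.commutator_mem_commutator ⟨hcT, hcz⟩ hy)
    have h2 : π ⁅c, y⁆ = 1 := (QuotientGroup.eq_one_iff _).mpr h1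
    rw [map_commutatorElement, commutatorElement_eq_one_iff_commute] at h2
    exact h2.eq.symm
  have hres := Cfsg.Agent.S0028.result q (Subgroup.zpowers (π z)) (Y.map π) (T.map π) hP hQ hU
    hPQ hPU hQU hC
  rw [Subgroup.commutator_le]
  intro t ht y hy
  have h1 := hres (Subgroup.mem_map_of_mem π hy)
  rw [Subgroup.mem_centralizer_iff] at h1
  have h2 := h1 _ (Subgroup.mem_map_of_mem π ht)
  have h3 : π ⁅t, y⁆ = 1 := by
    rw [map_commutatorElement, commutatorElement_eq_one_iff_commute]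
    exact h2
  exact (QuotientGroup.eq_one_iff _).mp h3

/-- **Control of cores of centralizers** in `G = H P`, `H` a normal `p'`-subgroup, `P` a `p`-group,
`[H, P]` solvable, `z` a `q`-element of `C_H(P)`:
`(O_{q'}(C_H(z)) ∩ O_{q'}(C_H(P))) [O_{q'}(C_H(z)), P] ≤ O_{q'}(H)`. -/
theorem core_control [Finite G] {p q : ℕ} [Fact p.Prime] [Fact q.Prime]
    (H P : Subgroup G) [hHn : H.Normal] (hHp : (Nat.card H).Coprime p) (hP : IsPGroup p P)
    (hHP : H ⊔ P = ⊤) (hsol : Group.IsSolvable ↥⁅H, P⁆) (z : G) (hzH : z ∈ H)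
    (hzP : z ∈ Subgroup.centralizer (P : Set G)) (hz : IsPGroup q (Subgroup.zpowers z)) :
    (rc[q, H ⊓ Subgroup.centralizer ({z} : Set G)] ⊓
        rc[q, H ⊓ Subgroup.centralizer (P : Set G)]) ⊔
      ⁅rc[q, H ⊓ Subgroup.centralizer ({z} : Set G)], P⁆ ≤ rc[q, H] := by
  set K : Subgroup G := ⁅H, P⁆ with hK
  haveI hKn : K.Normal := by
    rw [← Subgroup.normalizer_eq_top_iff]
    apply top_le_iff.mp
    rw [← hHP]
    exact sup_le (Subgroup.normalizer_commutator_ge_left H P) (Subgroup.normalizer_commutator_ge_right H P)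
  have hKH : K ≤ H := Subgroup.commutator_le_left H P
  set N : Subgroup G := rc[q, K] with hN
  set T : Subgroup G := rcc[q, K] with hT
  haveI hNn : N.Normal := rc_normal q K
  haveI hTn : T.Normal := rcc_normal q K
  have hNT : N ≤ T := rc_le_rcc q K
  have hTK : T ≤ K := rcc_le q K
  have hNc : (Nat.card N).Coprime q := rc_coprime q K
  have hNH : N ≤ H := hNT.trans (hTK.trans hKH)
  have hNR : N ≤ rc[q, H] := le_rc hNH Subgroup.le_normalizer_of_normal hNc
  set CHz : Subgroup G := H ⊓ Subgroup.centralizer ({z} : Set G) with hCHz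
  set CHP : Subgroup G := H ⊓ Subgroup.centralizer (P : Set G) with hCHP
  set Y : Subgroup G := rc[q, CHz] with hYdef
  set W : Subgroup G := rc[q, CHP] with hWdef
  have hYc : (Nat.card Y).Coprime q := rc_coprime q CHz
  have hWc : (Nat.card W).Coprime q := rc_coprime q CHP
  have hYH : Y ≤ H := (rc_le q CHz).trans inf_le_left
  have hYz : Y ≤ Subgroup.centralizer ({z} : Set G) := (rc_le q CHz).trans inf_le_right
  have hPz : P ≤ Subgroup.centralizer ({z} : Set G) := by
    intro g hg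
    rw [Subgroup.mem_centralizer_iff]
    intro h hh
    rw [Set.mem_singleton_iff] at hh
    subst hh
    exact ((Subgroup.mem_centralizer_iff.mp hzP) g hg).symm
  have hCzn : Subgroup.centralizer ({z} : Set G) ≤ Subgroup.normalizer (CHz : Set G) :=
    le_trans (le_inf Subgroup.le_normalizer_of_normal Subgroup.le_normalizer)
      Subgroup.inf_normalizer_le_normalizer_inf
  have hPY : P ≤ Subgroup.normalizer (Y : Set G) :=
    hPz.trans (hCzn.trans (normalizer_le_normalizer_rc q CHz))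
  have hCHzY : CHz ≤ Subgroup.normalizer (Y : Set G) := le_normalizer_rc q CHz
  -- step 2
  have hB : Y ⊓ T ≤ N :=
    le_rc_of_le_rcc inf_le_right
      (Nat.Coprime.coprime_dvd_left (Subgroup.card_dvd_of_le inf_le_left) hYc)
  have h2a : ⁅T ⊓ Subgroup.centralizer ({z} : Set G), Y⁆ ≤ N := by
    refine le_trans (le_inf ?_ ?_) hB
    · have h1 : T ⊓ Subgroup.centralizer ({z} : Set G) ≤ Subgroup.normalizer (Y : Set G) :=
        (inf_le_inf_right _ (hTK.trans hKH)).trans hCHzY
      exact Subgroup.le_normalizer_iff_commutator_le_right.mp h1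
    · exact (Subgroup.commutator_mono inf_le_left le_rfl).trans (Subgroup.commutator_le_left T Y)
  have h2 : ⁅T, Y⁆ ≤ N :=
    commutator_le_of_pq hNc hNT (fun t ht => rcc_pow_mem ht) hz hYz hYc h2a
  -- step 3
  set D : Subgroup G := H ⊓ centMod N T with hD
  haveI hDn : D.Normal := Subgroup.normal_inf_normal H (centMod N T)
  have hYD : Y ≤ D :=
    le_inf hYH (le_centMod_iff.mpr (by rw [Subgroup.commutator_comm]; exact h2))
  have hDT : ⁅D, T⁆ ≤ N := le_centMod_iff.mp inf_le_right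
  have hDK : D ⊓ K ≤ T :=
    le_rcc_of_commutator_le hsol inf_le_right
      ((Subgroup.commutator_mono inf_le_left le_rfl).trans hDT)
  have hDP : ⁅D, P⁆ ≤ D ⊓ T := by
    have h1 : ⁅D, P⁆ ≤ D := Subgroup.commutator_le_left D P
    have h3 : ⁅D, P⁆ ≤ K := Subgroup.commutator_mono inf_le_left le_rfl
    exact le_inf h1 ((le_inf h1 h3).trans hDK)
  -- step 4
  have h4 : ⁅Y, P⁆ ≤ N := by
    refine le_trans (le_inf ?_ ?_) hB
    · exact Subgroup.le_normalizer_iff_commutator_le_left.mp hPY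
    · exact (Subgroup.commutator_mono hYD le_rfl).trans (hDP.trans inf_le_right)
  -- step 5
  have hX₁c : (Nat.card (W ⊓ D : Subgroup G)).Coprime q :=
    Nat.Coprime.coprime_dvd_left (Subgroup.card_dvd_of_le inf_le_left) hWc
  have hSc : (Nat.card ((W ⊓ D) ⊔ N : Subgroup G)).Coprime q :=
    Cfsg.Agent.Lib.Helper40.card_sup_coprime' q (W ⊓ D) N hX₁c hNc
  have hND : N ≤ D := le_inf hNH (le_centMod_iff.mpr (Subgroup.commutator_le_left N T))
  have hSD : (W ⊓ D) ⊔ N ≤ D := sup_le inf_le_right hND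
  have hDcop : (Nat.card D).Coprime p :=
    Nat.Coprime.coprime_dvd_left (Subgroup.card_dvd_of_le inf_le_left) hHp
  have hDdec : ⁅D, P⁆ ⊔ (D ⊓ Subgroup.centralizer (P : Set G)) = D :=
    Cfsg.Agent.Lib.Helper54.commutator_sup_inf_centralizer_of_coprime hP hDcop
      Subgroup.le_normalizer_of_normal
  have hDnorm : D ≤ Subgroup.normalizer (((W ⊓ D) ⊔ N : Subgroup G) : Set G) := by
    refine le_trans hDdec.ge (sup_le ?_ ?_)
    · apply le_normalizer_sup_of_commutator_le
      exact (Subgroup.commutator_mono inf_le_right (hDP.trans inf_le_right)).trans hDT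
    · have h1 : D ⊓ Subgroup.centralizer (P : Set G) ≤ Subgroup.normalizer (W : Set G) :=
        (inf_le_inf_right _ inf_le_left).trans (le_normalizer_rc q CHP)
      have h3 : D ⊓ Subgroup.centralizer (P : Set G) ≤
          Subgroup.normalizer ((W ⊓ D : Subgroup G) : Set G) :=
        (le_inf h1 Subgroup.le_normalizer_of_normal).trans Subgroup.inf_normalizer_le_normalizer_inf
      exact h3.trans Subgroup.normalizer_le_normalizer_sup_normal
  have h5 : (W ⊓ D) ⊔ N ≤ rc[q, D] := le_rc hSD hDnorm hSc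
  have h6 : rc[q, D] ≤ rc[q, H] := by
    haveI := rc_normal q D
    exact le_rc ((rc_le q D).trans inf_le_left) Subgroup.le_normalizer_of_normal (rc_coprime q D)
  apply sup_le
  · exact (le_inf inf_le_right (inf_le_left.trans hYD)).trans (le_sup_left.trans (h5.trans h6))
  · exact h4.trans hNR

end Cfsg.Agent.Lib.Helper69.Signalizer
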