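import Mathlib
import Cfsg.Prelude.Def_ClassicalGeometry
import Cfsg.Agent.Lib.Helper48.Sp2GDefs

/-!
# K-Sp2G-C (keystone 241104, S2411): the torus trick
`[hT k, b (hT k) b⁻¹] = sx ((k-1)²/k)` for `b = sx 1 * wC`.
-/

set_option autoImplicit false

namespace Cfsg.Agent.Lib.Helper69.Sp2G

open Matrix Cfsg.Agent.Lib.Helper48.RSp Cfsg.Agent.Lib.Helper48.Sp2G Cfsg.Agent.Lib.Helper18

section aux

variable {n : Type*} [Fintype n] [DecidableEq n] {F : Type*} [Field F]

theorem diag_mul_single (d : n → F) (i j : n) (c : F) :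
    Matrix.diagonal d * Matrix.single i j c = Matrix.single i j (d i * c) := by
  ext a b
  rw [Matrix.diagonal_mul]
  simp only [Matrix.single_apply]
  split_ifs with h
  · rw [h.1]
  · simp

theorem single_mul_diag (d : n → F) (i j : n) (c : F) :
    Matrix.single i j c * Matrix.diagonal d = Matrix.single i j (c * d j) := by
  ext a b
  rw [Matrix.mul_diagonal]
  simp only [Matrix.single_apply]
  split_ifs with h
  · rw [h.2]
  · simp

end aux

section main

variable (m : ℕ) {F : Type*} [Field F]

/-- the diagonal `(1, k, 1, …, 1)` -/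
def d1 (k : F) : Fin (m + 2) → F := fun j => if j = 1 then k else 1

theorem one_ne_zero' : (1 : Fin (m + 2)) ≠ 0 := by
  intro h
  have := congrArg Fin.val h
  simp at this

theorem last_ne_zero : (Fin.last (m + 1) : Fin (m + 2)) ≠ 0 := by
  intro h
  have := congrArg Fin.val h
  simp at this

@[simp] theorem d1_zero (k : F) : d1 m k 0 = 1 := by
  unfold d1
  rw [if_neg (one_ne_zero' m).symm]

@[simp] theorem d1_one (k : F) : d1 m k 1 = k := by
  unfold d1
  rw [if_pos rfl]

@[simp] theorem kvec_zero (k : F) : kvec m k 0 = k := by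
  unfold kvec
  rw [if_pos rfl]

@[simp] theorem kvec_one (k : F) : kvec m k 1 = 1 := by
  unfold kvec
  rw [if_neg (one_ne_zero' m)]

@[simp] theorem kvec_last (k : F) : kvec m k (Fin.last (m + 1)) = 1 := by
  unfold kvec
  rw [if_neg (last_ne_zero m)]

/-- `l(diag(1,k,1,…,1))` -/
def lD1 (k : F) : BM m F :=
  Matrix.fromBlocks (Matrix.diagonal (d1 m k)) 0 0 (Matrix.diagonal (d1 m k⁻¹))

/-- the conjugate `b (hT k) b⁻¹` -/
def Ymat (k : F) : BM m F :=
  Matrix.fromBlocks (Matrix.diagonal (d1 m k) + Matrix.single 0 1 (k - 1)) 0 0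
    (Matrix.diagonal (d1 m k⁻¹) - Matrix.single 1 0 ((k - 1) / k))

theorem NT_diag (k : F) :
    (Nup m F)ᵀ * Matrix.diagonal (kvec m k) = Matrix.diagonal (d1 m k) * (Nup m F)ᵀ := by
  ext i j
  rw [Matrix.mul_diagonal, Matrix.diagonal_mul]
  simp only [Matrix.transpose_apply, Nup, kvec, d1]
  by_cases h : j.val + 1 = i.val
  · have hiff : j = 0 ↔ i = 1 := by
      constructor
      · intro hj
        apply Fin.ext
        rw [Fin.val_one, ← h, hj]
        simp
      · intro hi
        apply Fin.ext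
        rw [hi, Fin.val_one] at h
        simp at h
        simpa using h
    by_cases hj : j = 0
    · rw [if_pos h, if_pos hj, if_pos (hiff.mp hj)]
      ring
    · rw [if_pos h, if_neg hj, if_neg (fun hi => hj (hiff.mpr hi))]
  · rw [if_neg h]
    ring

theorem wC_mul_hT (k : F) : wC m F * hT m k = lD1 m k * wC m F := by
  unfold wC hT lD1
  rw [Matrix.fromBlocks_multiply, Matrix.fromBlocks_multiply]
  congr 1
  · rw [Matrix.mul_zero, add_zero, Matrix.zero_mul, add_zero, NT_diag]
  · rw [Matrix.mul_zero, zero_add, Matrix.zero_mul, add_zero, Matrix.neg_mul, Matrix.mul_neg,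
      single_mul_diag, diag_mul_single, kvec_last, d1_zero]
  · rw [Matrix.mul_zero, add_zero, Matrix.zero_mul, zero_add,
      single_mul_diag, diag_mul_single, kvec_last, d1_zero]
  · rw [Matrix.mul_zero, zero_add, Matrix.zero_mul, zero_add, NT_diag]

theorem sx_mul_lD1 (k : F) (hk : k ≠ 0) : sx m (1 : F) * lD1 m k = Ymat m k * sx m (1 : F) := by
  unfold sx lD1 Ymat
  rw [Matrix.fromBlocks_multiply, Matrix.fromBlocks_multiply]
  congr 1
  · simp only [Matrix.mul_zero, Matrix.zero_mul, add_zero, zero_add]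
    rw [Matrix.add_mul, Matrix.one_mul,
      single_mul_diag, Matrix.mul_add, Matrix.mul_one, Matrix.add_mul, diag_mul_single,
      Matrix.single_mul_single_of_ne (c := k - 1) _ _ _ (one_ne_zero' m), d1_one, d1_zero, add_zero,
      add_assoc, ← Matrix.single_add]
    congr 2
    ring
  · simp
  · simp
  · simp only [Matrix.mul_zero, Matrix.zero_mul, add_zero, zero_add]
    rw [Matrix.sub_mul, Matrix.one_mul,
      single_mul_diag, Matrix.mul_sub, Matrix.mul_one, Matrix.sub_mul, diag_mul_single,
      Matrix.single_mul_single_of_ne (c := (k - 1) / k) _ _ _ (one_ne_zero' m).symm, d1_one, d1_zero,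
      sub_zero, sub_sub, ← Matrix.single_add]
    congr 2
    field_simp
    ring

theorem hT_mul_Ymat (k : F) (hk : k ≠ 0) :
    hT m k * Ymat m k = sx m ((k - 1) ^ 2 / k) * Ymat m k * hT m k := by
  unfold sx hT Ymat
  rw [Matrix.fromBlocks_multiply, Matrix.fromBlocks_multiply, Matrix.fromBlocks_multiply]
  congr 1
  · simp only [Matrix.mul_zero, Matrix.zero_mul, add_zero, zero_add]
    rw [Matrix.mul_add,
      diag_mul_single, Matrix.add_mul, Matrix.one_mul, Matrix.mul_add, single_mul_diag,
      Matrix.single_mul_single_of_ne (c := (k - 1) ^ 2 / k) _ _ _ (one_ne_zero' m), add_zero,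
      Matrix.add_mul, Matrix.add_mul, single_mul_diag, single_mul_diag, Matrix.diagonal_mul_diagonal,
      Matrix.diagonal_mul_diagonal, kvec_zero, kvec_one, d1_one, add_assoc, ← Matrix.single_add]
    congr 2
    · funext i
      ring
    · field_simp
      ring
  · simp
  · simp
  · simp only [Matrix.mul_zero, Matrix.zero_mul, add_zero, zero_add]
    rw [Matrix.mul_sub,
      diag_mul_single, Matrix.sub_mul, Matrix.one_mul, Matrix.mul_sub, single_mul_diag,
      Matrix.single_mul_single_of_ne (c := (k - 1) ^ 2 / k) _ _ _ (one_ne_zero' m).symm, sub_zero,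
      Matrix.sub_mul, Matrix.sub_mul, single_mul_diag, single_mul_diag, Matrix.diagonal_mul_diagonal,
      Matrix.diagonal_mul_diagonal, kvec_zero, kvec_one, d1_zero, sub_sub, ← Matrix.single_add]
    congr 2
    · funext i
      ring
    · field_simp
      ring

end main

theorem inG_sx_of {m : ℕ} {F : Type*} [Field F] {G : Subgroup (SpG m F)} (k : F) (hk0 : k ≠ 0)
    (hh : InG G (hT m k)) (hB : InG G (sx m (1 : F) * wC m F)) :
    InG G (sx m ((k - 1) ^ 2 / k)) := by
  have h1 : (sx m (1 : F) * wC m F) * hT m k = Ymat m k * (sx m (1 : F) * wC m F) := by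
    rw [Matrix.mul_assoc, wC_mul_hT, ← Matrix.mul_assoc, sx_mul_lD1 m k hk0, Matrix.mul_assoc]
  have hY : InG G (Ymat m k) := inG_of_conj hB hh h1
  have h2 := hT_mul_Ymat m k hk0
  have h3 : InG G (sx m ((k - 1) ^ 2 / k) * Ymat m k * hT m k) := h2 ▸ inG_mul hh hY
  exact inG_of_mul_right hY (inG_of_mul_right hh h3)

end Cfsg.Agent.Lib.Helper69.Sp2G
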