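import Mathlib
import Cfsg.Prelude.Def_ClassicalGeometry
import Cfsg.Agent.Lib.Helper48.Sp2GDefs

/-!
# K-Sp2G-Ea (keystone 241106, S2411): long root elements
-/

set_option autoImplicit false

namespace Cfsg.Agent.Lib.Helper69.Sp2G

open Matrix Cfsg.Agent.Lib.Helper48.RSp Cfsg.Agent.Lib.Helper48.Sp2G Cfsg.Agent.Lib.Helper18

theorem wC_mul_z0 (m : ℕ) (F : Type*) [Field F] : wC m F * z0 m F = zL m F * wC m F := by
  unfold wC z0 zL xMat
  rw [Matrix.fromBlocks_multiply, Matrix.fromBlocks_multiply]
  have hlast : (Fin.last (m + 1) : Fin (m + 2)) ≠ 0 := by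
    intro h
    have := congrArg Fin.val h
    simp at this
  have h10 : (1 : Fin (m + 2)) ≠ 0 := by
    intro h
    have := congrArg Fin.val h
    simp at this
  have e1 : (Matrix.single (1 : Fin (m + 2)) 1 (1 : F)) *
      Matrix.single (0 : Fin (m + 2)) (Fin.last (m + 1)) (1 : F) = 0 :=
    Matrix.single_mul_single_of_ne (c := (1 : F)) _ _ _ h10 _
  have e2 : (Matrix.single (0 : Fin (m + 2)) (Fin.last (m + 1)) (1 : F)) * E00 m F = 0 := by
    unfold E00
    exact Matrix.single_mul_single_of_ne (c := (1 : F)) _ _ _ hlast _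
  have e3 : (Nup m F)ᵀ * E00 m F = Matrix.single (1 : Fin (m + 2)) 1 (1 : F) * (Nup m F)ᵀ := by
    unfold E00
    ext i j
    by_cases hj : j = 0
    · subst hj
      rw [Matrix.mul_single_apply_same]
      by_cases hi : i = 1
      · subst hi
        rw [Matrix.single_mul_apply_same]
        ring
      · rw [Matrix.single_mul_apply_of_ne (h := hi)]
        have : ¬ ((0 : Fin (m + 2)).val + 1 = i.val) := by
          intro h
          apply hi
          apply Fin.ext
          rw [Fin.val_one, ← h]
          simp
        have this' : ¬ (1 = i.val) := by simpa using this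
        simp [Nup, this']
    · rw [Matrix.mul_single_apply_of_ne (hbj := hj)]
      by_cases hi : i = 1
      · subst hi
        rw [Matrix.single_mul_apply_same]
        have : ¬ (j.val + 1 = (1 : Fin (m + 2)).val) := by
          intro h
          apply hj
          apply Fin.ext
          rw [Fin.val_one] at h
          simp at h
          simpa using h
        simp [Nup, hj]
      · rw [Matrix.single_mul_apply_of_ne (h := hi)]
  congr 1
  · simp [e1]
  · simp [e3, add_comm]
  · simp
  · simp [e2]

theorem hT_mul_xMat_E00 (m : ℕ) {F : Type*} [Field F] (k a : F) (hk : k ≠ 0) :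
    hT m k * xMat m (a • E00 m F) = xMat m ((k ^ 2 * a) • E00 m F) * hT m k := by
  unfold hT xMat
  rw [Matrix.fromBlocks_multiply, Matrix.fromBlocks_multiply]
  have e : Matrix.diagonal (kvec m k) * (a • E00 m F) =
      ((k ^ 2 * a) • E00 m F) * Matrix.diagonal (kvec m k⁻¹) := by
    ext i j
    rw [Matrix.diagonal_mul, Matrix.mul_diagonal]
    simp only [E00, Matrix.smul_apply, Matrix.single_apply, kvec, smul_eq_mul]
    by_cases hi : i = 0
    · by_cases hj : j = 0
      · subst hi; subst hj
        simp
        field_simp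
      · simp [hi, hj, eq_comm]
    · simp [hi, eq_comm]
  simp only [Matrix.mul_one, Matrix.one_mul, Matrix.mul_zero, Matrix.zero_mul, add_zero, zero_add, e]

end Cfsg.Agent.Lib.Helper69.Sp2G
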