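import Mathlib

/-!
# K-Sp2G-Eb (keystone 241107, S2411): an additive subgroup of a finite field containing `1` and stable
under `k²`, `k` a generator of the multiplicative group, is everything.
-/

set_option autoImplicit false

namespace Cfsg.Agent.Lib.Helper69.Sp2G

open Polynomial

theorem addSubgroup_eq_top_of_sq {F : Type*} [Field F] [Fintype F] (k : F)
    (hgen : ∀ x : F, x ≠ 0 → ∃ j : ℕ, x = k ^ (j + 1)) (S : AddSubgroup F) (h1 : (1 : F) ∈ S)
    (hk : ∀ a ∈ S, k ^ 2 * a ∈ S) : ∀ a : F, a ∈ S := by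
  have hpow : ∀ j : ℕ, k ^ (2 * j) ∈ S := by
    intro j
    induction j with
    | zero => simpa using h1
    | succ j ih =>
      have := hk _ ih
      have e : k ^ (2 * (j + 1)) = k ^ 2 * k ^ (2 * j) := by ring
      rw [e]; exact this
  have hsq : ∀ y : F, y ^ 2 ∈ S := by
    intro y
    by_cases hy : y = 0
    · subst hy
      simpa using S.zero_mem
    · obtain ⟨j, rfl⟩ := hgen y hy
      have e : (k ^ (j + 1)) ^ 2 = k ^ (2 * (j + 1)) := by ring
      rw [e]; exact hpow _
  intro a
  rcases Nat.mod_two_eq_zero_or_one (Fintype.card F) with hc | hc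
  · have hchar : ringChar F = 2 := FiniteField.even_card_iff_char_two.mpr hc
    obtain ⟨y, hy⟩ := FiniteField.isSquare_of_char_two hchar a
    rw [hy, ← pow_two]
    exact hsq y
  · have hf : degree (X ^ 2 : F[X]) = 2 := degree_X_pow 2
    have hg : degree (X ^ 2 - C a : F[X]) = 2 := degree_X_pow_sub_C (by norm_num) a
    obtain ⟨x, y, hxy⟩ := FiniteField.exists_root_sum_quadratic hf hg hc
    simp only [eval_pow, eval_X, eval_sub, eval_C] at hxy
    have : a = x ^ 2 + y ^ 2 := by linear_combination -hxy
    rw [this]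
    exact S.add_mem (hsq x) (hsq y)

end Cfsg.Agent.Lib.Helper69.Sp2G
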