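import Mathlib
import Cfsg.Prelude.Def_ClassicalGeometry
import Cfsg.Agent.Lib.Helper48.Sp2GDefs

/-!
# K-Sp2G-M2a (keystone 241102, S2411): `(hT k * zL) ^ |F| = hT k`
-/

set_option autoImplicit false

namespace Cfsg.Agent.Lib.Helper69.Sp2G

open Matrix Cfsg.Agent.Lib.Helper48.RSp Cfsg.Agent.Lib.Helper48.Sp2G Cfsg.Agent.Lib.Helper18

section

variable (m : ℕ) {F : Type*} [Field F]

theorem one_ne_zero_fin : (1 : Fin (m + 2)) ≠ 0 := by
  intro h
  have := congrArg Fin.val h
  simp at this

theorem hT_pow (k : F) (n : ℕ) :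
    hT m k ^ n = Matrix.fromBlocks (Matrix.diagonal (fun j => kvec m k j ^ n)) 0 0
      (Matrix.diagonal (fun j => kvec m k⁻¹ j ^ n)) := by
  induction n with
  | zero =>
    simp only [pow_zero]
    rw [← Matrix.fromBlocks_one]
    congr 1 <;> simp
  | succ n ih =>
    rw [pow_succ, ih]
    unfold hT
    rw [Matrix.fromBlocks_multiply]
    simp only [Matrix.mul_zero, Matrix.zero_mul, add_zero, zero_add, Matrix.diagonal_mul_diagonal]
    congr 2 <;> funext j <;> rw [pow_succ]

theorem zL_pow (n : ℕ) :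
    zL m F ^ n = xMat m ((n : F) • Matrix.single (1 : Fin (m + 2)) 1 (1 : F)) := by
  induction n with
  | zero =>
    simp only [pow_zero, Nat.cast_zero, zero_smul]
    exact xMat_zero.symm
  | succ n ih =>
    rw [pow_succ, ih]
    unfold zL
    rw [xMat_mul]
    congr 1
    rw [Nat.cast_succ, add_smul, one_smul]

theorem hT_comm_zL (k : F) : Commute (hT m k) (zL m F) := by
  unfold Commute SemiconjBy hT zL xMat
  rw [Matrix.fromBlocks_multiply, Matrix.fromBlocks_multiply]
  have e1 : Matrix.diagonal (kvec m k) * Matrix.single (1 : Fin (m + 2)) (1 : Fin (m + 2)) (1 : F) =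
      Matrix.single (1 : Fin (m + 2)) (1 : Fin (m + 2)) (1 : F) := by
    ext a b
    rw [Matrix.diagonal_mul]
    simp only [Matrix.single_apply, kvec]
    split_ifs with h1 h2
    · exfalso; exact one_ne_zero_fin m (h2.1.trans h1)
    · simp
    · simp
    · simp
  have e2 : Matrix.single (1 : Fin (m + 2)) (1 : Fin (m + 2)) (1 : F) * Matrix.diagonal (kvec m k⁻¹) =
      Matrix.single (1 : Fin (m + 2)) (1 : Fin (m + 2)) (1 : F) := by
    ext a b
    rw [Matrix.mul_diagonal]
    simp only [Matrix.single_apply, kvec]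
    split_ifs with h1 h2
    · exfalso; exact one_ne_zero_fin m (h1.2.trans h2)
    · simp
    · simp
    · simp
  simp only [Matrix.mul_zero, Matrix.zero_mul, add_zero, zero_add, Matrix.mul_one, Matrix.one_mul]
  congr 1
  exact e1.trans e2.symm

end

theorem hT_mul_zL_pow_card (m : ℕ) {F : Type*} [Field F] [Fintype F] (k : F) :
    (hT m k * zL m F) ^ (Fintype.card F) = hT m k := by
  rw [(hT_comm_zL m k).mul_pow, zL_pow, hT_pow]
  have h0 : ((Fintype.card F : ℕ) : F) = 0 := FiniteField.cast_card_eq_zero F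
  rw [h0, zero_smul, xMat_zero, Matrix.mul_one]
  unfold hT
  congr 2 <;> funext j <;> exact FiniteField.pow_card _

end Cfsg.Agent.Lib.Helper69.Sp2G
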