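import Mathlib
import Cfsg.Agent.Lib.Helper69.StNDefs
import Cfsg.Agent.Lib.Helper07.SLGen
import Cfsg.Agent.Lib.Helper99.StNA12
import Cfsg.Agent.Lib.Helper63.StNA3
import Cfsg.Agent.Lib.Helper61.StNA4
import Cfsg.Agent.Lib.Helper18.StNA5
import Cfsg.Agent.Lib.Helper18.StNB2
import Cfsg.Agent.Lib.Helper81.StNB4
import Cfsg.Agent.Lib.Helper80.StNC1
import Cfsg.Agent.Lib.Helper32.StNC4
import Cfsg.Agent.Lib.Helper79.StND0
import Cfsg.Agent.Lib.Helper77.StND1
import Cfsg.Agent.Lib.Helper26.StND2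
import Cfsg.Agent.Lib.Helper65.StND3
import Cfsg.Agent.Lib.Helper66.StNE1
import Cfsg.Agent.Lib.Helper20.StNE2
import Cfsg.Agent.Lib.Helper88.StNE4
import Cfsg.Agent.Lib.Helper82.StNF1
import Cfsg.Agent.Lib.Helper23.StNG1
import Cfsg.Agent.Lib.Helper40.StNG2
import Cfsg.Agent.Lib.Helper21.StNH1
import Cfsg.Agent.Lib.Helper17.StNH2a
import Cfsg.Agent.Lib.Helper90.StNH2c
import Cfsg.Agent.Lib.Helper50.StNH2d
import Cfsg.Agent.Lib.Helper58.StNH2

/-!
# K-StN main theorems (pack K-StN of helper69, for S2401)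

A Steinberg family `X` of elements of a group `S` (relations of `SL_n(K)`, `n ≥ 3`, `K` a finite
field), generating `S`, with a homomorphism `φ : S → SL_n(K)` sending `X i j t` to the elementary
transvection: `φ` is injective and surjective. The leaves are the 23 keystones of the pack, proved by
helper99, helper63, helper61, helper18, helper81, helper80, helper32, helper79, helper77, helper26,
helper65, helper66, helper20, helper88, helper82, helper23, helper40, helper21, helper17, helper90,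
helper50, helper58 (and parallel hands); this file is the glue.
-/

set_option autoImplicit false
set_option linter.unusedVariables false
set_option linter.unusedSectionVars false
set_option linter.style.longLine false

namespace Cfsg.Agent.Lib.Helper69.StN

open Matrix

variable {n : ℕ} {K : Type*} [Field K] {S : Type*} [Group S] {X : Fin n → Fin n → K → S}

theorem hasActsW_of (hX : IsSt X) (hn : 3 ≤ n) : HasActsW X :=
  Cfsg.Agent.Lib.Helper18.StN.acts_w
    (fun h1 h2 h3 h4 h5 h6 u t => Cfsg.Agent.Lib.Helper99.StN.conj_far hX h1 h2 h3 h4 h5 h6 u t)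
    (fun h1 h2 h3 _ hu t => Cfsg.Agent.Lib.Helper99.StN.conj_row hX h1 h2 h3 hu t)
    (fun h1 h2 h3 _ hu t => Cfsg.Agent.Lib.Helper63.StN.conj_col hX h1 h2 h3 hu t)
    (fun hij _ hu t => Cfsg.Agent.Lib.Helper61.StN.conj_self hX hn
      (fun h1 h2 h3 _ hu t => Cfsg.Agent.Lib.Helper99.StN.conj_row hX h1 h2 h3 hu t)
      (fun h1 h2 h3 _ hu t => Cfsg.Agent.Lib.Helper63.StN.conj_col hX h1 h2 h3 hu t) hij hu t)

theorem phi_injective [Finite K] (hn : 3 ≤ n) (hX : IsSt X)
    (hgen : Subgroup.closure {g | ∃ i j, ∃ t : K, i ≠ j ∧ g = X i j t} = ⊤)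
    {φ : S →* SpecialLinearGroup (Fin n) K} (hφ : IsPhi X φ) : Function.Injective φ := by
  obtain ⟨k, rfl⟩ : ∃ k, n = k + 1 := ⟨n - 1, by omega⟩
  have hA : HasActsW X := hasActsW_of hX hn
  have hN : HasActsN X := Cfsg.Agent.Lib.Helper18.StN.hasActsN hA
  have hM : HasHhMul X := Cfsg.Agent.Lib.Helper80.StN.hasHhMul hX hA
  have hconj : ∀ {m h : S}, m ∈ Nmon X → h ∈ Htor X → m * h * m⁻¹ ∈ Htor X :=
    fun hm hh' => Cfsg.Agent.Lib.Helper17.StN.Htor_conj_mem hX hN hm hh'
  have hB := Cfsg.Agent.Lib.Helper40.StN.bruhat hX (Cfsg.Agent.Lib.Helper82.StN.gen_simple hX hgen)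
    (fun hab => Cfsg.Agent.Lib.Helper66.StN.Upos_decomp hX hab)
    (fun hab t => Cfsg.Agent.Lib.Helper20.StN.UposA_conj_neg hX hab t)
    (fun hab _ hm t c => Cfsg.Agent.Lib.Helper23.StN.bruhat_step hX hN hab hm t c)
  rw [injective_iff_map_eq_one]
  intro g hg
  obtain ⟨u, hu, m, hm, u', hu', rfl⟩ := hB g
  have hm1 : φ m = 1 :=
    Cfsg.Agent.Lib.Helper21.StN.phi_mon_eq_one hφ
      (fun hij _ hu => Cfsg.Agent.Lib.Helper79.StN.phi_w hφ hij hu) hu hm hu' hg
  have hmH : m ∈ Htor X :=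
    Cfsg.Agent.Lib.Helper58.StN.Nmon_ker_le_Htor hX hA hconj
      (Cfsg.Agent.Lib.Helper90.StN.nmon_word hX hA
        (fun hij _ hu => Cfsg.Agent.Lib.Helper32.StN.w_symm hX hA hij hu) hconj)
      (Cfsg.Agent.Lib.Helper50.StN.coxeter_rel hX hA hconj)
      (fun hh' => Cfsg.Agent.Lib.Helper18.StN.exists_acts_of_mem_Htor hA hh')
      (fun hg h1 => Cfsg.Agent.Lib.Helper81.StN.perm_eq_one_of_acts (by omega) hφ hg h1) hm hm1
  have hmone : m = 1 :=
    Cfsg.Agent.Lib.Helper65.StN.Htor_inj hX (by omega) hM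
      (Cfsg.Agent.Lib.Helper77.StN.Htor_comm hX hA hM)
      (fun hij _ hu => Cfsg.Agent.Lib.Helper26.StN.hh_swap hX hA hM hij hu)
      (fun h1 h2 h3 _ hu => Cfsg.Agent.Lib.Helper26.StN.hh_eq hX hA hM h1 h2 h3 hu)
      (fun hij _ hu => Cfsg.Agent.Lib.Helper79.StN.phi_hh hφ hij hu) m hmH hm1
  subst hmone
  have huu : φ (u * u') = 1 := by simpa using hg
  have := Cfsg.Agent.Lib.Helper88.StN.Upos_inj hX hφ (u * u') ((Upos X).mul_mem hu hu') huu
  simpa using this

theorem phi_surjective (hX : IsSt X) {φ : S →* SpecialLinearGroup (Fin n) K} (hφ : IsPhi X φ) :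
    Function.Surjective φ := by
  rw [← MonoidHom.range_eq_top]
  apply Cfsg.Agent.Lib.Helper07.eq_top_of_transvection_mem
  intro i j hij c
  exact ⟨X i j c, hφ i j hij c⟩

end Cfsg.Agent.Lib.Helper69.StN
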