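import Mathlib
import Cfsg.Agent.Lib.Helper69.StNDefs

set_option autoImplicit false

/-! The presented Steinberg group of `S2401` carries Steinberg data, is generated by it, and maps to `SL_n`. -/

namespace Cfsg.Agent.Lib.Helper69.StN

open Matrix

variable (n : ℕ) (K : Type*) [Field K]

/-- the index type of the generators. -/
abbrev Idx := {ij : Fin n × Fin n // ij.1 ≠ ij.2}

/-- the relators of `S2401`, verbatim. -/
def rels : Set (FreeGroup (Idx n × K)) :=
  {g : FreeGroup ({ij : Fin n × Fin n // ij.1 ≠ ij.2} × K) | ∃ (a : {ij : Fin n × Fin n // ij.1 ≠ ij.2}) (t u : K),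
      g = FreeGroup.of (a, t) * FreeGroup.of (a, u) * (FreeGroup.of (a, t + u))⁻¹} ∪
    {g | ∃ (a b : {ij : Fin n × Fin n // ij.1 ≠ ij.2}) (t u : K), a.1.1 ≠ b.1.2 ∧ a.1.2 ≠ b.1.1 ∧
      g = FreeGroup.of (a, t) * FreeGroup.of (b, u) * (FreeGroup.of (a, t))⁻¹ * (FreeGroup.of (b, u))⁻¹} ∪
    {g | ∃ (a b : {ij : Fin n × Fin n // ij.1 ≠ ij.2}) (h : a.1.1 ≠ b.1.2) (t u : K), a.1.2 = b.1.1 ∧
      g = FreeGroup.of (a, t) * FreeGroup.of (b, u) * (FreeGroup.of (a, t))⁻¹ * (FreeGroup.of (b, u))⁻¹ *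
        (FreeGroup.of (⟨(a.1.1, b.1.2), h⟩, t * u))⁻¹}

variable {n K}

/-- the root elements of the presented group. -/
noncomputable def XP (i j : Fin n) (t : K) : PresentedGroup (rels n K) :=
  if h : i ≠ j then PresentedGroup.of (⟨(i, j), h⟩, t) else 1

lemma XP_of {i j : Fin n} (h : i ≠ j) (t : K) :
    XP i j t = PresentedGroup.of ((⟨(i, j), h⟩ : Idx n), t) := by
  unfold XP; rw [dif_pos h]

lemma rel_eq_one {r : FreeGroup (Idx n × K)} (hr : r ∈ rels n K) :
    (QuotientGroup.mk r : PresentedGroup (rels n K)) = 1 := by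
  rw [QuotientGroup.eq_one_iff]
  exact Subgroup.subset_normalClosure hr

theorem isSt_XP : IsSt (XP (n := n) (K := K)) where
  add := by
    intro i j hij t u
    rw [XP_of hij, XP_of hij, XP_of hij]
    have := rel_eq_one (n := n) (K := K)
      (r := FreeGroup.of ((⟨(i, j), hij⟩ : Idx n), t) * FreeGroup.of (⟨(i, j), hij⟩, u) *
        (FreeGroup.of (⟨(i, j), hij⟩, t + u))⁻¹)
      (Or.inl (Or.inl ⟨⟨(i, j), hij⟩, t, u, rfl⟩))
    rw [← mul_inv_eq_one]
    exact this
  comm := by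
    intro i j k l hij hkl hil hjk t u
    rw [XP_of hij, XP_of hkl]
    have := rel_eq_one (n := n) (K := K)
      (r := FreeGroup.of ((⟨(i, j), hij⟩ : Idx n), t) * FreeGroup.of (⟨(k, l), hkl⟩, u) *
        (FreeGroup.of (⟨(i, j), hij⟩, t))⁻¹ * (FreeGroup.of (⟨(k, l), hkl⟩, u))⁻¹)
      (Or.inl (Or.inr ⟨⟨(i, j), hij⟩, ⟨(k, l), hkl⟩, t, u, hil, hjk, rfl⟩))
    have h2 : (PresentedGroup.of ((⟨(i, j), hij⟩ : Idx n), t) : PresentedGroup (rels n K)) *
        PresentedGroup.of (⟨(k, l), hkl⟩, u) * (PresentedGroup.of (⟨(i, j), hij⟩, t))⁻¹ *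
        (PresentedGroup.of (⟨(k, l), hkl⟩, u))⁻¹ = 1 := this
    rw [mul_inv_eq_one, mul_inv_eq_iff_eq_mul] at h2
    exact h2
  comm3 := by
    intro i j l hij hjl hil t u
    rw [XP_of hij, XP_of hjl, XP_of hil]
    have := rel_eq_one (n := n) (K := K)
      (r := FreeGroup.of ((⟨(i, j), hij⟩ : Idx n), t) * FreeGroup.of (⟨(j, l), hjl⟩, u) *
        (FreeGroup.of (⟨(i, j), hij⟩, t))⁻¹ * (FreeGroup.of (⟨(j, l), hjl⟩, u))⁻¹ *
        (FreeGroup.of (⟨(i, l), hil⟩, t * u))⁻¹)
      (Or.inr ⟨⟨(i, j), hij⟩, ⟨(j, l), hjl⟩, hil, t, u, rfl, rfl⟩)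
    rw [← mul_inv_eq_one]
    exact this

theorem gen_XP :
    Subgroup.closure {g : PresentedGroup (rels n K) | ∃ i j, ∃ t : K, i ≠ j ∧ g = XP i j t} = ⊤ := by
  rw [eq_top_iff, ← PresentedGroup.closure_range_of]
  apply Subgroup.closure_mono
  rintro g ⟨⟨⟨⟨i, j⟩, hij⟩, t⟩, rfl⟩
  exact ⟨i, j, t, hij, (XP_of (i := i) (j := j) hij t).symm⟩

/-- the images of the generators in `SL_n`. -/
def genSL : Idx n × K → SpecialLinearGroup (Fin n) K :=
  fun p => SpecialLinearGroup.transvection p.1.2 p.2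

section hom
open Matrix.SpecialLinearGroup

lemma tv_add {i j : Fin n} (hij : i ≠ j) (t u : K) :
    transvection hij t * transvection hij u = transvection hij (t + u) := by
  apply Subtype.ext
  show Matrix.transvection i j t * Matrix.transvection i j u = Matrix.transvection i j (t + u)
  exact _root_.Matrix.transvection_mul_transvection_same i j hij t u

lemma tv_inv' {i j : Fin n} (hij : i ≠ j) (t : K) :
    (transvection hij t)⁻¹ = transvection hij (-t) := by
  rw [inv_eq_iff_mul_eq_one, tv_add, add_neg_cancel]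
  exact transvection_coeff_zero hij

lemma tv_comm {i j k l : Fin n} (hij : i ≠ j) (hkl : k ≠ l) (hil : i ≠ l) (hjk : j ≠ k) (t u : K) :
    transvection hij t * transvection hkl u = transvection hkl u * transvection hij t := by
  apply Subtype.ext
  simp only [coe_mul, transvection_coe]
  simp only [mul_add, add_mul, mul_one, one_mul, single_mul_single_of_ne _ _ _ _ hjk,
    single_mul_single_of_ne _ _ _ _ hil.symm]
  abel

lemma tv_comm3 {i j l : Fin n} (hij : i ≠ j) (hjl : j ≠ l) (hil : i ≠ l) (t u : K) :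
    transvection hij t * transvection hjl u * (transvection hij t)⁻¹ * (transvection hjl u)⁻¹ =
      transvection hil (t * u) := by
  rw [tv_inv', tv_inv']
  apply Subtype.ext
  simp only [coe_mul, transvection_coe]
  simp only [mul_add, add_mul, mul_one, one_mul, single_mul_single_same,
    single_mul_single_of_ne _ _ _ _ hij.symm, single_mul_single_of_ne _ _ _ _ hjl.symm,
    single_mul_single_of_ne _ _ _ _ hil.symm, add_zero]
  obtain ⟨E, hE⟩ : ∃ E : Fin n → Fin n → Matrix (Fin n) (Fin n) K, ∀ p q (c : K), single p q c = c • E p q :=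
    ⟨fun p q => single p q 1, by intro p q c; simp [smul_single]⟩
  simp only [hE]
  module

lemma genSL_rels : ∀ r ∈ rels n K, FreeGroup.lift (genSL (n := n) (K := K)) r = 1 := by
  rintro r ((⟨a, t, u, rfl⟩ | ⟨a, b, t, u, h1, h2, rfl⟩) | ⟨a, b, h, t, u, h1, rfl⟩)
  · simp only [map_mul, map_inv, FreeGroup.lift_apply_of, genSL]
    rw [mul_inv_eq_one]
    exact tv_add a.2 t u
  · simp only [map_mul, map_inv, FreeGroup.lift_apply_of, genSL]
    rw [mul_inv_eq_one, mul_inv_eq_iff_eq_mul]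
    exact tv_comm a.2 b.2 h1 h2 t u
  · simp only [map_mul, map_inv, FreeGroup.lift_apply_of, genSL]
    rw [mul_inv_eq_one]
    obtain ⟨⟨i, j⟩, hij⟩ := a
    obtain ⟨⟨j', l⟩, hjl⟩ := b
    simp only at h1 h hij hjl
    subst h1
    exact tv_comm3 hij hjl h t u

/-- the comparison homomorphism of the presented group. -/
noncomputable def phiP : PresentedGroup (rels n K) →* SpecialLinearGroup (Fin n) K :=
  PresentedGroup.toGroup genSL_rels

lemma phiP_of (p : Idx n × K) : phiP (PresentedGroup.of p) = genSL p :=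
  PresentedGroup.toGroup.of genSL_rels

theorem isPhi_phiP : IsPhi (XP (n := n) (K := K)) phiP := by
  intro i j hij t
  rw [XP_of hij, phiP_of]
  rfl

end hom

end Cfsg.Agent.Lib.Helper69.StN
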